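import Groth.Agent.Lib.MagFace16.Chart
import Mathlib.AlgebraicGeometry.Morphisms.Affine

/-! Actions of diagonalizable monoid schemes on relatively affine schemes, as coactions on affine charts. -/

set_option autoImplicit false
set_option linter.style.haveILetI false
set_option backward.isDefEq.respectTransparency.types false
universe u

open CategoryTheory CategoryTheory.Limits MonoidalCategory CartesianMonoidalCategory MonObj AlgebraicGeometry
  Opposite

noncomputable section

namespace Groth.Agent.MagFace16

open Groth.Agent.Magnet16 (chS chS_nat chS_mul chS_inj chS_surj chS_map chS_one)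

variable {S : Scheme.{u}} {R : Type u} [CommRing R] (str : Spec (CommRingCat.of R) ⟶ S)

/-- An affine model of the base change of an `S`-scheme to `Spec R`. -/
structure Model (X : Over S) : Type (u + 1) where
  /-- The ring of functions. -/
  B : Type u
  [ring : CommRing B]
  [alg : Algebra R B]
  /-- The universal point. -/
  e : spT str B ⟶ X
  cart : IsPullback e.left (Spec.map (CommRingCat.ofHom (algebraMap R B))) X.hom str
  univ : ∀ (C : Type u) [CommRing C] [Algebra R C] (y : spT str C ⟶ X), ∃! c : B →ₐ[R] C, spHom str c ≫ e = y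

attribute [instance] Model.ring Model.alg

theorem nonempty_model (X : Over S) [IsAffineHom X.hom] : Nonempty (Model str X) := by
  let Q := pullback X.hom str
  haveI : IsAffine Q := isAffine_of_isAffineHom (pullback.snd X.hom str)
  let φ := Spec.preimage (Q.isoSpec.inv ≫ pullback.snd X.hom str)
  letI : Algebra R Γ(Q, ⊤) := φ.hom.toAlgebra
  have hφ : Spec.map (CommRingCat.ofHom (algebraMap R Γ(Q, ⊤))) = Q.isoSpec.inv ≫ pullback.snd X.hom str :=
    Spec.map_preimage _
  refine ⟨⟨Γ(Q, ⊤), Over.homMk (Q.isoSpec.inv ≫ pullback.fst X.hom str) ?_, ?_, fun C _ _ y => ?_⟩⟩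
  · show (Q.isoSpec.inv ≫ pullback.fst X.hom str) ≫ X.hom =
      Spec.map (CommRingCat.ofHom (algebraMap R Γ(Q, ⊤))) ≫ str
    rw [hφ, Category.assoc, Category.assoc, pullback.condition]
  · exact IsPullback.of_iso (IsPullback.of_hasPullback X.hom str) Q.isoSpec (Iso.refl _) (Iso.refl _) (Iso.refl _)
      (by simp) (by rw [Iso.refl_hom, Category.comp_id, hφ, Iso.hom_inv_id_assoc]) (by simp) (by simp)
  · let l : (spT str C).left ⟶ Q :=
      pullback.lift y.left (Spec.map (CommRingCat.ofHom (algebraMap R C))) (Over.w y)
    obtain ⟨c0, hc0⟩ : ∃ c0, Spec.map c0 = l ≫ Q.isoSpec.hom := ⟨_, Spec.map_preimage _⟩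
    have hcomm : CommRingCat.ofHom (algebraMap R Γ(Q, ⊤)) ≫ c0 = CommRingCat.ofHom (algebraMap R C) := by
      apply Spec.map_injective
      rw [Spec.map_comp, hc0, hφ, Category.assoc, Iso.hom_inv_id_assoc, pullback.lift_snd]
    let c : Γ(Q, ⊤) →ₐ[R] C := { c0.hom with commutes' := fun r => ConcreteCategory.congr_hom hcomm r }
    refine ⟨c, Over.OverMorphism.ext ?_, fun c' hc' => ?_⟩
    · show Spec.map c0 ≫ Q.isoSpec.inv ≫ pullback.fst X.hom str = y.left
      rw [hc0, Category.assoc, Iso.hom_inv_id_assoc, pullback.lift_fst]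
    · refine AlgHom.coe_ringHom_injective ?_
      have h1 : Spec.map (CommRingCat.ofHom c'.toRingHom) ≫ Q.isoSpec.inv = l := by
        refine pullback.hom_ext ?_ ?_
        · rw [pullback.lift_fst, Category.assoc]
          exact congrArg (fun z => z.left) hc'
        · rw [pullback.lift_snd, Category.assoc, ← hφ, ← Spec.map_comp, ← CommRingCat.ofHom_comp]
          congr 2
          exact RingHom.ext c'.commutes
      have h2 : CommRingCat.ofHom c'.toRingHom = c0 := by
        apply Spec.map_injective
        rw [hc0, ← h1, Category.assoc, Iso.inv_hom_id, Category.comp_id]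
      exact congrArg CommRingCat.Hom.hom h2

/-- A chosen affine model. -/
def model (X : Over S) [IsAffineHom X.hom] : Model str X := (nonempty_model str X).some

namespace Model

variable {str} {X : Over S} (D : Model str X) {C C' : Type u} [CommRing C] [Algebra R C] [CommRing C'] [Algebra R C']

/-- The point of an algebra map. -/
def pt (c : D.B →ₐ[R] C) : spT str C ⟶ X := spHom str c ≫ D.e

theorem pt_inj {c c' : D.B →ₐ[R] C} (h : D.pt c = D.pt c') : c = c' :=
  (D.univ C (D.pt c')).unique h rfl

theorem pt_surj (y : spT str C ⟶ X) : ∃ c : D.B →ₐ[R] C, D.pt c = y := (D.univ C y).exists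

theorem spHom_pt (φ : C →ₐ[R] C') (c : D.B →ₐ[R] C) : spHom str φ ≫ D.pt c = D.pt (φ.comp c) := by
  rw [pt, pt, ← Category.assoc, spHom_comp]

end Model

section Act

variable {M : Type} [AddCommMonoid M] {C C' : Type u} [CommRing C] [Algebra R C] [CommRing C'] [Algebra R C']

theorem spHom_mapAlgHom_bpt (φ : C →ₐ[R] C') :
    spHom str (MonoidAlgebra.mapAlgHom (Multiplicative M) φ) ≫ bpt str C M = bpt str C' M := by
  refine chS_inj fun m => ?_
  rw [chS_nat, chS_bpt, chS_bpt, appTop_gl, MonoidAlgebra.of_apply, MonoidAlgebra.of_apply,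
    MonoidAlgebra.mapAlgHom_single, map_one]

theorem spHom_mapAlgHom_proj (φ : C →ₐ[R] C') :
    spHom str (MonoidAlgebra.mapAlgHom (Multiplicative M) φ) ≫ proj str C M = proj str C' M ≫ spHom str φ := by
  rw [spHom_comp, spHom_comp]
  congr 1
  refine AlgHom.ext fun c => ?_
  simp [MonoidAlgebra.coe_algebraMap]

variable {X : Over S} (D : Model str X) (a : Magnet.MonAct (Magnet.AMonS S M) X)

/-- The coaction. -/
def rho : D.B →ₐ[R] MonoidAlgebra D.B (Multiplicative M) :=
  (D.pt_surj (lift (bpt str D.B M) (proj str D.B M ≫ D.e) ≫ a.act)).choose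

theorem pt_rho : D.pt (rho str D a) = lift (bpt str D.B M) (proj str D.B M ≫ D.e) ≫ a.act :=
  (D.pt_surj _).choose_spec

theorem pt_act (c : D.B →ₐ[R] C) :
    D.pt ((MonoidAlgebra.mapAlgHom (Multiplicative M) c).comp (rho str D a)) =
      lift (bpt str C M) (proj str C M ≫ D.pt c) ≫ a.act := by
  rw [← D.spHom_pt, pt_rho, comp_lift_assoc, spHom_mapAlgHom_bpt, ← Category.assoc (spHom str _),
    spHom_mapAlgHom_proj, Category.assoc, Model.pt]

/-- All monomials to one. -/
def counit : MonoidAlgebra C (Multiplicative M) →ₐ[R] C :=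
  (MonoidAlgebra.lift C C (Multiplicative M) 1).restrictScalars R

theorem counit_single (m : Multiplicative M) (c : C) : counit (R := R) (MonoidAlgebra.single m c) = c := by
  simp [counit]

theorem spHom_counit_bpt : spHom str (counit (R := R) (C := C) (M := M)) ≫ bpt str C M = 1 := by
  refine chS_inj fun m => ?_
  rw [chS_nat, chS_bpt, appTop_gl, MonoidAlgebra.of_apply, counit_single, chS_one]
  exact map_one _

theorem spHom_counit_proj : spHom str (counit (R := R) (C := C) (M := M)) ≫ proj str C M = 𝟙 _ := by
  rw [spHom_comp, ← spHom_id]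
  congr 1
  refine AlgHom.ext fun c => ?_
  simp [MonoidAlgebra.coe_algebraMap, counit_single]

theorem counit_rho : (counit (R := R)).comp (rho str D a) = AlgHom.id R D.B := by
  apply D.pt_inj
  rw [← D.spHom_pt, pt_rho, comp_lift_assoc, spHom_counit_bpt, ← Category.assoc (spHom str _),
    spHom_counit_proj, Category.id_comp, a.lift_one_act, Model.pt, spHom_id, Category.id_comp]

/-- The comultiplication on the coefficients. -/
def delta : MonoidAlgebra C (Multiplicative M) →ₐ[R]
    MonoidAlgebra (MonoidAlgebra C (Multiplicative M)) (Multiplicative M) :=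
  (MonoidAlgebra.lift C _ (Multiplicative M)
    { toFun := fun m => MonoidAlgebra.single m (MonoidAlgebra.of C _ m)
      map_one' := by simp [MonoidAlgebra.one_def]
      map_mul' := fun x y => by simp [MonoidAlgebra.single_mul_single] }).restrictScalars R

theorem delta_single (m : Multiplicative M) (c : C) :
    delta (R := R) (MonoidAlgebra.single m c) = MonoidAlgebra.single m (MonoidAlgebra.single m c) := by
  simp [delta, MonoidAlgebra.smul_single]

theorem rho_coassoc :
    (MonoidAlgebra.mapAlgHom (Multiplicative M) (rho str D a)).comp (rho str D a) =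
      (delta (R := R)).comp (rho str D a) := by
  apply D.pt_inj
  rw [pt_act, pt_rho, ← D.spHom_pt, pt_rho, comp_lift_assoc, comp_lift_assoc, ← a.lift_mul_act]
  congr 2
  · refine chS_inj fun m => ?_
    rw [chS_mul, chS_bpt, chS_nat, chS_bpt, appTop_gl, chS_nat, chS_bpt, appTop_gl,
      MonoidAlgebra.of_apply (R := D.B), delta_single]
    refine Eq.trans (map_mul (Scheme.ΓSpecIso _).inv.hom _ _).symm ?_
    refine congrArg gl ?_
    simp [MonoidAlgebra.coe_algebraMap, MonoidAlgebra.single_mul_single, MonoidAlgebra.of_apply]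
  · rw [← Category.assoc, ← Category.assoc, spHom_comp, spHom_comp]
    congr 2
    refine AlgHom.ext fun c => ?_
    simp [MonoidAlgebra.coe_algebraMap, delta_single]

theorem rho_coeff_self (b : D.B) (m : Multiplicative M) :
    rho str D a ((rho str D a b).coeff m) = MonoidAlgebra.single m ((rho str D a b).coeff m) := by
  have h := DFunLike.congr_fun (rho_coassoc str D a) b
  have h' := congrArg (fun x => x.coeff m) h
  simp only [AlgHom.comp_apply, MonoidAlgebra.coeff_mapAlgHom] at h'
  rw [h']
  induction rho str D a b using MonoidAlgebra.induction_linear with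
  | zero => simp
  | add x y hx hy => simp [hx, hy]
  | single n c =>
    classical
    rw [delta_single]
    by_cases hnm : n = m
    · subst hnm; simp
    · simp [MonoidAlgebra.coeff_single, Finsupp.single_eq_of_ne (Ne.symm hnm)]

theorem sum_rho_coeff (b : D.B) : ((rho str D a b).coeff.sum fun _ c => c) = b := by
  have h := DFunLike.congr_fun (counit_rho str D a) b
  rw [AlgHom.comp_apply, AlgHom.id_apply] at h
  conv_rhs => rw [← h, ← MonoidAlgebra.sum_coeff_single (rho str D a b)]
  simp [Finsupp.sum, counit_single]

section Theta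

variable {N : AddSubmonoid M}

theorem theta_coeff (f : MonoidAlgebra R (Multiplicative N)) (n : Multiplicative N) :
    (theta (R := R) N f).coeff (Multiplicative.ofAdd ((n.toAdd : N) : M)) = MonoidAlgebra.single n (f.coeff n) := by
  induction f using MonoidAlgebra.induction_linear with
  | zero => simp
  | add x y hx hy => simp [hx, hy]
  | single k r =>
    classical
    rw [show MonoidAlgebra.single k r = r • MonoidAlgebra.of R _ k from by simp [MonoidAlgebra.smul_single],
      map_smul, theta_of, MonoidAlgebra.smul_single]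
    by_cases hkn : k = n
    · subst hkn; simp [MonoidAlgebra.coeff_single, MonoidAlgebra.smul_single]
    · have hne : (Multiplicative.ofAdd ((n.toAdd : N) : M)) ≠ Multiplicative.ofAdd ((k.toAdd : N) : M) := fun h =>
        hkn (Multiplicative.toAdd.injective (Subtype.ext (Multiplicative.ofAdd.injective h))).symm
      simp [MonoidAlgebra.coeff_single, Finsupp.single_eq_of_ne hne, MonoidAlgebra.smul_single,
        Finsupp.single_eq_of_ne (Ne.symm hkn)]

theorem theta_coeff_of_not_mem (f : MonoidAlgebra R (Multiplicative N)) (m : M) (hm : m ∉ N) :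
    (theta (R := R) N f).coeff (Multiplicative.ofAdd m) = 0 := by
  induction f using MonoidAlgebra.induction_linear with
  | zero => simp
  | add x y hx hy => simp [hx, hy]
  | single k r =>
    classical
    rw [show MonoidAlgebra.single k r = r • MonoidAlgebra.of R _ k from by simp [MonoidAlgebra.smul_single],
      map_smul, theta_of, MonoidAlgebra.smul_single]
    have hne : Multiplicative.ofAdd m ≠ Multiplicative.ofAdd ((k.toAdd : N) : M) := fun h =>
      hm (Multiplicative.ofAdd.injective h ▸ k.toAdd.2)
    simp [MonoidAlgebra.coeff_single, Finsupp.single_eq_of_ne hne]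

/-- Equivariant ring maps to a monoid algebra. -/
def IsEq (u : D.B →ₐ[R] MonoidAlgebra R (Multiplicative N)) : Prop :=
  (theta (R := R) N).comp u = (MonoidAlgebra.mapAlgHom (Multiplicative M) u).comp (rho str D a)

theorem isEq_iff (u : D.B →ₐ[R] MonoidAlgebra R (Multiplicative N)) :
    IsEq str D a u ↔ ∀ (b : D.B) (m : Multiplicative M),
      u ((rho str D a b).coeff m) = (theta (R := R) N (u b)).coeff m := by
  refine ⟨fun h b m => ?_, fun h => ?_⟩
  · have h' := congrArg (fun x => x.coeff m) (DFunLike.congr_fun h b)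
    simp only [AlgHom.comp_apply, MonoidAlgebra.coeff_mapAlgHom] at h'
    exact h'.symm
  · refine AlgHom.ext fun b => MonoidAlgebra.coeff_inj.1 (Finsupp.ext fun m => ?_)
    simp only [AlgHom.comp_apply, MonoidAlgebra.coeff_mapAlgHom]
    exact (h b m).symm

/-- Equivariant maps in terms of coactions. -/
theorem isEquivariant_iff {φ : Magnet.AMonS S N ⊗ spT str R ⟶ X}
    {u : D.B →ₐ[R] MonoidAlgebra R (Multiplicative N)} (hu : D.pt u = chart str R N ≫ φ) :
    Magnet.MonAct.IsEquivariant ((Magnet.subAct S M N).prod (Magnet.MonAct.trivial _ (spT str R))) a φ ↔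
      IsEq str D a u := by
  constructor
  · intro h
    have h1 := equivariant_chart str N a h
    rw [← hu, D.spHom_pt, ← pt_act] at h1
    exact D.pt_inj h1
  · intro h
    apply isEquivariant_of_chart str N a
    rw [← hu, D.spHom_pt, ← pt_act, h]

theorem exists_alg (φ : (Magnet.attr a N).obj (op (spT str R))) :
    ∃ u : D.B →ₐ[R] MonoidAlgebra R (Multiplicative N), IsEq str D a u ∧ D.pt u = chart str R N ≫ φ.1 := by
  obtain ⟨u, hu⟩ := D.pt_surj (chart str R N ≫ φ.1)
  exact ⟨u, (isEquivariant_iff str D a hu).1 φ.2, hu⟩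

/-- The family of an equivariant ring map. -/
def ofAlg (u : D.B →ₐ[R] MonoidAlgebra R (Multiplicative N)) (hu : IsEq str D a u) :
    (Magnet.attr a N).obj (op (spT str R)) :=
  ⟨inv (chart str R N) ≫ D.pt u, (isEquivariant_iff str D a (u := u) (by simp)).2 hu⟩

theorem chart_ofAlg (u : D.B →ₐ[R] MonoidAlgebra R (Multiplicative N)) (hu : IsEq str D a u) :
    chart str R N ≫ (ofAlg str D a u hu).1 = D.pt u := by
  simp [ofAlg]

end Theta

end Act

end Groth.Agent.MagFace16
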