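import Groth.Agent.Lib.Magnet16.Coords
import Groth.Prelude.Def_Magnet4
import Mathlib.Algebra.MonoidAlgebra.Basic

/-! Affine charts of products with diagonalizable monoid schemes over an arbitrary base. -/

set_option autoImplicit false
set_option linter.style.haveILetI false
set_option backward.isDefEq.respectTransparency.types false
universe u

open CategoryTheory MonoidalCategory CartesianMonoidalCategory MonObj AlgebraicGeometry Opposite

noncomputable section

namespace Groth.Agent.MagFace16

open Groth.Agent.Magnet16 (chS chS_nat chS_mul chS_inj chS_surj chS_map)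

variable {S : Scheme.{u}} {R : Type u} [CommRing R] (str : Spec (CommRingCat.of R) ⟶ S)

/-- An `R`-algebra as an `S`-scheme. -/
abbrev spT (C : Type u) [CommRing C] [Algebra R C] : Over S :=
  Over.mk (Spec.map (CommRingCat.ofHom (algebraMap R C)) ≫ str)

/-- An element as a global function. -/
abbrev gl {C : Type u} [CommRing C] (c : C) : Γ(Spec (CommRingCat.of C), ⊤) :=
  (Scheme.ΓSpecIso (CommRingCat.of C)).inv c

variable {C C' : Type u} [CommRing C] [Algebra R C] [CommRing C'] [Algebra R C']

/-- An algebra map as a morphism. -/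
def spHom (g : C →ₐ[R] C') : spT str C' ⟶ spT str C :=
  Over.homMk (Spec.map (CommRingCat.ofHom g.toRingHom)) (by
    show Spec.map _ ≫ Spec.map _ ≫ str = _
    rw [← Category.assoc, ← Spec.map_comp, ← CommRingCat.ofHom_comp]
    congr 3
    exact RingHom.ext g.commutes)

instance isAffine_spT : IsAffine (spT str C).left := inferInstanceAs (IsAffine (Spec (CommRingCat.of C)))

theorem appTop_gl (g : C →ₐ[R] C') (c : C) : (spHom str g).left.appTop (gl c) = gl (g c) :=
  (ConcreteCategory.congr_hom (Scheme.ΓSpecIso_inv_naturality (CommRingCat.ofHom g.toRingHom)) c).symm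

theorem gl_injective : Function.Injective (gl (C := C)) :=
  (Scheme.ΓSpecIso (CommRingCat.of C)).commRingCatIsoToRingEquiv.symm.injective

theorem spHom_comp {C'' : Type u} [CommRing C''] [Algebra R C''] (g : C →ₐ[R] C') (h : C' →ₐ[R] C'') :
    spHom str h ≫ spHom str g = spHom str (h.comp g) := by
  apply Over.OverMorphism.ext
  show Spec.map _ ≫ Spec.map _ = Spec.map _
  rw [← Spec.map_comp, ← CommRingCat.ofHom_comp]
  rfl

theorem spHom_id : spHom str (AlgHom.id R C) = 𝟙 _ := by
  apply Over.OverMorphism.ext
  exact Spec.map_id _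

section Chart

variable (N : Type) [AddCommMonoid N] (C)

/-- The universal point of `A(N)`. -/
def bpt : spT str (MonoidAlgebra C (Multiplicative N)) ⟶ Magnet.AMonS S N :=
  (chS_surj (T := spT str (MonoidAlgebra C (Multiplicative N)))
    ((Scheme.ΓSpecIso (CommRingCat.of (MonoidAlgebra C (Multiplicative N)))).inv.hom.toMonoidHom.comp
      (MonoidAlgebra.of C (Multiplicative N)))).choose

theorem chS_bpt (n : Multiplicative N) :
    chS (bpt str C N) n = gl (MonoidAlgebra.of C (Multiplicative N) n) :=
  DFunLike.congr_fun (chS_surj (T := spT str (MonoidAlgebra C (Multiplicative N)))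
    ((Scheme.ΓSpecIso (CommRingCat.of (MonoidAlgebra C (Multiplicative N)))).inv.hom.toMonoidHom.comp
      (MonoidAlgebra.of C (Multiplicative N)))).choose_spec n

/-- The projection to the coefficients. -/
abbrev proj : spT str (MonoidAlgebra C (Multiplicative N)) ⟶ spT str C :=
  spHom str (IsScalarTower.toAlgHom R C (MonoidAlgebra C (Multiplicative N)))

/-- `Spec C[N] → A(N) × Spec C`. -/
def chart : spT str (MonoidAlgebra C (Multiplicative N)) ⟶ Magnet.AMonS S N ⊗ spT str C :=
  lift (bpt str C N) (proj str C N)

instance isIso_chart : IsIso (chart str C N) := by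
  let P := Magnet.AMonS S N ⊗ spT str C
  let σ : C →+* Γ(P.left, ⊤) :=
    ((Scheme.ΓSpecIso (CommRingCat.of C)).inv ≫ (snd (Magnet.AMonS S N) (spT str C)).left.appTop).hom
  letI := σ.toAlgebra
  let φ : MonoidAlgebra C (Multiplicative N) →ₐ[C] Γ(P.left, ⊤) :=
    MonoidAlgebra.lift C Γ(P.left, ⊤) (Multiplicative N) (chS (fst (Magnet.AMonS S N) (spT str C)))
  let CN := MonoidAlgebra C (Multiplicative N)
  let ψl : P.left ⟶ Spec (CommRingCat.of CN) := P.left.toSpecΓ ≫ Spec.map (CommRingCat.ofHom φ.toRingHom)
  have hψt : ∀ x : CN, ψl.appTop (gl x) = φ x := by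
    intro x
    show (P.left.toSpecΓ ≫ Spec.map (CommRingCat.ofHom φ.toRingHom)).appTop (gl x) = φ x
    rw [Scheme.Hom.comp_appTop]
    show P.left.toSpecΓ.appTop ((Spec.map (CommRingCat.ofHom φ.toRingHom)).appTop ((Scheme.ΓSpecIso (CommRingCat.of CN)).inv x)) = _
    rw [← CommRingCat.comp_apply (Scheme.ΓSpecIso (CommRingCat.of CN)).inv, ← Scheme.ΓSpecIso_inv_naturality,
      Scheme.toSpecΓ_appTop]
    exact (Scheme.ΓSpecIso _).inv_hom_id_apply (φ x)
  have hpr : ψl ≫ (proj str C N).left = (snd (Magnet.AMonS S N) (spT str C)).left := by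
    refine ext_of_isAffine (CommRingCat.hom_ext (RingHom.ext fun y => ?_))
    obtain ⟨c, rfl⟩ := (Scheme.ΓSpecIso (CommRingCat.of C)).commRingCatIsoToRingEquiv.symm.surjective y
    show (ψl ≫ (proj str C N).left).appTop (gl c) = _
    rw [Scheme.Hom.comp_appTop]
    show ψl.appTop ((proj str C N).left.appTop (gl c)) = _
    rw [appTop_gl, hψt]
    exact φ.commutes c
  let ψ : P ⟶ spT str CN := Over.homMk ψl (by
    rw [← Over.w (proj str C N), ← Category.assoc, hpr]
    exact Over.w (snd (Magnet.AMonS S N) (spT str C)))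
  have hfst : ψ ≫ bpt str C N = fst _ _ := by
    refine chS_inj fun n => ?_
    rw [chS_nat, chS_bpt]
    show ψl.appTop (gl _) = _
    rw [hψt]
    exact MonoidAlgebra.lift_of (R := C) _ n
  refine ⟨ψ, ?_, ?_⟩
  · apply Over.OverMorphism.ext
    refine ext_of_isAffine (CommRingCat.hom_ext (RingHom.ext fun y => ?_))
    obtain ⟨x, rfl⟩ := (Scheme.ΓSpecIso (CommRingCat.of CN)).commRingCatIsoToRingEquiv.symm.surjective y
    show ((chart str C N).left ≫ ψl).appTop (gl x) = gl x
    rw [Scheme.Hom.comp_appTop]
    show (chart str C N).left.appTop (ψl.appTop (gl x)) = _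
    rw [hψt]
    refine RingHom.congr_fun (f := (chart str C N).left.appTop.hom.comp φ.toRingHom)
      (g := (Scheme.ΓSpecIso (CommRingCat.of CN)).inv.hom) (MonoidAlgebra.ringHom_ext (fun c => ?_) (fun n => ?_)) x
    · show (chart str C N).left.appTop (φ (MonoidAlgebra.single 1 c)) = gl (MonoidAlgebra.single 1 c)
      rw [show (MonoidAlgebra.single (1 : Multiplicative N) c : CN) = algebraMap C CN c from by
        rfl, φ.commutes]
      show (chart str C N).left.appTop ((snd (Magnet.AMonS S N) (spT str C)).left.appTop (gl c)) = _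
      rw [← CommRingCat.comp_apply, ← Scheme.Hom.comp_appTop, ← Over.comp_left, chart, lift_snd, appTop_gl]
      rfl
    · show (chart str C N).left.appTop (φ (MonoidAlgebra.of C _ n)) = gl (MonoidAlgebra.of C _ n)
      rw [MonoidAlgebra.lift_of (R := C), ← chS_nat, chart, lift_fst, chS_bpt]
  · apply CartesianMonoidalCategory.hom_ext
    · rw [Category.assoc, chart, lift_fst, Category.id_comp]
      exact hfst
    · rw [Category.assoc, chart, lift_snd, Category.id_comp]
      exact Over.OverMorphism.ext hpr

theorem chart_fst : chart str C N ≫ fst _ _ = bpt str C N := lift_fst _ _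

theorem chart_snd : chart str C N ≫ snd _ _ = proj str C N := lift_snd _ _

end Chart

section Translate

variable {M : Type} [AddCommMonoid M] (N : AddSubmonoid M)

/-- The coaction of the monoid algebra. -/
def theta : MonoidAlgebra R (Multiplicative N) →ₐ[R]
    MonoidAlgebra (MonoidAlgebra R (Multiplicative N)) (Multiplicative M) :=
  MonoidAlgebra.lift R _ (Multiplicative N)
    { toFun := fun n => MonoidAlgebra.single (Multiplicative.ofAdd ((n.toAdd : N) : M)) (MonoidAlgebra.of R _ n)
      map_one' := by simp [MonoidAlgebra.one_def]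
      map_mul' := fun a b => by simp [MonoidAlgebra.single_mul_single, ← ofAdd_add] }

theorem theta_of (n : Multiplicative N) : theta N (MonoidAlgebra.of R _ n) =
    MonoidAlgebra.single (Multiplicative.ofAdd ((n.toAdd : N) : M)) (MonoidAlgebra.of R _ n) :=
  MonoidAlgebra.lift_of (R := R) _ n

/-- The translated point. -/
theorem spHom_theta_chart :
    spHom str (theta (R := R) N) ≫ chart str R N =
      lift (lift (bpt str (MonoidAlgebra R (Multiplicative N)) M)
          (proj str (MonoidAlgebra R (Multiplicative N)) M ≫ bpt str R N) ≫ (Magnet.subAct S M N).act)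
        (proj str (MonoidAlgebra R (Multiplicative N)) M ≫ proj str R N) := by
  apply CartesianMonoidalCategory.hom_ext
  · rw [Category.assoc, chart_fst, lift_fst, Magnet.subAct, Magnet.MonAct.lift_restrict_act,
      Magnet.MonAct.lift_regular_act]
    refine chS_inj fun n => ?_
    obtain ⟨n, rfl⟩ : ∃ m, Multiplicative.ofAdd m = n := ⟨n.toAdd, rfl⟩
    rw [chS_nat, chS_bpt, chS_mul, chS_map, chS_bpt, chS_nat, chS_bpt, appTop_gl, appTop_gl, theta_of]
    refine Eq.trans ?_ (map_mul (Scheme.ΓSpecIso _).inv.hom _ _)
    refine congrArg gl ?_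
    simp [MonoidAlgebra.single_mul_single, MonoidAlgebra.coe_algebraMap, MonoidAlgebra.of_apply]
  · rw [Category.assoc, chart_snd, lift_snd, spHom_comp, spHom_comp]
    congr 1
    exact AlgHom.ext fun r => ((theta (R := R) N).commutes r).trans rfl

variable {X : Over S} (a : Magnet.MonAct (Magnet.AMonS S M) X)

/-- An equivariant map at the universal point. -/
theorem equivariant_chart {φ : Magnet.AMonS S N ⊗ spT str R ⟶ X}
    (hφ : Magnet.MonAct.IsEquivariant ((Magnet.subAct S M N).prod (Magnet.MonAct.trivial _ (spT str R))) a φ) :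
    spHom str (theta (R := R) N) ≫ chart str R N ≫ φ =
      lift (bpt str (MonoidAlgebra R (Multiplicative N)) M)
        (proj str (MonoidAlgebra R (Multiplicative N)) M ≫ chart str R N ≫ φ) ≫ a.act := by
  rw [← Category.assoc, spHom_theta_chart]
  have h := (Magnet.MonAct.mem_eqvHom_iff φ).1 hφ _ (bpt str (MonoidAlgebra R (Multiplicative N)) M)
    (proj str (MonoidAlgebra R (Multiplicative N)) M ≫ bpt str R N)
    (proj str (MonoidAlgebra R (Multiplicative N)) M ≫ proj str R N)
  rw [h, chart, ← comp_lift, Category.assoc]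

/-- Equivariance may be tested at the universal point. -/
theorem isEquivariant_of_chart {φ : Magnet.AMonS S N ⊗ spT str R ⟶ X}
    (h : spHom str (theta (R := R) N) ≫ chart str R N ≫ φ =
      lift (bpt str (MonoidAlgebra R (Multiplicative N)) M)
        (proj str (MonoidAlgebra R (Multiplicative N)) M ≫ chart str R N ≫ φ) ≫ a.act) :
    Magnet.MonAct.IsEquivariant ((Magnet.subAct S M N).prod (Magnet.MonAct.trivial _ (spT str R))) a φ := by
  rw [Magnet.MonAct.mem_eqvHom_iff]
  intro T' g b t
  let p : T' ⟶ spT str (MonoidAlgebra R (Multiplicative N)) := lift b t ≫ inv (chart str R N)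
  let q : T' ⟶ spT str (MonoidAlgebra (MonoidAlgebra R (Multiplicative N)) (Multiplicative M)) := lift g p ≫ inv (chart str (MonoidAlgebra R (Multiplicative N)) M)
  have hp : p ≫ chart str R N = lift b t := by simp [p]
  have hq : q ≫ chart str (MonoidAlgebra R (Multiplicative N)) M = lift g p := by simp [q]
  have hq1 : q ≫ bpt str (MonoidAlgebra R (Multiplicative N)) M = g := by rw [← chart_fst, ← Category.assoc, hq, lift_fst]
  have hq2 : q ≫ proj str (MonoidAlgebra R (Multiplicative N)) M = p := by rw [← chart_snd, ← Category.assoc, hq, lift_snd]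
  have hp1 : p ≫ bpt str R N = b := by rw [← chart_fst, ← Category.assoc, hp, lift_fst]
  have hp2 : p ≫ proj str R N = t := by rw [← chart_snd, ← Category.assoc, hp, lift_snd]
  have h1 := congrArg (fun z => q ≫ z) h
  simp only [reassoc_of% (spHom_theta_chart (R := R) str N), comp_lift_assoc, reassoc_of% hq2, hq1, hp1, hp2,
    reassoc_of% hp, comp_lift] at h1
  exact h1

end Translate

end Groth.Agent.MagFace16
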