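import Groth.Agent.Lib.MagFace16.Cls
import Groth.Agent.Lib.MagFace16.Chart
import Groth.Agent.Lib.Magnet16.Formal
import Mathlib.RingTheory.LocalRing.ResidueField.Ideal
import Mathlib.RingTheory.Spectrum.Prime.Topology

/-! Equivariant maps out of `A(N)` agreeing on all infinitesimal neighbourhoods of a face. -/

set_option autoImplicit false
set_option linter.style.haveILetI false
universe u

open CategoryTheory CategoryTheory.Limits MonoidalCategory CartesianMonoidalCategory MonObj AlgebraicGeometry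
  Opposite

noncomputable section

namespace Groth.Agent.MagFace16

variable {M : Type} [AddCommGroup M] [AddGroup.FG M] {N Q : AddSubmonoid M} {R : Type u} [CommRing R]

/-- An element of the monoid algebra moved to the face. -/
def inQ (hQ : Magnet.IsFace N Q) (g : RN R N) : RN R N :=
  MonoidAlgebra.mapDomain (AddMonoidHom.toMultiplicative (AddSubmonoid.inclusion hQ.le)) (Magnet.faceAlgHom R hQ g)

theorem sub_inQ_mem (hQ : Magnet.IsFace N Q) (g : RN R N) : g - inQ hQ g ∈ jI R hQ := by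
  have h := DFunLike.congr_fun (Magnet.faceAlgHom_comp_mapDomain R hQ) (Magnet.faceAlgHom R hQ g)
  rw [AlgHom.comp_apply, AlgHom.id_apply] at h
  rw [RingHom.mem_ker, map_sub, sub_eq_zero]
  exact h.symm

theorem support_inQ (hQ : Magnet.IsFace N Q) (g : RN R N) :
    ((inQ hQ g).coeff.support : Set (Multiplicative N)) ⊆ zeroPart N Q := by
  classical
  intro n hn
  rw [inQ, MonoidAlgebra.coeff_mapDomain] at hn
  obtain ⟨q, -, rfl⟩ := Finset.mem_image.1 (Finsupp.mapDomain_support hn)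
  exact q.toAdd.2

/-- Maps agreeing on the infinitesimal neighbourhoods of the face agree near the face. -/
theorem jI_mem_agree (hQ : Magnet.IsFace N Q) (hN : N.FG) {P : Scheme.{u}}
    (y₁ y₂ : Spec (CommRingCat.of (RN R N)) ⟶ P)
    (h : ∀ k : ℕ, Spec.map (CommRingCat.ofHom (Ideal.Quotient.mk (jI R hQ ^ k))) ≫ y₁ =
      Spec.map (CommRingCat.ofHom (Ideal.Quotient.mk (jI R hQ ^ k))) ≫ y₂)
    (p : Spec (CommRingCat.of (RN R N))) (hp : jI R hQ ≤ p.asIdeal) : p ∈ Magnet16.agree y₁ y₂ := by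
  classical
  have h12 : y₁ p = y₂ p := by
    obtain ⟨p', hp'⟩ : p ∈ Set.range (PrimeSpectrum.comap (Ideal.Quotient.mk (jI R hQ ^ 1))) := by
      rw [range_comap_of_surjective _ _ Ideal.Quotient.mk_surjective, Ideal.mk_ker, pow_one]
      exact (PrimeSpectrum.mem_zeroLocus _ _).2 hp
    exact hp' ▸ congrArg (fun f => f p') (h 1)
  obtain ⟨V, hV, hpV⟩ : ∃ V : P.Opens, IsAffineOpen V ∧ y₁ p ∈ V := by
    obtain ⟨_, ⟨V, hV, rfl⟩, hpV, -⟩ :=
      P.isBasis_affineOpens.exists_subset_of_mem_open (Set.mem_univ (y₁ p)) isOpen_univ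
    exact ⟨V, hV, hpV⟩
  obtain ⟨_, ⟨g, rfl⟩, hpg, hgW⟩ :=
    PrimeSpectrum.isTopologicalBasis_basic_opens.exists_subset_of_mem_open
      (show p ∈ y₁ ⁻¹ᵁ V ⊓ y₂ ⁻¹ᵁ V from ⟨hpV, show y₂ p ∈ V from h12 ▸ hpV⟩) (y₁ ⁻¹ᵁ V ⊓ y₂ ⁻¹ᵁ V).isOpen
  let J := jI R hQ
  let g₀ := inQ hQ g
  have hpg₀ : g₀ ∉ p.asIdeal := fun hc => hpg (by
    have := p.asIdeal.add_mem (hp (sub_inQ_mem hQ g)) hc
    simpa [g₀] using this)
  let D := g * g₀
  have hpD : p ∈ PrimeSpectrum.basicOpen D := by
    show D ∉ p.asIdeal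
    exact fun hc => (p.2.mem_or_mem hc).elim hpg hpg₀
  let C' := Localization.Away D
  let jm := Spec.map (CommRingCat.ofHom (algebraMap (RN R N) C'))
  haveI : IsOpenImmersion jm := IsOpenImmersion.of_isLocalization D
  have hι : ∀ w, jm w ∈ PrimeSpectrum.basicOpen g := by
    intro w
    have h1 : jm w ∈ PrimeSpectrum.basicOpen D := (PrimeSpectrum.localization_away_comap_range C' D).le ⟨w, rfl⟩
    exact fun hc => h1 (Ideal.mul_mem_right _ _ hc)
  haveI : IsAffine V.toScheme := hV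
  let u' := IsOpenImmersion.lift V.ι (jm ≫ y₁) (by
    rw [V.range_ι]
    rintro _ ⟨w, rfl⟩
    exact (hgW (hι w)).1)
  let v' := IsOpenImmersion.lift V.ι (jm ≫ y₂) (by
    rw [V.range_ι]
    rintro _ ⟨w, rfl⟩
    exact (hgW (hι w)).2)
  have key : u' = v' := by
    rw [← cancel_mono V.toScheme.isoSpec.hom]
    obtain ⟨φ, hφ⟩ : ∃ φ, Spec.map φ = u' ≫ V.toScheme.isoSpec.hom := ⟨_, Spec.map_preimage _⟩
    obtain ⟨χ, hχ⟩ : ∃ χ, Spec.map χ = v' ≫ V.toScheme.isoSpec.hom := ⟨_, Spec.map_preimage _⟩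
    rw [← hφ, ← hχ]
    congr 1
    refine CommRingCat.hom_ext (RingHom.ext fun a => sub_eq_zero.1 ?_)
    have hmem : ∀ k, φ.hom a - χ.hom a ∈ (J ^ k).map (algebraMap (RN R N) C') := by
      intro k
      let π : C' →+* C' ⧸ (J ^ k).map (algebraMap (RN R N) C') := Ideal.Quotient.mk _
      obtain ⟨σ, hσ⟩ : ∃ σ : RN R N ⧸ J ^ k →+* C' ⧸ (J ^ k).map (algebraMap (RN R N) C'),
          σ.comp (Ideal.Quotient.mk _) = π.comp (algebraMap (RN R N) C') :=
        ⟨Ideal.Quotient.lift _ (π.comp (algebraMap (RN R N) C'))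
          (fun x hx => Ideal.Quotient.eq_zero_iff_mem.2 (Ideal.mem_map_of_mem _ hx)), Ideal.Quotient.lift_comp_mk _ _ _⟩
      have e : φ ≫ CommRingCat.ofHom π = χ ≫ CommRingCat.ofHom π := by
        apply Spec.map_injective
        rw [Spec.map_comp, Spec.map_comp, hφ, hχ]
        simp only [← Category.assoc]
        congr 1
        rw [← cancel_mono V.ι, Category.assoc, Category.assoc, IsOpenImmersion.lift_fac, IsOpenImmersion.lift_fac,
          ← Category.assoc, ← Category.assoc, ← Spec.map_comp, ← CommRingCat.ofHom_comp, ← hσ, CommRingCat.ofHom_comp,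
          Spec.map_comp, Category.assoc, Category.assoc, h k]
      rw [← Ideal.Quotient.eq_zero_iff_mem, map_sub, sub_eq_zero]
      exact ConcreteCategory.congr_hom e a
    obtain ⟨⟨num, ⟨_, s, rfl⟩⟩, hd⟩ := IsLocalization.surj (Submonoid.powers D) (φ.hom a - χ.hom a)
    have hnum : ∀ k, ∃ m : ℕ, g₀ ^ m * num ∈ J ^ k := by
      intro k
      have h1 : algebraMap (RN R N) C' num ∈ (J ^ k).map (algebraMap (RN R N) C') :=
        hd ▸ Ideal.mul_mem_right _ _ (hmem k)
      obtain ⟨_, ⟨t, rfl⟩, ht⟩ :=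
        (IsLocalization.algebraMap_mem_map_algebraMap_iff (Submonoid.powers D) C' _ _).1 h1
      simp only [D, mul_pow] at ht
      obtain ⟨c, hc⟩ : g ∣ g₀ ^ k - (-(g - g₀)) ^ k := by
        have h2 := sub_dvd_pow_sub_pow g₀ (-(g - g₀)) k
        rwa [sub_neg_eq_add, add_sub_cancel] at h2
      refine ⟨k * t + t, ?_⟩
      let π := Ideal.Quotient.mk (J ^ k)
      have h3 : π ((-(g - g₀)) ^ k) = 0 :=
        Ideal.Quotient.eq_zero_iff_mem.2 (Ideal.pow_mem_pow (neg_mem (sub_inQ_mem hQ g)) k)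
      have h4 : π g₀ ^ k = π g * π c := by
        rw [← map_mul, ← hc, map_sub, h3, sub_zero, map_pow]
      have h5 : π g ^ t * π g₀ ^ t * π num = 0 := by
        rw [← map_pow, ← map_pow, ← map_mul, ← map_mul]
        exact Ideal.Quotient.eq_zero_iff_mem.2 ht
      refine Ideal.Quotient.eq_zero_iff_mem.1 ?_
      show π (g₀ ^ (k * t + t) * num) = 0
      rw [map_mul, map_pow, pow_add, pow_mul, h4, mul_pow]
      linear_combination π c ^ t * h5
    obtain ⟨m, hm⟩ := eq_zero_of_mul_pow_mem hQ hN g₀ num (support_inQ hQ g) hnum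
    have hu : IsUnit (algebraMap (RN R N) C' g₀) := by
      have h2 := IsLocalization.Away.algebraMap_isUnit (S := C') D
      rw [map_mul] at h2
      exact isUnit_of_mul_isUnit_right h2
    have h3 := congrArg (algebraMap (RN R N) C') hm
    rw [map_mul, map_pow, map_zero, ← hd] at h3
    exact (IsUnit.mul_left_eq_zero (IsLocalization.map_units C' (⟨D ^ s, s, rfl⟩ : Submonoid.powers D))).1
      ((IsUnit.mul_right_eq_zero (hu.pow m)).1 h3)
  have hagree : jm ≫ y₁ = jm ≫ y₂ :=
    ((IsOpenImmersion.lift_fac V.ι (jm ≫ y₁) _).symm.trans (congrArg (· ≫ V.ι) key)).trans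
      (IsOpenImmersion.lift_fac V.ι (jm ≫ y₂) _)
  obtain ⟨w, hw⟩ := (PrimeSpectrum.localization_away_comap_range C' D).ge hpD
  exact hw ▸ Magnet16.mem_agree y₁ y₂ jm hagree w

/-- Equivariant maps out of `A(N)` agreeing on all infinitesimal neighbourhoods of a face agree. -/
theorem eq_of_formal_face {S : Scheme.{u}} (str : Spec (CommRingCat.of R) ⟶ S) {X : Over S}
    (a : Magnet.MonAct (Magnet.AMonS S M) X) (hQ : Magnet.IsFace N Q) (hN : N.FG)
    (y₁ y₂ : spT str (RN R N) ⟶ X)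
    (h₁ : spHom str (theta (R := R) N) ≫ y₁ = lift (bpt str (RN R N) M) (proj str (RN R N) M ≫ y₁) ≫ a.act)
    (h₂ : spHom str (theta (R := R) N) ≫ y₂ = lift (bpt str (RN R N) M) (proj str (RN R N) M ≫ y₂) ≫ a.act)
    (h : ∀ k : ℕ, Spec.map (CommRingCat.ofHom (Ideal.Quotient.mk (jI R hQ ^ k))) ≫ y₁.left =
      Spec.map (CommRingCat.ofHom (Ideal.Quotient.mk (jI R hQ ^ k))) ≫ y₂.left) : y₁ = y₂ := by
  classical
  let W := Magnet16.agree y₁.left y₂.left
  let θ' := (spHom str (theta (R := R) N)).left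
  let W' : (spT str (MonoidAlgebra (RN R N) (Multiplicative M))).left.Opens := θ' ⁻¹ᵁ W
  let W'o : Over S := Over.mk (W'.ι ≫ (spT str (MonoidAlgebra (RN R N) (Multiplicative M))).hom)
  let iW : W'o ⟶ spT str (MonoidAlgebra (RN R N) (Multiplicative M)) := Over.homMk W'.ι
  have hag : iW ≫ spHom str (theta (R := R) N) ≫ y₁ = iW ≫ spHom str (theta (R := R) N) ≫ y₂ := by
    apply Over.OverMorphism.ext
    show W'.ι ≫ θ' ≫ y₁.left = W'.ι ≫ θ' ≫ y₂.left
    let l := IsOpenImmersion.lift W.ι (W'.ι ≫ θ') (by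
      rw [W.range_ι]
      rintro _ ⟨w, rfl⟩
      exact w.2)
    have hl : l ≫ W.ι = W'.ι ≫ θ' := IsOpenImmersion.lift_fac _ _ _
    rw [← reassoc_of% hl, ← reassoc_of% hl, Magnet16.agree_spec]
  have hpr : ∀ y : spT str (RN R N) ⟶ X,
      spHom str (theta (R := R) N) ≫ y = lift (bpt str (RN R N) M) (proj str (RN R N) M ≫ y) ≫ a.act →
      iW ≫ proj str (RN R N) M ≫ y =
        lift (Magnet16.invPt (iW ≫ bpt str (RN R N) M)) (iW ≫ spHom str (theta (R := R) N) ≫ y) ≫ a.act := by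
    intro y hy
    rw [hy, comp_lift_assoc, ← a.lift_mul_act, Magnet16.invPt_mul, a.lift_one_act]
  have h12 : iW ≫ proj str (RN R N) M ≫ y₁ = iW ≫ proj str (RN R N) M ≫ y₂ := by
    rw [hpr y₁ h₁, hpr y₂ h₂, hag]
  haveI : Flat (proj str (RN R N) M).left := by
    show Flat (Spec.map (CommRingCat.ofHom (algebraMap (RN R N) (MonoidAlgebra (RN R N) (Multiplicative M)))))
    rw [Flat.SpecMap_iff]
    show (algebraMap (RN R N) (MonoidAlgebra (RN R N) (Multiplicative M))).Flat
    rw [RingHom.flat_algebraMap_iff]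
    infer_instance
  haveI : Surjective (W'.ι ≫ (proj str (RN R N) M).left) := by
    refine ⟨fun (q : PrimeSpectrum (RN R N)) => ?_⟩
    let κ := q.asIdeal.ResidueField
    let red := MonoidAlgebra.mapRingHom (Multiplicative M) (algebraMap (RN R N) κ)
    let θκ : RN R N →ₐ[R] MonoidAlgebra κ (Multiplicative M) :=
      { red.comp (theta (R := R) N).toRingHom with
        commutes' := fun r => by
          show red (theta (R := R) N (algebraMap R (RN R N) r)) = _
          rw [(theta (R := R) N).commutes, MonoidAlgebra.coe_algebraMap, MonoidAlgebra.coe_algebraMap]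
          simp only [Function.comp_apply, red, MonoidAlgebra.mapRingHom_single]
          rw [IsScalarTower.algebraMap_apply R κ (MonoidAlgebra κ (Multiplicative M)),
            IsScalarTower.algebraMap_apply R (RN R N) κ]
          rfl }
    have hθκ : ∀ n : Multiplicative N, ∃ c : κ, θκ (MonoidAlgebra.of R _ n) =
        MonoidAlgebra.single (Multiplicative.ofAdd ((n.toAdd : N) : M)) c := fun n => ⟨_, by
      show red (theta (R := R) N (MonoidAlgebra.of R _ n)) = _
      rw [theta_of, MonoidAlgebra.mapRingHom_single]⟩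
    obtain ⟨I, hI⟩ : ∃ I : Ideal (RN R N), ∀ P : (spT str (RN R N)).left, P ∉ W ↔ I ≤ P.asIdeal := by
      obtain ⟨I, hI⟩ := (PrimeSpectrum.isClosed_iff_zeroLocus_ideal _).1 W.isOpen.isClosed_compl
      exact ⟨I, fun P => (Set.ext_iff.1 hI P).trans (PrimeSpectrum.mem_zeroLocus _ _)⟩
    have hIJ : I ⊔ jI R hQ = ⊤ := by
      by_contra hne
      obtain ⟨P, hP, hle⟩ := Ideal.exists_le_maximal _ hne
      let P' : PrimeSpectrum (RN R N) := ⟨P, hP.isPrime⟩
      have h1 : P' ∈ W := jI_mem_agree hQ hN y₁.left y₂.left h P' (le_sup_right.trans hle)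
      exact (hI P').2 (le_sup_left.trans hle) h1
    obtain ⟨i, hi, j, hj, hij⟩ := Submodule.mem_sup.1 (hIJ.symm ▸ Submodule.mem_top (x := (1 : RN R N)))
    have hnn := not_isNilpotent_twist hQ θκ hθκ hj hij
    obtain ⟨P, hP, hiP⟩ : ∃ P : Ideal (MonoidAlgebra κ (Multiplicative M)), P.IsPrime ∧ θκ i ∉ P := by
      by_contra! hall
      exact hnn (nilpotent_iff_mem_prime.2 hall)
    let w : PrimeSpectrum (MonoidAlgebra (RN R N) (Multiplicative M)) := PrimeSpectrum.comap red ⟨P, hP⟩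
    have hw : w ∈ W' := by
      show PrimeSpectrum.comap (theta (R := R) N).toRingHom w ∈ W
      by_contra hc
      exact hiP ((hI _).1 hc hi)
    refine ⟨⟨w, hw⟩, ?_⟩
    show PrimeSpectrum.comap (algebraMap (RN R N) (MonoidAlgebra (RN R N) (Multiplicative M))) w = q
    refine PrimeSpectrum.ext ?_
    have e : red.comp (algebraMap (RN R N) (MonoidAlgebra (RN R N) (Multiplicative M))) =
        (algebraMap κ (MonoidAlgebra κ (Multiplicative M))).comp (algebraMap (RN R N) κ) :=
      RingHom.ext fun x => by simp [red, MonoidAlgebra.coe_algebraMap]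
    show Ideal.comap (algebraMap (RN R N) (MonoidAlgebra (RN R N) (Multiplicative M))) (Ideal.comap red P) = q.asIdeal
    rw [Ideal.comap_comap, e, ← Ideal.comap_comap]
    rw [((Ideal.eq_bot_or_top (Ideal.comap (algebraMap κ (MonoidAlgebra κ (Multiplicative M))) P)).resolve_right
      (Ideal.comap_ne_top _ hP.ne_top)), ← RingHom.ker_eq_comap_bot, Ideal.ker_algebraMap_residueField]
  haveI : Epi (W'.ι ≫ (proj str (RN R N) M).left) := Flat.epi_of_flat_of_surjective _
  refine Over.OverMorphism.ext ?_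
  rw [← cancel_epi (W'.ι ≫ (proj str (RN R N) M).left)]
  have := congrArg (fun z => z.left) h12
  simpa [iW] using this

end Groth.Agent.MagFace16
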