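import Mathlib.Algebra.MonoidAlgebra.Basic
import Mathlib.RingTheory.Ideal.Operations
import Mathlib.RingTheory.Ideal.Maps

/-! Averaging a lift along a square-zero ideal for a grading by a group. -/

set_option autoImplicit false
universe u

noncomputable section

open MonoidAlgebra

namespace Groth.Agent.MagFace16

variable {A : Type u} [CommRing A] {G : Type} [CommGroup G]
  {R : Type u} [CommRing R] [Algebra A R] (θ : R →ₐ[A] MonoidAlgebra R G)

/-- The sum of the components in the matching degree. -/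
def diag : MonoidAlgebra R G →+ R where
  toFun F := F.coeff.sum fun m c => (θ c).coeff m
  map_zero' := by simp
  map_add' F F' := by
    classical
    rw [MonoidAlgebra.coeff_add]
    exact Finsupp.sum_add_index' (fun m => by simp) (fun m c c' => by simp)

theorem diag_single (m : G) (c : R) : diag θ (single m c) = (θ c).coeff m := by
  show (single m c).coeff.sum (fun m c => (θ c).coeff m) = _
  rw [coeff_single, Finsupp.sum_single_index (by simp)]

variable (K : Ideal R) (hK : K ^ 2 = ⊥)

include hK in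
theorem coeff_mul_of_offdiag (m m' : G) (c c' : R) (hc : ∀ n, n ≠ m → (θ c).coeff n ∈ K)
    (hc' : ∀ n, n ≠ m' → (θ c').coeff n ∈ K) :
    (θ (c * c')).coeff (m * m') = (θ c).coeff m * (θ c').coeff m' := by
  classical
  set d := θ c - single m ((θ c).coeff m) with hd
  set d' := θ c' - single m' ((θ c').coeff m') with hd'
  have hdm : d.coeff m = 0 := by simp [hd]
  have hdm' : d'.coeff m' = 0 := by simp [hd']
  have hdK : ∀ n, d.coeff n ∈ K := fun n => by
    by_cases h : n = m
    · subst h; rw [hdm]; exact K.zero_mem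
    · simpa [hd, Finsupp.single_eq_of_ne h] using hc n h
  have hdK' : ∀ n, d'.coeff n ∈ K := fun n => by
    by_cases h : n = m'
    · subst h; rw [hdm']; exact K.zero_mem
    · simpa [hd', Finsupp.single_eq_of_ne h] using hc' n h
  have hdd : d * d' = 0 := by
    rw [← sum_coeff_single d, ← sum_coeff_single d', Finsupp.sum, Finsupp.sum, Finset.sum_mul_sum]
    refine Finset.sum_eq_zero fun n _ => Finset.sum_eq_zero fun n' _ => ?_
    rw [single_mul_single, show d.coeff n * d'.coeff n' = 0 from ?_, single_zero]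
    rw [← Ideal.mem_bot, ← hK, pow_two]
    exact Ideal.mul_mem_mul (hdK n) (hdK' n')
  have e : θ (c * c') = single (m * m') ((θ c).coeff m * (θ c').coeff m') +
      single m ((θ c).coeff m) * d' + d * single m' ((θ c').coeff m') + d * d' := by
    rw [map_mul, hd, hd', ← single_mul_single]
    ring
  rw [e, hdd, add_zero, coeff_add, coeff_add, Finsupp.add_apply, Finsupp.add_apply, coeff_single,
    Finsupp.single_eq_same, coeff_single_mul_apply, coeff_mul_single_apply, inv_mul_cancel_left,
    mul_inv_cancel_right, hdm, hdm', mul_zero, zero_mul, add_zero, add_zero]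

include hK in
theorem diag_mul (F F' : MonoidAlgebra R G) (hF : ∀ m n, n ≠ m → (θ (F.coeff m)).coeff n ∈ K)
    (hF' : ∀ m n, n ≠ m → (θ (F'.coeff m)).coeff n ∈ K) : diag θ (F * F') = diag θ F * diag θ F' := by
  classical
  conv_lhs => rw [← sum_coeff_single F, ← sum_coeff_single F']
  conv_rhs => rw [← sum_coeff_single F, ← sum_coeff_single F']
  rw [Finsupp.sum, Finsupp.sum, Finset.sum_mul_sum, map_sum, map_sum, map_sum, Finset.sum_mul_sum]
  refine Finset.sum_congr rfl fun m _ => ?_
  rw [map_sum]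
  refine Finset.sum_congr rfl fun m' _ => ?_
  rw [single_mul_single, diag_single, diag_single, diag_single,
    coeff_mul_of_offdiag θ K hK m m' _ _ (hF m) (hF' m')]

variable {B : Type u} [CommRing B] [Algebra A B] {R₀ : Type u} [CommRing R₀] [Algebra A R₀]

/-- A lift may be averaged to an equivariant one. -/
theorem exists_average (ρ : B →ₐ[A] MonoidAlgebra B G) (θ₀ : R₀ →ₐ[A] MonoidAlgebra R₀ G)
    (q : R →ₐ[A] R₀) (hq2 : RingHom.ker q ^ 2 = ⊥) (f : R →ₐ[A] B) (π : B →ₐ[A] R₀) (σ : B →ₐ[A] R)
    (hcθ : ∀ r, (θ r).coeff.sum (fun _ c => c) = r)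
    (haθ : ∀ r m, θ ((θ r).coeff m) = single m ((θ r).coeff m))
    (haρ : ∀ b m, ρ ((ρ b).coeff m) = single m ((ρ b).coeff m))
    (hq : θ₀.comp q = (mapAlgHom G q).comp θ) (hπ : θ₀.comp π = (mapAlgHom G π).comp ρ)
    (hf : ρ.comp f = (mapAlgHom G f).comp θ) (hσf : σ.comp f = AlgHom.id A R) (hqσ : q.comp σ = π)
    (hπs : Function.Surjective q) :
    ∃ τ : B →ₐ[A] R, τ.comp f = AlgHom.id A R ∧ q.comp τ = π ∧ θ.comp τ = (mapAlgHom G τ).comp ρ := by
  classical
  have hqθ : ∀ r n, q ((θ r).coeff n) = (θ₀ (q r)).coeff n := fun r n => by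
    rw [← AlgHom.comp_apply θ₀, hq, AlgHom.comp_apply, coeff_mapAlgHom]
  have haθ₀ : ∀ x m n, n ≠ m → (θ₀ ((θ₀ x).coeff m)).coeff n = 0 := fun x m n hn => by
    obtain ⟨r, rfl⟩ := hπs x
    rw [← hqθ, ← hqθ, haθ, coeff_single, Finsupp.single_eq_of_ne hn, map_zero]
  let T := (mapAlgHom G σ).comp ρ
  have hgood : ∀ b m n, n ≠ m → (θ ((T b).coeff m)).coeff n ∈ RingHom.ker q := fun b m n hn => by
    have e : q ((T b).coeff m) = (θ₀ (π b)).coeff m := by
      rw [← AlgHom.comp_apply θ₀ π, hπ]
      simp only [T, AlgHom.comp_apply, coeff_mapAlgHom]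
      exact DFunLike.congr_fun hqσ _
    rw [RingHom.mem_ker, hqθ, e]
    exact haθ₀ _ _ _ hn
  have hTf : ∀ r, T (f r) = θ r := fun r => by
    rw [show T (f r) = mapAlgHom G σ ((ρ.comp f) r) from rfl, hf, AlgHom.comp_apply]
    refine coeff_inj.1 (Finsupp.ext fun m => ?_)
    rw [coeff_mapAlgHom, coeff_mapAlgHom]
    exact DFunLike.congr_fun hσf _
  have hdiag : ∀ r, diag θ (θ r) = r := fun r => by
    show (θ r).coeff.sum (fun m c => (θ c).coeff m) = r
    refine Eq.trans ?_ (hcθ r)
    refine Finset.sum_congr rfl fun m _ => ?_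
    show (θ ((θ r).coeff m)).coeff m = (θ r).coeff m
    rw [haθ, coeff_single, Finsupp.single_eq_same]
  let τ : B →ₐ[A] R :=
    { toFun := fun b => diag θ (T b)
      map_one' := by rw [show (1 : B) = f 1 from (map_one f).symm, hTf, hdiag]
      map_mul' := fun b b' => by rw [map_mul, diag_mul θ _ hq2 _ _ (hgood b) (hgood b')]
      map_zero' := by rw [map_zero, map_zero]
      map_add' := fun b b' => by rw [map_add, map_add]
      commutes' := fun a => by rw [← f.commutes, hTf, hdiag] }
  have hτm : ∀ b m, τ ((ρ b).coeff m) = (θ ((T b).coeff m)).coeff m := fun b m => by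
    show diag θ (mapAlgHom G σ (ρ ((ρ b).coeff m))) = _
    rw [haρ, mapAlgHom_single, diag_single]
    simp [T]
  refine ⟨τ, AlgHom.ext fun r => (congrArg (diag θ) (hTf r)).trans (hdiag r), AlgHom.ext fun b => ?_,
    AlgHom.ext fun b => ?_⟩
  · show q ((T b).coeff.sum fun m c => (θ c).coeff m) = π b
    have h1 : ∀ m, q ((θ ((T b).coeff m)).coeff m) = (θ₀ (π b)).coeff m := fun m => by
      rw [hqθ]
      have e : q ((T b).coeff m) = (θ₀ (π b)).coeff m := by
        rw [← AlgHom.comp_apply θ₀ π, hπ]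
        simp only [T, AlgHom.comp_apply, coeff_mapAlgHom]
        exact DFunLike.congr_fun hqσ _
      rw [e]
      obtain ⟨r, hr⟩ := hπs (π b)
      rw [← hr, ← hqθ, ← hqθ, haθ, coeff_single, Finsupp.single_eq_same]
    rw [Finsupp.sum, map_sum]
    simp only [h1]
    obtain ⟨r, hr⟩ := hπs (π b)
    have h2 : ((θ₀ (π b)).coeff.sum fun _ c => c) = π b := by
      rw [← hr]
      conv_rhs => rw [← hcθ r]
      rw [map_finsuppSum, ← AlgHom.comp_apply θ₀ q, hq, AlgHom.comp_apply]
      rw [Finsupp.sum_of_support_subset _ (s := (θ r).coeff.support) ?_ _ (fun _ _ => rfl)]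
      · exact Finset.sum_congr rfl fun m _ => by rw [coeff_mapAlgHom]
      · intro m hm
        rw [Finsupp.mem_support_iff] at hm ⊢
        rw [coeff_mapAlgHom] at hm
        exact fun h => hm (by rw [h, map_zero])
    refine Eq.trans ?_ h2
    symm
    refine Finsupp.sum_of_support_subset _ ?_ _ (fun _ _ => rfl)
    intro m hm
    rw [Finsupp.mem_support_iff] at hm ⊢
    intro h
    apply hm
    rw [← h1 m, h]
    simp
  · refine coeff_inj.1 (Finsupp.ext fun n => ?_)
    rw [AlgHom.comp_apply, AlgHom.comp_apply, coeff_mapAlgHom, hτm]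
    show (θ ((T b).coeff.sum fun m c => (θ c).coeff m)).coeff n = _
    rw [Finsupp.sum, map_sum, coeff_sum, Finsupp.finsetSum_apply]
    by_cases hn : n ∈ (T b).coeff.support
    · rw [Finset.sum_eq_single n (fun m _ hm => by rw [haθ, coeff_single, Finsupp.single_eq_of_ne (Ne.symm hm)])
        (fun h => absurd hn h), haθ, coeff_single, Finsupp.single_eq_same]
    · rw [Finset.sum_eq_zero fun m hm => by
        rw [haθ, coeff_single, Finsupp.single_eq_of_ne]
        rintro rfl
        exact hn hm]
      rw [Finsupp.notMem_support_iff.1 hn]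
      simp

end Groth.Agent.MagFace16
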