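import Groth.Agent.Lib.MagFace16.Chart
import Groth.Prelude.Def_QuotSh
import Mathlib.AlgebraicGeometry.Sites.Fpqc
import Mathlib.CategoryTheory.Sites.Over

/-! Reduction of statements about fppf sheaves to affine test objects. -/

set_option autoImplicit false
set_option linter.style.haveILetI false
set_option backward.isDefEq.respectTransparency.types false
universe u

open CategoryTheory CategoryTheory.Limits MonoidalCategory CartesianMonoidalCategory MonObj AlgebraicGeometry
  Opposite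

noncomputable section

namespace Groth.Agent.MagFace16

variable {S : Scheme.{u}}

/-- The covering of an `S`-scheme by affine test objects. -/
def affSieve (T : Over S) : Sieve T where
  arrows W f := ∃ (i : T.left.affineCover.I₀) (g : W.left ⟶ T.left.affineCover.X i), g ≫ T.left.affineCover.f i = f.left
  downward_closed := by
    rintro W W' f ⟨i, g, hg⟩ t
    exact ⟨i, t.left ≫ g, by rw [Category.assoc, hg]; rfl⟩

theorem affSieve_mem (T : Over S) : affSieve T ∈ QuotSh.J Scheme.fppfPrecoverage.{u} S T := by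
  rw [GrothendieckTopology.mem_over_iff]
  refine GrothendieckTopology.superset_covering _ ?_
    (Precoverage.generate_mem_toGrothendieck
      (Scheme.zariskiPrecoverage_le_fppfPrecoverage _ T.left.affineCover.mem₀))
  rw [Sieve.generate_le_iff]
  rintro Z g ⟨i⟩
  rw [Sieve.overEquiv_iff]
  exact ⟨i, 𝟙 _, Category.id_comp _⟩

/-- An arrow of the sieve factors through an affine test object. -/
theorem affSieve_factor {T W : Over S} {f : W ⟶ T} (h : affSieve T f) :
    ∃ (R : CommRingCat.{u}) (str : Spec (CommRingCat.of R) ⟶ S) (p : spT str R ⟶ T) (t : W ⟶ spT str R), t ≫ p = f := by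
  obtain ⟨i, g, hg⟩ := h
  obtain ⟨R, ⟨e⟩⟩ : ∃ R : CommRingCat.{u}, Nonempty (Spec R ≅ T.left.affineCover.X i) :=
    ⟨_, ⟨(T.left.affineCover.X i).isoSpec.symm⟩⟩
  let j : Spec (CommRingCat.of R) ⟶ T.left := e.hom ≫ T.left.affineCover.f i
  have hid : CommRingCat.ofHom (algebraMap R R) = 𝟙 (CommRingCat.of R) := rfl
  have hp : (Spec.map (CommRingCat.ofHom (algebraMap R R)) : Spec (CommRingCat.of R) ⟶ _) = 𝟙 _ := by
    rw [hid]; exact Spec.map_id _
  refine ⟨R, j ≫ T.hom, Over.homMk j (by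
    show j ≫ T.hom = Spec.map (CommRingCat.ofHom (algebraMap R R)) ≫ j ≫ T.hom
    rw [hp, Category.id_comp]), Over.homMk (g ≫ e.inv) ?_, Over.OverMorphism.ext ?_⟩
  · show (g ≫ e.inv) ≫ Spec.map (CommRingCat.ofHom (algebraMap R R)) ≫ j ≫ T.hom = W.hom
    rw [hp]
    erw [Category.id_comp]
    simp only [j, Category.assoc, Iso.inv_hom_id_assoc]
    rw [reassoc_of% hg]
    exact Over.w f
  · show (g ≫ e.inv) ≫ e.hom ≫ T.left.affineCover.f i = f.left
    rw [Category.assoc, Iso.inv_hom_id_assoc, hg]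

variable {F G : (Over S)ᵒᵖ ⥤ Type u}

theorem separated_aff (hF : Presheaf.IsSheaf (QuotSh.J Scheme.fppfPrecoverage.{u} S) F) {T : Over S} (x y : F.obj (op T))
    (h : ∀ (R : CommRingCat.{u}) (str : Spec (CommRingCat.of R) ⟶ S) (p : spT str R ⟶ T), F.map p.op x = F.map p.op y) :
    x = y := by
  rw [isSheaf_iff_isSheaf_of_type] at hF
  refine (hF _ (affSieve_mem T)).isSeparatedFor.ext fun W f hf => ?_
  obtain ⟨R, str, p, t, rfl⟩ := affSieve_factor hf
  rw [op_comp, Functor.map_comp_apply, Functor.map_comp_apply, h R str p]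

variable {P : (Over S)ᵒᵖ ⥤ Type u} {H : (Over S)ᵒᵖ ⥤ Type u}

/-- A square of sheaves is cartesian if it is so on affine test objects. -/
theorem isPullback_of_affine {η₁ : P ⟶ F} {η₂ : P ⟶ G} {γ₁ : F ⟶ H} {γ₂ : G ⟶ H}
    (hP : Presheaf.IsSheaf (QuotSh.J Scheme.fppfPrecoverage.{u} S) P)
    (hF : Presheaf.IsSheaf (QuotSh.J Scheme.fppfPrecoverage.{u} S) F)
    (hG : Presheaf.IsSheaf (QuotSh.J Scheme.fppfPrecoverage.{u} S) G)
    (hw : η₁ ≫ γ₁ = η₂ ≫ γ₂)
    (inj : ∀ (R : CommRingCat.{u}) (str : Spec (CommRingCat.of R) ⟶ S) (x y : P.obj (op (spT str R))),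
      η₁.app _ x = η₁.app _ y → η₂.app _ x = η₂.app _ y → x = y)
    (surj : ∀ (R : CommRingCat.{u}) (str : Spec (CommRingCat.of R) ⟶ S) (a : F.obj (op (spT str R)))
      (b : G.obj (op (spT str R))), γ₁.app _ a = γ₂.app _ b → ∃ x, η₁.app _ x = a ∧ η₂.app _ x = b) :
    IsPullback η₁ η₂ γ₁ γ₂ := by
  have hinj : ∀ (T : Over S) (x y : P.obj (op T)), η₁.app _ x = η₁.app _ y → η₂.app _ x = η₂.app _ y → x = y := by
    intro T x y h₁ h₂
    refine separated_aff hP x y fun R str p => inj R str _ _ ?_ ?_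
    · rw [NatTrans.naturality_apply, NatTrans.naturality_apply, h₁]
    · rw [NatTrans.naturality_apply, NatTrans.naturality_apply, h₂]
  refine IsPullback.of_forall_isPullback_app fun T => ?_
  obtain ⟨T, rfl⟩ : ∃ U, op U = T := ⟨T.unop, rfl⟩
  refine (Limits.Types.isPullback_iff _ _ _ _).2 ⟨?_, fun x y h => hinj T x y h.1 h.2, fun a b h => ?_⟩
  · rw [← NatTrans.comp_app, ← NatTrans.comp_app, hw]
  have hP' := hP
  rw [isSheaf_iff_isSheaf_of_type] at hP'
  have hex : ∀ {W : Over S} (f : W ⟶ T), affSieve T f →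
      ∃ x, η₁.app _ x = F.map f.op a ∧ η₂.app _ x = G.map f.op b := by
    intro W f hf
    obtain ⟨R, str, p, t, rfl⟩ := affSieve_factor hf
    obtain ⟨x, hx₁, hx₂⟩ := surj R str (F.map p.op a) (G.map p.op b) (by
      rw [NatTrans.naturality_apply, NatTrans.naturality_apply, h])
    refine ⟨P.map t.op x, ?_, ?_⟩
    · rw [NatTrans.naturality_apply, hx₁, op_comp, Functor.map_comp_apply]
    · rw [NatTrans.naturality_apply, hx₂, op_comp, Functor.map_comp_apply]
  let fam : Presieve.FamilyOfElements P (affSieve T).arrows := fun W f hf => (hex f hf).choose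
  have hfam₁ : ∀ {W : Over S} (f : W ⟶ T) (hf : affSieve T f), η₁.app _ (fam f hf) = F.map f.op a :=
    fun f hf => (hex f hf).choose_spec.1
  have hfam₂ : ∀ {W : Over S} (f : W ⟶ T) (hf : affSieve T f), η₂.app _ (fam f hf) = G.map f.op b :=
    fun f hf => (hex f hf).choose_spec.2
  have hc : fam.Compatible := by
    intro W₁ W₂ V g₁ g₂ f₁ f₂ h₁ h₂ he
    refine hinj V _ _ ?_ ?_
    · rw [NatTrans.naturality_apply, NatTrans.naturality_apply, hfam₁ f₁ h₁, hfam₁ f₂ h₂, ← Functor.map_comp_apply,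
        ← Functor.map_comp_apply, ← op_comp, ← op_comp, he]
    · rw [NatTrans.naturality_apply, NatTrans.naturality_apply, hfam₂ f₁ h₁, hfam₂ f₂ h₂, ← Functor.map_comp_apply,
        ← Functor.map_comp_apply, ← op_comp, ← op_comp, he]
  obtain ⟨x, hx, -⟩ := hP' _ (affSieve_mem T) fam hc
  rw [isSheaf_iff_isSheaf_of_type] at hF hG
  refine ⟨x, (hF _ (affSieve_mem T)).isSeparatedFor.ext fun W f hf => ?_,
    (hG _ (affSieve_mem T)).isSeparatedFor.ext fun W f hf => ?_⟩
  · rw [← NatTrans.naturality_apply, hx f hf, hfam₁ f hf]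
  · rw [← NatTrans.naturality_apply, hx f hf, hfam₂ f hf]

end Groth.Agent.MagFace16
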