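import Groth.Agent.Lib.MagFace16.Aff
import Groth.Agent.Lib.MagFace16.Local
import Groth.Agent.Lib.Magnet16.Dense
import Groth.Agent.S18294
import Mathlib.CategoryTheory.Sites.SubcanonicalOver

/-! Attractors of separated schemes as orbit conditions. -/

set_option autoImplicit false
set_option linter.style.haveILetI false
set_option backward.isDefEq.respectTransparency.types false
universe u

open CategoryTheory CategoryTheory.Limits MonoidalCategory CartesianMonoidalCategory MonObj AlgebraicGeometry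
  Opposite

noncomputable section

namespace Groth.Agent.MagFace16

open Groth.Agent.Magnet16 (chS chS_nat chS_mul chS_inj chS_surj chS_map chS_one)

variable {S : Scheme.{u}}

/-- The sieve of morphisms factoring through a member of a Zariski covering. -/
def covSieve {T : Over S} {Ix : Type u} {Y : Ix → Scheme.{u}} (g : ∀ i, Y i ⟶ T.left) : Sieve T where
  arrows W f := ∃ (i : Ix) (l : W.left ⟶ Y i), l ≫ g i = f.left
  downward_closed := by
    rintro W W' f ⟨i, l, hl⟩ t
    exact ⟨i, t.left ≫ l, by rw [Category.assoc, hl]; rfl⟩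

theorem covSieve_mem {T : Over S} {Ix : Type u} {Y : Ix → Scheme.{u}} (g : ∀ i, Y i ⟶ T.left)
    (hg : Presieve.ofArrows Y g ∈ Scheme.zariskiPrecoverage T.left) :
    covSieve g ∈ QuotSh.J Scheme.fppfPrecoverage.{u} S T := by
  rw [GrothendieckTopology.mem_over_iff]
  refine GrothendieckTopology.superset_covering _ ?_
    (Precoverage.generate_mem_toGrothendieck (Scheme.zariskiPrecoverage_le_fppfPrecoverage _ hg))
  rw [Sieve.generate_le_iff]
  rintro Z f ⟨i⟩
  rw [Sieve.overEquiv_iff]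
  exact ⟨i, 𝟙 _, Category.id_comp _⟩

section Orbit

variable {M : Type} [AddCommMonoid M] {X : Over S} (a : Magnet.MonAct (Magnet.AMonS S M) X) (N : AddSubmonoid M)

/-- The orbit of a point. -/
def orb {T : Over S} (x : T ⟶ X) : Magnet.AMonS S M ⊗ T ⟶ X := (Magnet.AMonS S M ◁ x) ≫ a.act

/-- The orbit extends to the magnet. -/
def InAttr {T : Over S} (x : T ⟶ X) : Prop :=
  ∃ ψ : Magnet.AMonS S N ⊗ T ⟶ X, (Magnet.AMonS.map S N.subtype ▷ T) ≫ ψ = orb a x

theorem orb_comp {T T' : Over S} (t : T' ⟶ T) (x : T ⟶ X) :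
    orb a (t ≫ x) = (Magnet.AMonS S M ◁ t) ≫ orb a x := by
  rw [orb, orb, MonoidalCategory.whiskerLeft_comp, Category.assoc]

theorem inAttr_comp {T T' : Over S} (t : T' ⟶ T) {x : T ⟶ X} (h : InAttr a N x) : InAttr a N (t ≫ x) := by
  obtain ⟨ψ, hψ⟩ := h
  refine ⟨(Magnet.AMonS S N ◁ t) ≫ ψ, ?_⟩
  rw [orb_comp, ← hψ, ← whisker_exchange_assoc]

theorem lift_orb {T : Over S} (x : T ⟶ X) {T' : Over S} (g : T' ⟶ Magnet.AMonS S M) (t : T' ⟶ T) :
    lift g t ≫ orb a x = lift g (t ≫ x) ≫ a.act := by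
  rw [orb, lift_whiskerLeft_assoc]

theorem eval_inAttr {T : Over S} (φ : (Magnet.attr a N).obj (op T)) :
    InAttr a N ((Magnet.attrToX a N).app (op T) φ) := by
  refine ⟨φ.1, ?_⟩
  rw [Magnet16.map_whiskerRight_eqvHom _ a φ.1 φ.2, orb]
  congr 1

/-- Families into `X` parametrized by `A(N)` are determined on `A(M)`. -/
def Det (X : Over S) {M : Type} [AddCommMonoid M] (N : AddSubmonoid M) : Prop :=
  ∀ (T : Over S) (p q : Magnet.AMonS S N ⊗ T ⟶ X),
    (Magnet.AMonS.map S N.subtype ▷ T) ≫ p = (Magnet.AMonS.map S N.subtype ▷ T) ≫ q → p = q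

theorem det_of_separated [IsSeparated X.hom] : Det X N :=
  fun T p q h => Magnet16.hom_ext_of_injective N.subtype N.subtype_injective T X p q h

theorem exists_of_inAttr' (hdet : Det X N) {T : Over S} {x : T ⟶ X} (h : InAttr a N x) :
    ∃ φ : (Magnet.attr a N).obj (op T), (Magnet.attrToX a N).app (op T) φ = x := by
  obtain ⟨ψ, hψ⟩ := h
  have key : ∀ {T' : Over S} (m : T' ⟶ Magnet.AMonS S M) (t : T' ⟶ T),
      lift (m ≫ Magnet.AMonS.map S N.subtype) t ≫ ψ = lift m (t ≫ x) ≫ a.act := by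
    intro T' m t
    rw [← lift_orb a x m t, ← hψ, lift_whiskerRight_assoc]
  have heq : Magnet.MonAct.IsEquivariant ((Magnet.subAct S M N).prod (Magnet.MonAct.trivial _ T)) a ψ := by
    rw [Magnet.MonAct.mem_eqvHom_iff]
    let P : Over S := Magnet.AMonS S N ⊗ (Magnet.AMonS S M ⊗ T)
    let b₀ : P ⟶ Magnet.AMonS S N := fst _ _
    let g₀ : P ⟶ Magnet.AMonS S M := snd _ _ ≫ fst _ _
    let t₀ : P ⟶ T := snd _ _ ≫ snd _ _
    have e : lift (lift g₀ b₀ ≫ (Magnet.subAct S M N).act) t₀ ≫ ψ = lift g₀ (lift b₀ t₀ ≫ ψ) ≫ a.act := by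
      refine hdet _ _ _ ?_
      simp only [b₀, g₀, t₀, comp_lift_assoc, whiskerRight_fst, whiskerRight_snd_assoc]
      rw [Magnet.subAct, Magnet.MonAct.lift_restrict_act, Magnet.MonAct.lift_regular_act, ← MonObj.mul_comp, key,
        key, ← a.lift_mul_act]
    intro T' g b t
    have h := congrArg (fun z => lift b (lift g t) ≫ z) e
    simpa only [b₀, g₀, t₀, comp_lift_assoc, lift_fst, lift_snd_assoc, lift_snd] using h
  refine ⟨⟨ψ, heq⟩, ?_⟩
  show lift (toUnit T ≫ η) (𝟙 T) ≫ ψ = x
  have h1 := key (1 : T ⟶ Magnet.AMonS S M) (𝟙 T)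
  rw [Category.id_comp, a.lift_one_act, MonObj.one_comp] at h1
  rwa [← Hom.one_def]

theorem attrToX_injective' (hdet : Det X N) (T : Over S) :
    Function.Injective ((Magnet.attrToX a N).app (op T)) := fun φ ψ h => by
  refine Subtype.ext (hdet T _ _ ?_)
  rw [Magnet16.map_whiskerRight_eqvHom _ a φ.1 φ.2, Magnet16.map_whiskerRight_eqvHom _ a ψ.1 ψ.2]
  congr 1
  exact congrArg (fun z => lift (fst _ T) (snd _ T ≫ z)) h

/-- The orbit condition is local. -/
theorem inAttr_of_cover' (hdet : Det X N) {T : Over S} {R : Sieve T}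
    (hR : R ∈ QuotSh.J Scheme.fppfPrecoverage.{u} S T) (x : T ⟶ X)
    (h : ∀ (W : Over S) (f : W ⟶ T), R f → InAttr a N (f ≫ x)) : InAttr a N x := by
  haveI : (QuotSh.J Scheme.fppfPrecoverage.{u} S).Subcanonical :=
    inferInstanceAs ((Scheme.fppfTopology.over S).Subcanonical)
  have hX : Presieve.IsSheaf (QuotSh.J Scheme.fppfPrecoverage.{u} S) (yoneda.obj X) :=
    GrothendieckTopology.Subcanonical.isSheaf_of_isRepresentable (yoneda.obj X)
  have hA := S18294.result S (Magnet.AMonS S M) (Magnet.AMonS S N) X (Magnet.subAct S M N) a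
  rw [isSheaf_iff_isSheaf_of_type] at hA
  choose φ hφ using fun W f hf => exists_of_inAttr' a N hdet (h W f hf)
  have hc : Presieve.FamilyOfElements.Compatible (P := Magnet.attr a N) (R := R.arrows) φ := by
    intro W₁ W₂ V g₁ g₂ f₁ f₂ h₁ h₂ he
    apply attrToX_injective' a N hdet V
    rw [NatTrans.naturality_apply, NatTrans.naturality_apply, hφ W₁ f₁ h₁, hφ W₂ f₂ h₂]
    show g₁ ≫ f₁ ≫ x = g₂ ≫ f₂ ≫ x
    rw [← Category.assoc, he, Category.assoc]
  obtain ⟨Φ, hΦ, -⟩ := hA R hR φ hc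
  have hev : (Magnet.attrToX a N).app (op T) Φ = x := (hX R hR).isSeparatedFor.ext fun W f hf => by
    rw [← NatTrans.naturality_apply, hΦ f hf, hφ W f hf]
    rfl
  exact hev ▸ eval_inAttr a N Φ

variable [IsSeparated X.hom]

theorem exists_of_inAttr {T : Over S} {x : T ⟶ X} (h : InAttr a N x) :
    ∃ φ : (Magnet.attr a N).obj (op T), (Magnet.attrToX a N).app (op T) φ = x :=
  exists_of_inAttr' a N (det_of_separated N) h

theorem attrToX_injective (T : Over S) : Function.Injective ((Magnet.attrToX a N).app (op T)) :=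
  attrToX_injective' a N (det_of_separated N) T

theorem inAttr_iff {T : Over S} (x : T ⟶ X) :
    InAttr a N x ↔ ∃ φ : (Magnet.attr a N).obj (op T), (Magnet.attrToX a N).app (op T) φ = x :=
  ⟨exists_of_inAttr a N, fun ⟨φ, h⟩ => h ▸ eval_inAttr a N φ⟩

theorem inAttr_of_cover {T : Over S} {R : Sieve T} (hR : R ∈ QuotSh.J Scheme.fppfPrecoverage.{u} S T) (x : T ⟶ X)
    (h : ∀ (W : Over S) (f : W ⟶ T), R f → InAttr a N (f ≫ x)) : InAttr a N x :=
  inAttr_of_cover' a N (det_of_separated N) hR x h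

end Orbit

section Chart

variable {R : Type u} [CommRing R] (str : Spec (CommRingCat.of R) ⟶ S) {M : Type} [AddCommMonoid M]
  (N : AddSubmonoid M) (C : Type u) [CommRing C] [Algebra R C]

/-- The inclusion of the magnet's monoid algebra. -/
def jC : MonoidAlgebra C (Multiplicative N) →ₐ[R] MonoidAlgebra C (Multiplicative M) :=
  (MonoidAlgebra.mapDomainAlgHom C C (AddMonoidHom.toMultiplicative N.subtype)).restrictScalars R

theorem jC_injective : Function.Injective (jC (R := R) N C) :=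
  MonoidAlgebra.mapDomain_injective N.subtype_injective

theorem chart_inc :
    chart str C M ≫ (Magnet.AMonS.map S N.subtype ▷ spT str C) = spHom str (jC (R := R) N C) ≫ chart str C N := by
  rw [chart, chart, lift_whiskerRight, comp_lift, spHom_comp]
  congr 1
  · refine chS_inj fun n => ?_
    obtain ⟨n, rfl⟩ : ∃ m, Multiplicative.ofAdd m = n := ⟨n.toAdd, rfl⟩
    rw [chS_map, chS_bpt, chS_nat, chS_bpt, appTop_gl]
    refine congrArg gl ?_
    simp [jC]
  · exact congrArg (spHom str) (AlgHom.ext fun c => by simp [jC, MonoidAlgebra.coe_algebraMap])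

theorem mem_range_jC (f : MonoidAlgebra C (Multiplicative M)) :
    f ∈ (jC (R := R) N C).range ↔ ∀ m : M, m ∉ N → f.coeff (Multiplicative.ofAdd m) = 0 := by
  classical
  constructor
  · rintro ⟨g, rfl⟩ m hm
    show (MonoidAlgebra.mapDomain _ g).coeff _ = 0
    rw [MonoidAlgebra.coeff_mapDomain]
    refine Finsupp.mapDomain_of_notMem_range _ _ ?_
    rintro ⟨n, hn⟩
    exact hm (Multiplicative.ofAdd.injective hn ▸ n.toAdd.2)
  · intro h
    rw [← MonoidAlgebra.sum_coeff_single f]
    refine sum_mem fun m hm => ?_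
    have hmN : m.toAdd ∈ N := by
      by_contra hc
      exact Finsupp.mem_support_iff.1 hm (h _ hc)
    exact ⟨MonoidAlgebra.single (Multiplicative.ofAdd ⟨_, hmN⟩) (f.coeff m), by simp [jC]⟩

variable {C} {X : Over S} (D : Model str X) (a : Magnet.MonAct (Magnet.AMonS S M) X)

theorem chart_orb (c : D.B →ₐ[R] C) :
    chart str C M ≫ orb a (D.pt c) =
      D.pt ((MonoidAlgebra.mapAlgHom (Multiplicative M) c).comp (rho str D a)) := by
  rw [chart, lift_orb, pt_act]

/-- The orbit condition in coordinates. -/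
theorem inAttr_pt_iff (c : D.B →ₐ[R] C) :
    InAttr a N (D.pt c) ↔ ∀ (b : D.B) (m : M), m ∉ N → c ((rho str D a b).coeff (Multiplicative.ofAdd m)) = 0 := by
  constructor
  · rintro ⟨ψ, hψ⟩ b m hm
    obtain ⟨v, hv⟩ := D.pt_surj (chart str C N ≫ ψ)
    have h : (jC (R := R) N C).comp v = (MonoidAlgebra.mapAlgHom (Multiplicative M) c).comp (rho str D a) := by
      apply D.pt_inj
      rw [← D.spHom_pt, hv, ← chart_orb, ← hψ, ← Category.assoc, ← Category.assoc, chart_inc]
    have h' : MonoidAlgebra.mapAlgHom (Multiplicative M) c (rho str D a b) ∈ (jC (R := R) N C).range :=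
      ⟨v b, DFunLike.congr_fun h b⟩
    have h'' := (mem_range_jC N C _).1 h' m hm
    rwa [MonoidAlgebra.coeff_mapAlgHom] at h''
  · intro h
    let f := (MonoidAlgebra.mapAlgHom (Multiplicative M) c).comp (rho str D a)
    have hr : ∀ b, f b ∈ (jC (R := R) N C).range := fun b => (mem_range_jC N C _).2 fun m hm => by
      rw [AlgHom.comp_apply, MonoidAlgebra.coeff_mapAlgHom]
      exact h b m hm
    let e := AlgEquiv.ofInjective _ (jC_injective (R := R) N C)
    let v : D.B →ₐ[R] MonoidAlgebra C (Multiplicative N) := e.symm.toAlgHom.comp (f.codRestrict _ hr)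
    have hv : (jC (R := R) N C).comp v = f :=
      AlgHom.ext fun b => congrArg Subtype.val (e.apply_symm_apply (f.codRestrict _ hr b))
    refine ⟨inv (chart str C N) ≫ D.pt v, ?_⟩
    rw [← cancel_epi (chart str C M), ← Category.assoc, chart_inc, Category.assoc, IsIso.hom_inv_id_assoc,
      D.spHom_pt, hv, chart_orb]

end Chart

end Groth.Agent.MagFace16
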