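import Groth.Agent.Lib.MagFace16.Push
import Groth.Agent.Lib.MagFace16.Orbit
import Groth.Agent.Lib.MagFace16.Local
import Groth.Agent.Lib.AlgSpace.ValLift

/-! Attractors of stable closed subschemes. -/

set_option autoImplicit false
set_option linter.style.haveILetI false
set_option backward.isDefEq.respectTransparency.types false
universe u

open CategoryTheory CategoryTheory.Limits MonoidalCategory CartesianMonoidalCategory MonObj AlgebraicGeometry
  Opposite

noncomputable section

namespace Groth.Agent.MagFace16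

variable {S : Scheme.{u}} {M : Type} [AddCommGroup M] {N : AddSubmonoid M} {X Y : Over S}
  (aX : Magnet.MonAct (Magnet.AMonS S M) X) (aY : Magnet.MonAct (Magnet.AMonS S M) Y) (f : X ⟶ Y)
  [IsClosedImmersion f.left] (hf : Magnet.MonAct.IsEquivariant aX aY f)

theorem isPullback_attr_closed :
    IsPullback (Magnet.MonAct.eqvHom.postcomp (Magnet.subAct S M N) f hf) (Magnet.attrToX aX N)
      (Magnet.attrToX aY N) (yoneda.map f) := by
  haveI : Mono f := (Over.forget _).mono_of_mono_map (show Mono f.left from inferInstance)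
  refine isPullback_of_affine (S18294.result _ _ _ _ _ _) (S18294.result _ _ _ _ _ _) ((isSheaf_iff_isSheaf_of_type _ _).2 (isSheaf_yoneda' X)) ?_ ?_ ?_
  · ext T φ
    exact (Category.assoc _ _ _).symm
  · intro R str x y h₁ _
    exact Subtype.ext ((cancel_mono f).1 (congrArg Subtype.val h₁))
  · intro R str φ u hu
    let y := chart str R N ≫ φ.1
    have hu' : lift (toUnit _ ≫ η[Magnet.AMonS S N]) (𝟙 _) ≫ φ.1 = u ≫ f := hu
    have e : spHom str (jC (R := R) N R) ≫ y = (chart str R M ≫ orb aX u) ≫ f := by
      rw [← reassoc_of% (chart_inc str N R), Category.assoc]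
      congr 1
      refine (Magnet16.map_whiskerRight_eqvHom _ aY φ.1 φ.2).trans ?_
      rw [hu', orb, Category.assoc, show aX.act ≫ f = (_ ◁ f) ≫ aY.act from hf,
        ← MonoidalCategory.whiskerLeft_comp_assoc]
      congr 1
    haveI : IsSchemeTheoreticallyDominant (spHom str (jC (R := R) N R)).left :=
      AlgSpace.schDom_SpecMap _ (jC_injective (R := R) N R)
    have hle : f.left.ker ≤ y.left.ker := by
      rw [← AlgSpace.ker_comp_of_schDom (spHom str (jC (R := R) N R)).left y.left, ← Over.comp_left, e, Over.comp_left]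
      exact Scheme.Hom.le_ker_comp _ _
    let ψ₀ : spT str (MonoidAlgebra R (Multiplicative N)) ⟶ X :=
      Over.homMk (IsClosedImmersion.lift f.left y.left hle) (by
        rw [← Over.w f, ← Category.assoc, IsClosedImmersion.lift_fac]
        exact Over.w y)
    have hψ₀ : ψ₀ ≫ f = y := Over.OverMorphism.ext (IsClosedImmersion.lift_fac _ _ _)
    let ψ := inv (chart str R N) ≫ ψ₀
    have hψ : ψ ≫ f = φ.1 := by rw [Category.assoc, hψ₀, IsIso.inv_hom_id_assoc]
    have hψe : Magnet.MonAct.IsEquivariant ((Magnet.subAct S M N).prod (Magnet.MonAct.trivial _ (spT str R))) aX ψ := by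
      unfold Magnet.MonAct.IsEquivariant
      rw [← cancel_mono f, Category.assoc, hψ, Category.assoc, hf, ← MonoidalCategory.whiskerLeft_comp_assoc, hψ]
      exact φ.2
    refine ⟨⟨ψ, hψe⟩, Subtype.ext hψ, ?_⟩
    show lift (toUnit _ ≫ η[Magnet.AMonS S N]) (𝟙 _) ≫ ψ = u
    rw [← cancel_mono f, Category.assoc, hψ]
    exact hu'

end Groth.Agent.MagFace16
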