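import Groth.Prelude.Def_Magnet4
import Mathlib.Algebra.Group.UniqueProds.Basic
import Mathlib.Algebra.MonoidAlgebra.NoZeroDivisors
import Mathlib.Order.WellFoundedSet
import Mathlib.LinearAlgebra.FreeModule.PID
import Mathlib.GroupTheory.Finiteness
import Mathlib.Algebra.Module.Torsion.Free
import Mathlib.Algebra.MonoidAlgebra.Support
import Mathlib.Tactic

/-! Monomials outside a face: classes, powers, separatedness. -/

set_option autoImplicit false
universe u

open MonoidAlgebra

noncomputable section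

namespace Groth.Agent.MagFace16

variable {M : Type} [AddCommGroup M] {N Q : AddSubmonoid M}

/-- The subgroup of elements a positive multiple of which is a difference of elements of `Q`. -/
def sat (Q : AddSubmonoid M) : AddSubgroup M where
  carrier := {x | ∃ k : ℕ, 0 < k ∧ ∃ a ∈ Q, ∃ b ∈ Q, k • x + b = a}
  zero_mem' := ⟨1, one_pos, 0, zero_mem _, 0, zero_mem _, by simp⟩
  add_mem' := by
    rintro x y ⟨k, hk, a, ha, b, hb, h⟩ ⟨l, hl, a', ha', b', hb', h'⟩
    refine ⟨k * l, Nat.mul_pos hk hl, l • a + k • a', add_mem (nsmul_mem ha _) (nsmul_mem ha' _),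
      l • b + k • b', add_mem (nsmul_mem hb _) (nsmul_mem hb' _), ?_⟩
    rw [← h, ← h', nsmul_add, nsmul_add, nsmul_add, ← mul_nsmul', ← mul_nsmul', mul_comm l k]
    abel
  neg_mem' := by
    rintro x ⟨k, hk, a, ha, b, hb, h⟩
    refine ⟨k, hk, b, hb, a, ha, ?_⟩
    rw [← h, neg_nsmul]
    abel

theorem mem_sat_iff (hQ : Magnet.IsFace N Q) {n : M} (hn : n ∈ N) : n ∈ sat Q ↔ n ∈ Q := by
  constructor
  · rintro ⟨k, hk, a, ha, b, hb, h⟩
    have h1 : k • n ∈ Q := (hQ.mem_of_add_mem _ (nsmul_mem hn k) b (hQ.le hb) (h ▸ ha)).1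
    obtain ⟨k', rfl⟩ := Nat.exists_eq_succ_of_ne_zero hk.ne'
    rw [succ_nsmul] at h1
    exact (hQ.mem_of_add_mem _ (nsmul_mem hn k') n hn h1).2
  · exact fun h => ⟨1, one_pos, n, h, 0, zero_mem _, by simp⟩

theorem sat_nsmul {x : M} {k : ℕ} (hk : 0 < k) (h : k • x ∈ sat Q) : x ∈ sat Q := by
  obtain ⟨l, hl, a, ha, b, hb, h⟩ := h
  exact ⟨l * k, Nat.mul_pos hl hk, a, ha, b, hb, by rw [mul_nsmul']; exact h⟩

/-- Integral coordinates separating a face. -/
theorem exists_coord [AddGroup.FG M] (hQ : Magnet.IsFace N Q) :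
    ∃ (r : ℕ) (ψ : M →+ (Fin r →₀ ℤ)), ∀ n ∈ N, ψ n = 0 ↔ n ∈ Q := by
  let q := QuotientAddGroup.mk' (sat Q)
  haveI : AddMonoid.FG (M ⧸ sat Q) := AddGroup.fg_iff_addMonoid_fg.1 inferInstance
  haveI : Module.Finite ℤ (M ⧸ sat Q) := Module.Finite.iff_addGroup_fg.2 inferInstance
  haveI : IsAddTorsionFree (M ⧸ sat Q) := by
    refine ⟨fun k hk x y hxy => ?_⟩
    obtain ⟨a, rfl⟩ := QuotientAddGroup.mk'_surjective (sat Q) x
    obtain ⟨b, rfl⟩ := QuotientAddGroup.mk'_surjective (sat Q) y
    simp only [← map_nsmul] at hxy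
    refine (QuotientAddGroup.eq_iff_sub_mem).2 (sat_nsmul (Nat.pos_of_ne_zero hk) ?_)
    rw [nsmul_sub]
    exact (QuotientAddGroup.eq_iff_sub_mem).1 hxy
  haveI : Module.Free ℤ (M ⧸ sat Q) := Module.free_of_finite_type_torsion_free'
  let e := (Module.finBasis ℤ (M ⧸ sat Q)).repr
  refine ⟨_, e.toLinearMap.toAddMonoidHom.comp q, fun n hn => ?_⟩
  rw [← mem_sat_iff hQ hn]
  show e (q n) = 0 ↔ _
  rw [e.map_eq_zero_iff]
  exact QuotientAddGroup.eq_zero_iff n

variable (N Q) in
/-- Elements of `N` which are sums of `k` elements outside `Q` and an element of `N`. -/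
def wt : ℕ → Set (Multiplicative N)
  | 0 => Set.univ
  | k + 1 => {n | ∃ a b : Multiplicative N, ((Multiplicative.toAdd a : N) : M) ∉ Q ∧ b ∈ wt k ∧ n = a * b}

theorem wt_mul {k : ℕ} {n : Multiplicative N} (h : n ∈ wt N Q k) (m : Multiplicative N) : n * m ∈ wt N Q k := by
  induction k generalizing n with
  | zero => trivial
  | succ k ih =>
    obtain ⟨a, b, ha, hb, rfl⟩ := h
    exact ⟨a, b * m, ha, ih hb, mul_assoc _ _ _⟩

/-- A sum with many terms outside the face. -/
theorem exists_rep_of_mem_wt {r : ℕ} (g : Fin r → N)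
    (hg : ∀ n : N, ∃ a : Fin r → ℕ, ∑ i, a i • g i = n) {k : ℕ} {n : Multiplicative N} (h : n ∈ wt N Q k) :
    open Classical in
    ∃ a : Fin r → ℕ, ∑ i, a i • g i = n.toAdd ∧ k ≤ ∑ i, (if (g i : M) ∈ Q then 0 else a i) := by
  classical
  induction k generalizing n with
  | zero =>
    obtain ⟨a, ha⟩ := hg n.toAdd
    exact ⟨a, ha, Nat.zero_le _⟩
  | succ k ih =>
    obtain ⟨a, b, ha, hb, rfl⟩ := h
    obtain ⟨y, hy, hwy⟩ := ih hb
    obtain ⟨x, hx⟩ := hg a.toAdd
    refine ⟨x + y, ?_, ?_⟩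
    · simp only [Pi.add_apply, add_smul, Finset.sum_add_distrib, hx, hy, toAdd_mul]
    · have h1 : 1 ≤ ∑ i, (if (g i : M) ∈ Q then 0 else x i) := by
        by_contra hlt
        have h0 : ∀ i, (g i : M) ∈ Q ∨ x i = 0 := fun i => by
          have h := (Finset.sum_eq_zero_iff.1 (Nat.lt_one_iff.1 (not_le.1 hlt))) i (Finset.mem_univ i)
          by_cases hi : (g i : M) ∈ Q
          · exact Or.inl hi
          · rw [if_neg hi] at h; exact Or.inr h
        refine ha ?_
        rw [← hx, AddSubmonoid.coe_finsetSum]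
        refine sum_mem fun i _ => ?_
        rcases h0 i with hi | hi
        · rw [AddSubmonoidClass.coe_nsmul]; exact nsmul_mem hi _
        · rw [hi, zero_smul]; exact zero_mem _
      calc k + 1 ≤ (∑ i, (if (g i : M) ∈ Q then 0 else y i)) + ∑ i, (if (g i : M) ∈ Q then 0 else x i) :=
            Nat.add_le_add hwy h1
        _ = ∑ i, (if (g i : M) ∈ Q then 0 else (x + y) i) := by
            rw [← Finset.sum_add_distrib]
            refine Finset.sum_congr rfl fun i _ => ?_
            by_cases hi : (g i : M) ∈ Q <;> simp [hi, Nat.add_comm]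

/-- Each class contains only sums with boundedly many terms outside the face. -/
theorem exists_bound (hQ : Magnet.IsFace N Q) (hN : N.FG) {r : ℕ} (ψ : M →+ (Fin r →₀ ℤ))
    (hψ : ∀ n ∈ N, ψ n = 0 ↔ n ∈ Q) (c : Fin r →₀ ℤ) :
    ∃ k, ∀ n ∈ wt N Q k, ψ ((Multiplicative.toAdd n : N) : M) ≠ c := by
  classical
  obtain ⟨T, hT⟩ := hN
  let s := T.card
  let g : Fin s → N := fun i => ⟨(T.equivFin.symm i).1, hT ▸ AddSubmonoid.subset_closure (T.equivFin.symm i).2⟩
  have hg : ∀ n : N, ∃ a : Fin s → ℕ, ∑ i, a i • g i = n := by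
    rintro ⟨n, hn⟩
    suffices h : ∃ a : Fin s → ℕ, ∑ i, a i • (g i : M) = n by
      obtain ⟨a, ha⟩ := h
      exact ⟨a, Subtype.ext (by simpa [AddSubmonoid.coe_finsetSum] using ha)⟩
    induction (hT.symm ▸ hn : n ∈ AddSubmonoid.closure (T : Set M)) using AddSubmonoid.closure_induction with
    | mem x hx =>
      refine ⟨Pi.single (T.equivFin ⟨x, hx⟩) 1, ?_⟩
      simp [Pi.single_apply, ite_smul, g]
    | zero => exact ⟨0, by simp⟩
    | add x y hx' hy' hx hy =>
      obtain ⟨a, rfl⟩ := hx (hT ▸ hx')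
      obtain ⟨b, rfl⟩ := hy (hT ▸ hy')
      exact ⟨a + b, by simp [add_smul, Finset.sum_add_distrib]⟩
  let w : (Fin s → ℕ) → ℕ := fun a => ∑ i, (if (g i : M) ∈ Q then 0 else a i)
  by_contra hne
  push Not at hne
  choose n hn hnc using hne
  choose a ha hw using fun k => exists_rep_of_mem_wt g hg (hn k)
  obtain ⟨φ, hφ⟩ := (wellQuasiOrdered_le (α := Fin s → ℕ)).exists_monotone_subseq a
  let j := w (a (φ 0)) + 1
  have hlt : w (a (φ 0)) < w (a (φ j)) :=
    lt_of_lt_of_le (Nat.lt_succ_self _) ((φ.strictMono.le_apply).trans (hw _))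
  have hle : a (φ 0) ≤ a (φ j) := hφ 0 j (Nat.zero_le _)
  let d : Fin s → ℕ := a (φ j) - a (φ 0)
  have hd : a (φ j) = a (φ 0) + d := funext fun i => (Nat.add_sub_of_le (hle i)).symm
  have hval : ∀ k, ψ ((∑ i, a k i • g i : N) : M) = c := fun k => by rw [ha k]; exact hnc k
  have hd0 : ψ ((∑ i, d i • g i : N) : M) = 0 := by
    have h1 := hval (φ j)
    rw [hd] at h1
    simp only [Pi.add_apply, add_smul, Finset.sum_add_distrib, AddSubmonoid.coe_add, map_add, hval (φ 0)] at h1
    exact add_eq_left.1 h1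
  have hdQ : ((∑ i, d i • g i : N) : M) ∈ Q := (hψ _ (∑ i, d i • g i : N).2).1 hd0
  have hzero : ∀ i, (g i : M) ∈ Q ∨ d i = 0 := by
    intro i
    by_cases hdi : d i = 0
    · exact Or.inr hdi
    left
    rw [AddSubmonoid.coe_finsetSum, ← Finset.add_sum_erase _ _ (Finset.mem_univ i)] at hdQ
    have h1 := (hQ.mem_of_add_mem _ (d i • g i).2 _ (sum_mem fun x _ => (d x • g x).2) hdQ).1
    obtain ⟨m, hm⟩ := Nat.exists_eq_succ_of_ne_zero hdi
    rw [AddSubmonoidClass.coe_nsmul, hm, succ_nsmul] at h1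
    exact (hQ.mem_of_add_mem _ (nsmul_mem (g i).2 m) _ (g i).2 h1).2
  refine hlt.ne (Finset.sum_congr rfl fun i _ => ?_)
  by_cases hi : (g i : M) ∈ Q
  · simp only [hi, if_true]
  · have : d i = 0 := (hzero i).resolve_left hi
    simp only [hi, if_false, hd, Pi.add_apply, this, add_zero]

section Ring

variable (R : Type u) [CommRing R]

/-- The monoid algebra of `N`. -/
abbrev RN (N : AddSubmonoid M) := MonoidAlgebra R (Multiplicative N)

/-- The kernel of the face projection. -/
abbrev jI (hQ : Magnet.IsFace N Q) : Ideal (RN R N) := RingHom.ker (Magnet.faceAlgHom R hQ)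

variable {R}

theorem face_apply_coeff (hQ : Magnet.IsFace N Q) (f : RN R N) (n : Multiplicative N)
    (hn : ((n.toAdd : N) : M) ∈ Q) :
    (Magnet.faceAlgHom R hQ f).coeff (Multiplicative.ofAdd ⟨_, hn⟩) = f.coeff n := by
  induction f using MonoidAlgebra.induction_linear with
  | zero => simp
  | add a b ha hb => simp [map_add, ha, hb]
  | single m r =>
    by_cases hm : ((m.toAdd : N) : M) ∈ Q
    · rw [show m = Multiplicative.ofAdd m.toAdd from rfl, Magnet.faceAlgHom_single_of_mem R hQ m.toAdd hm]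
      classical
      simp only [MonoidAlgebra.coeff_single]
      by_cases hmn : m = n
      · subst hmn; simp
      · have hne : (Multiplicative.ofAdd (⟨_, hm⟩ : Q)) ≠ Multiplicative.ofAdd ⟨_, hn⟩ := fun h =>
          hmn (Multiplicative.toAdd.injective (Subtype.ext (congrArg (fun z : Multiplicative Q => ((z.toAdd : Q) : M)) h)))
        rw [Finsupp.single_eq_of_ne hne.symm, Finsupp.single_eq_of_ne (show n ≠ Multiplicative.ofAdd m.toAdd from fun h => hmn h.symm)]
    · rw [show m = Multiplicative.ofAdd m.toAdd from rfl, Magnet.faceAlgHom_single_of_not_mem R hQ m.toAdd hm]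
      have hne : n ≠ Multiplicative.ofAdd m.toAdd := fun h => hm (h ▸ hn)
      simpa [MonoidAlgebra.coeff_single] using (Finsupp.single_eq_of_ne hne).symm

theorem support_subset_of_mem_jI (hQ : Magnet.IsFace N Q) {f : RN R N} (hf : f ∈ jI R hQ) :
    (f.coeff.support : Set (Multiplicative N)) ⊆ wt N Q 1 := by
  intro n hn
  refine ⟨n, 1, fun h => ?_, trivial, (mul_one n).symm⟩
  rw [Finset.mem_coe, Finsupp.mem_support_iff] at hn
  apply hn
  rw [← face_apply_coeff hQ f n h, (RingHom.mem_ker).1 hf]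
  simp

theorem support_mul_subset {S : Set (Multiplicative N)} (hS : ∀ a ∈ S, ∀ b, a * b ∈ S) {f : RN R N}
    (hf : (f.coeff.support : Set (Multiplicative N)) ⊆ S) (g : RN R N) :
    ((f * g).coeff.support : Set (Multiplicative N)) ⊆ S := by
  classical
  intro n hn
  obtain ⟨a, ha, b, -, rfl⟩ := Finset.mem_mul.1 (MonoidAlgebra.support_coeff_mul_subset f g hn)
  exact hS a (hf ha) b

theorem support_subset_of_mem_pow (hQ : Magnet.IsFace N Q) {k : ℕ} {f : RN R N} (hf : f ∈ jI R hQ ^ k) :
    (f.coeff.support : Set (Multiplicative N)) ⊆ wt N Q k := by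
  classical
  induction k generalizing f with
  | zero => exact fun n _ => trivial
  | succ k ih =>
    rw [pow_succ'] at hf
    refine Submodule.mul_induction_on hf ?_ ?_
    · intro a ha b hb n hn
      obtain ⟨x, hx, y, hy, rfl⟩ := Finset.mem_mul.1 (MonoidAlgebra.support_coeff_mul_subset a b hn)
      obtain ⟨p, q, hp, -, rfl⟩ := support_subset_of_mem_jI hQ ha hx
      exact ⟨p, y * q, hp, wt_mul (ih hb hy) q, by rw [mul_assoc, mul_comm q y]⟩
    · intro a b ha hb n hn
      rcases Finset.mem_union.1 (Finsupp.support_add (by simpa using hn)) with h | h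
      · exact ha h
      · exact hb h

/-- Functions of degree zero. -/
def zeroPart (N Q : AddSubmonoid M) : Set (Multiplicative N) := {n | ((n.toAdd : N) : M) ∈ Q}

/-- Separatedness of the powers, up to functions of degree zero. -/
theorem eq_zero_of_mul_pow_mem [AddGroup.FG M] (hQ : Magnet.IsFace N Q) (hN : N.FG) (h e : RN R N)
    (hh : (h.coeff.support : Set (Multiplicative N)) ⊆ zeroPart N Q)
    (he : ∀ k, ∃ m : ℕ, h ^ m * e ∈ jI R hQ ^ k) : ∃ m : ℕ, h ^ m * e = 0 := by
  classical
  obtain ⟨r, ψ, hψ⟩ := exists_coord hQ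
  choose b hb using fun c => exists_bound hQ hN ψ hψ c
  let cls : Multiplicative N → (Fin r →₀ ℤ) := fun n => ψ ((n.toAdd : N) : M)
  let K := (e.coeff.support.image fun n => b (cls n)).sup id
  obtain ⟨m, hm⟩ := he K
  have hwt : ∀ {k l : ℕ}, k ≤ l → wt N Q l ⊆ wt N Q k := by
    intro k l hkl
    induction hkl with
    | refl => exact subset_rfl
    | @step l _ ih =>
      rintro n ⟨p, q, -, hq, rfl⟩
      rw [mul_comm]
      exact wt_mul (ih hq) p
  refine ⟨m, MonoidAlgebra.coeff_inj.1 (Finsupp.ext fun n => ?_)⟩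
  by_contra hn
  have hn' : n ∈ (h ^ m * e).coeff.support := Finsupp.mem_support_iff.2 (by simpa using hn)
  have h1 := support_subset_of_mem_pow hQ hm hn'
  obtain ⟨x, hx, y, hy, rfl⟩ := Finset.mem_mul.1 (MonoidAlgebra.support_coeff_mul_subset _ _ hn')
  have hx0 : cls x = 0 := by
    have : ∀ m : ℕ, ((h ^ m).coeff.support : Set (Multiplicative N)) ⊆ {n | cls n = 0} := by
      intro m
      induction m with
      | zero =>
        intro z hz
        rw [pow_zero] at hz
        obtain rfl : z = 1 := by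
          by_contra hz1
          rw [Finset.mem_coe, Finsupp.mem_support_iff, MonoidAlgebra.one_def, MonoidAlgebra.coeff_single,
            Finsupp.single_eq_of_ne hz1] at hz
          exact hz rfl
        show ψ _ = 0
        simp
      | succ m ih =>
        intro z hz
        rw [pow_succ] at hz
        obtain ⟨p, hp, q, hq, rfl⟩ := Finset.mem_mul.1 (MonoidAlgebra.support_coeff_mul_subset _ _ hz)
        have h1 : cls p = 0 := ih hp
        have h2 : cls q = 0 := (hψ _ (q.toAdd).2).2 (hh hq)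
        show ψ _ = 0
        simp only [cls] at h1 h2
        simp [toAdd_mul, h1, h2]
    exact this m hx
  refine hb (cls y) (x * y) (hwt ?_ h1) ?_
  · exact Finset.le_sup (f := id) (Finset.mem_image_of_mem (fun n => b (cls n)) hy)
  · show ψ _ = _
    simp only [cls] at hx0
    simp [cls, toAdd_mul, hx0]

/-- The powers of the kernel of the face projection are separated. -/
theorem eq_zero_of_forall_mem_pow [AddGroup.FG M] (hQ : Magnet.IsFace N Q) (hN : N.FG) (e : RN R N)
    (he : ∀ k, e ∈ jI R hQ ^ k) : e = 0 := by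
  obtain ⟨m, hm⟩ := eq_zero_of_mul_pow_mem hQ hN 1 e (fun n hn => by
    classical
    rw [Finset.mem_coe, Finsupp.mem_support_iff, MonoidAlgebra.one_def, MonoidAlgebra.coeff_single] at hn
    obtain rfl : n = 1 := by by_contra h; exact hn (Finsupp.single_eq_of_ne h)
    show ((0 : N) : M) ∈ Q
    exact zero_mem _) (fun k => ⟨0, by simpa using he k⟩)
  simpa using hm

/-- An element outside the face never becomes congruent to one in the twisted algebra of a field. -/
theorem not_isNilpotent_twist [AddGroup.FG M] (hQ : Magnet.IsFace N Q) {κ : Type u} [Field κ] [Algebra R κ]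
    (θ : RN R N →ₐ[R] MonoidAlgebra κ (Multiplicative M))
    (hθ : ∀ n : Multiplicative N, ∃ c : κ, θ (MonoidAlgebra.of R _ n) = MonoidAlgebra.single (Multiplicative.ofAdd ((n.toAdd : N) : M)) c)
    {i j : RN R N} (hj : j ∈ jI R hQ) (hij : i + j = 1) : ¬ IsNilpotent (θ i) := by
  classical
  obtain ⟨r, ψ, hψ⟩ := exists_coord hQ
  let p := MonoidAlgebra.mapDomainRingHom κ ψ.toMultiplicative
  intro hnil
  have hi : p (θ i) = 0 := (hnil.map p).eq_zero
  have h1 : p (θ j) = 1 := by
    have h := congrArg (fun x => p (θ x)) hij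
    simpa [map_add, hi] using h
  have h0 : (p (θ j)).coeff 1 = 0 := by
    have key : ∀ n ∈ j.coeff.support, (p (θ (MonoidAlgebra.single n (j.coeff n)))).coeff 1 = 0 := by
      intro n hn
      obtain ⟨q, q', hq, -, hq'⟩ := support_subset_of_mem_jI hQ hj hn
      obtain ⟨c, hc⟩ := hθ n
      have hnQ : ψ ((n.toAdd : N) : M) ≠ 0 := by
        intro h
        have hm := (hψ _ n.toAdd.2).1 h
        rw [hq', toAdd_mul, AddSubmonoid.coe_add] at hm
        exact hq (hQ.mem_of_add_mem _ q.toAdd.2 _ q'.toAdd.2 hm).1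
      rw [show MonoidAlgebra.single n (j.coeff n) = j.coeff n • MonoidAlgebra.of R _ n from by
        simp [MonoidAlgebra.smul_single], map_smul, Algebra.smul_def, hc, MonoidAlgebra.coe_algebraMap]
      simp only [Function.comp_apply, MonoidAlgebra.single_mul_single, one_mul, p]
      rw [MonoidAlgebra.mapDomainRingHom_apply, MonoidAlgebra.mapDomain_single, MonoidAlgebra.coeff_single,
        Finsupp.single_eq_of_ne]
      intro h
      exact hnQ (Multiplicative.ofAdd.injective h.symm)
    conv_lhs => rw [← MonoidAlgebra.sum_coeff_single j]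
    rw [Finsupp.sum, map_sum, map_sum]
    simp only [MonoidAlgebra.coeff_sum, Finsupp.finsetSum_apply]
    exact Finset.sum_eq_zero key
  rw [h1, MonoidAlgebra.one_def, MonoidAlgebra.coeff_single, Finsupp.single_eq_same] at h0
  exact one_ne_zero h0

end Ring

end Groth.Agent.MagFace16
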