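import Groth.Agent.Lib.MagFace16.Stage
import Groth.Agent.Lib.MagFace16.Local
import Groth.Agent.Lib.FerrandPush.Basic
import Mathlib.CategoryTheory.Sites.SubcanonicalOver

/-! Push-outs of diagonalisable monoid schemes along faces. -/

set_option autoImplicit false
set_option linter.style.haveILetI false
set_option backward.isDefEq.respectTransparency.types false
universe u

open CategoryTheory CategoryTheory.Limits MonoidalCategory CartesianMonoidalCategory MonObj AlgebraicGeometry
  Opposite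

noncomputable section

namespace Groth.Agent.MagFace16

variable {S : Scheme.{u}}

/-- The sieve of arrows factoring through an affine test object. -/
def affGen (T : Over S) : Sieve T where
  arrows W f := ∃ (R : CommRingCat.{u}) (str : Spec (CommRingCat.of R) ⟶ S) (p : spT str R ⟶ T) (t : W ⟶ spT str R),
    t ≫ p = f
  downward_closed := by
    rintro W W' f ⟨R, str, p, t, rfl⟩ g
    exact ⟨R, str, p, g ≫ t, Category.assoc _ _ _⟩

theorem affGen_mem (T : Over S) : affGen T ∈ QuotSh.J Scheme.fppfPrecoverage.{u} S T :=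
  GrothendieckTopology.superset_covering _ (fun _ _ hf => affSieve_factor hf) (affSieve_mem T)

theorem isSheaf_yoneda' (X : Over S) :
    Presieve.IsSheaf (QuotSh.J Scheme.fppfPrecoverage.{u} S) (yoneda.obj X) := by
  haveI : (QuotSh.J Scheme.fppfPrecoverage.{u} S).Subcanonical :=
    inferInstanceAs ((Scheme.fppfTopology.over S).Subcanonical)
  exact GrothendieckTopology.Subcanonical.isSheaf_of_isRepresentable (yoneda.obj X)

/-- Maps out of a product are determined by affine test objects of the second factor. -/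
theorem hom_ext_whisker {P T X : Over S} (w w' : P ⊗ T ⟶ X)
    (h : ∀ (R : CommRingCat.{u}) (str : Spec (CommRingCat.of R) ⟶ S) (r : spT str R ⟶ T),
      (P ◁ r) ≫ w = (P ◁ r) ≫ w') : w = w' := by
  refine (isSheaf_yoneda' X _ ((QuotSh.J Scheme.fppfPrecoverage.{u} S).pullback_stable (snd P T)
    (affGen_mem T))).isSeparatedFor.ext fun W f hf => ?_
  obtain ⟨R, str, r, t, ht⟩ := hf
  show f ≫ w = f ≫ w'
  have hf' : f = lift (f ≫ fst _ _) t ≫ (P ◁ r) := by
    rw [lift_whiskerLeft, ht, ← comp_lift, lift_fst_snd, Category.comp_id]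
  rw [hf', Category.assoc, Category.assoc, h R str r]

section Whisker

variable {P₀ P₁ P₂ P₃ : Over S} {a : P₀ ⟶ P₁} {b : P₀ ⟶ P₂} {c : P₁ ⟶ P₃} {d : P₂ ⟶ P₃}
  (h : ∀ (R : CommRingCat.{u}) (str : Spec (CommRingCat.of R) ⟶ S),
    IsPushout (a ▷ spT str R) (b ▷ spT str R) (c ▷ spT str R) (d ▷ spT str R))

include h in
theorem hom_ext_of_affine {T X : Over S} (w w' : P₃ ⊗ T ⟶ X) (hc : (c ▷ T) ≫ w = (c ▷ T) ≫ w')
    (hd : (d ▷ T) ≫ w = (d ▷ T) ≫ w') : w = w' := by
  refine hom_ext_whisker w w' fun R str r => (h R str).hom_ext ?_ ?_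
  · simp only [← whisker_exchange_assoc, hc]
  · simp only [← whisker_exchange_assoc, hd]

include h in
theorem exists_desc_of_affine {T X : Over S} (u : P₁ ⊗ T ⟶ X) (v : P₂ ⊗ T ⟶ X)
    (huv : (a ▷ T) ≫ u = (b ▷ T) ≫ v) : ∃ w, (c ▷ T) ≫ w = u ∧ (d ▷ T) ≫ w = v := by
  have hr : ∀ (R : CommRingCat.{u}) (str : Spec (CommRingCat.of R) ⟶ S) (r : spT str R ⟶ T),
      (a ▷ spT str R) ≫ (P₁ ◁ r) ≫ u = (b ▷ spT str R) ≫ (P₂ ◁ r) ≫ v := by
    intro R str r
    rw [← whisker_exchange_assoc, ← whisker_exchange_assoc, huv]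
  let wr (R : CommRingCat.{u}) (str : Spec (CommRingCat.of R) ⟶ S) (r : spT str R ⟶ T) : P₃ ⊗ spT str R ⟶ X :=
    (h R str).desc _ _ (hr R str r)
  have hwc : ∀ (R : CommRingCat.{u}) (str : Spec (CommRingCat.of R) ⟶ S) (r : spT str R ⟶ T),
      (c ▷ spT str R) ≫ wr R str r = (P₁ ◁ r) ≫ u := fun R str r => (h R str).inl_desc _ _ _
  have hwd : ∀ (R : CommRingCat.{u}) (str : Spec (CommRingCat.of R) ⟶ S) (r : spT str R ⟶ T),
      (d ▷ spT str R) ≫ wr R str r = (P₂ ◁ r) ≫ v := fun R str r => (h R str).inr_desc _ _ _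
  have indep : ∀ (V : Over S) (g : V ⟶ P₃) (R R' : CommRingCat.{u}) (str : Spec (CommRingCat.of R) ⟶ S)
      (str' : Spec (CommRingCat.of R') ⟶ S) (r : spT str R ⟶ T) (r' : spT str' R' ⟶ T) (t : V ⟶ spT str R)
      (t' : V ⟶ spT str' R'), t ≫ r = t' ≫ r' → lift g t ≫ wr R str r = lift g t' ≫ wr R' str' r' := by
    intro V g R R' str str' r r' t t' e
    have key : (P₃ ◁ t) ≫ wr R str r = (P₃ ◁ t') ≫ wr R' str' r' := by
      refine hom_ext_of_affine h _ _ ?_ ?_
      · rw [← whisker_exchange_assoc, hwc, ← whisker_exchange_assoc, hwc, ← MonoidalCategory.whiskerLeft_comp_assoc,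
          e, MonoidalCategory.whiskerLeft_comp_assoc]
      · rw [← whisker_exchange_assoc, hwd, ← whisker_exchange_assoc, hwd, ← MonoidalCategory.whiskerLeft_comp_assoc,
          e, MonoidalCategory.whiskerLeft_comp_assoc]
    have := congrArg (fun z => lift g (𝟙 V) ≫ z) key
    simpa [lift_whiskerLeft_assoc] using this
  let Sv : Sieve (P₃ ⊗ T) := (affGen T).pullback (snd P₃ T)
  have hfac : ∀ {W : Over S} (f : W ⟶ P₃ ⊗ T), Sv f → ∃ (R : CommRingCat.{u}) (str : Spec (CommRingCat.of R) ⟶ S)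
      (p : spT str R ⟶ T) (t : W ⟶ spT str R), t ≫ p = f ≫ snd P₃ T := fun f hf => hf
  choose R' str' p t ht using @hfac
  let fam : Presieve.FamilyOfElements (yoneda.obj X) Sv.arrows := fun W f hf =>
    lift (f ≫ fst _ _) (t f hf) ≫ wr (R' f hf) (str' f hf) (p f hf)
  have hcomp : fam.Compatible := by
    intro W₁ W₂ V g₁ g₂ f₁ f₂ h₁ h₂ he
    show g₁ ≫ fam f₁ h₁ = g₂ ≫ fam f₂ h₂
    simp only [fam, comp_lift_assoc]
    rw [← Category.assoc g₁ f₁, ← Category.assoc g₂ f₂, he]
    refine indep _ _ _ _ _ _ _ _ _ _ ?_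
    rw [Category.assoc, ht, Category.assoc, ht, ← Category.assoc, he, Category.assoc]
  obtain ⟨w, hw, -⟩ := isSheaf_yoneda' X Sv
    ((QuotSh.J Scheme.fppfPrecoverage.{u} S).pullback_stable (snd P₃ T) (affGen_mem T)) fam hcomp
  have key : ∀ (R : CommRingCat.{u}) (str : Spec (CommRingCat.of R) ⟶ S) (r : spT str R ⟶ T),
      (P₃ ◁ r) ≫ w = wr R str r := by
    intro R str r
    have hm : Sv (P₃ ◁ r) := ⟨R, str, r, snd _ _, (whiskerLeft_snd _ _).symm⟩
    refine (hw (P₃ ◁ r) hm).trans ?_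
    show lift _ _ ≫ wr _ _ _ = _
    rw [indep _ _ _ R _ str _ r _ (snd _ _) (by rw [ht, whiskerLeft_snd]), whiskerLeft_fst, lift_fst_snd,
      Category.id_comp]
  refine ⟨w, hom_ext_whisker _ _ fun R str r => ?_, hom_ext_whisker _ _ fun R str r => ?_⟩
  · rw [whisker_exchange_assoc, key, hwc]
  · rw [whisker_exchange_assoc, key, hwd]

include h in
theorem isPushout_whiskerRight_of_affine (w : a ≫ c = b ≫ d) (T : Over S) :
    IsPushout (a ▷ T) (b ▷ T) (c ▷ T) (d ▷ T) := by
  have w' : (a ▷ T) ≫ (c ▷ T) = (b ▷ T) ≫ (d ▷ T) := by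
    rw [← MonoidalCategory.comp_whiskerRight, w, MonoidalCategory.comp_whiskerRight]
  exact IsPushout.of_isColimit' ⟨w'⟩ (PushoutCocone.IsColimit.mk w'
    (fun s => (exists_desc_of_affine h s.inl s.inr s.condition).choose)
    (fun s => (exists_desc_of_affine h s.inl s.inr s.condition).choose_spec.1)
    (fun s => (exists_desc_of_affine h s.inl s.inr s.condition).choose_spec.2)
    (fun s m h1 h2 => hom_ext_of_affine h _ _
      (h1.trans (exists_desc_of_affine h s.inl s.inr s.condition).choose_spec.1.symm)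
      (h2.trans (exists_desc_of_affine h s.inl s.inr s.condition).choose_spec.2.symm)))

include h in
theorem comm_of_affine : a ≫ c = b ≫ d := by
  refine (cancel_epi (ρ_ P₀).hom).1 ?_
  rw [← MonoidalCategory.rightUnitor_naturality, ← MonoidalCategory.rightUnitor_naturality]
  refine hom_ext_whisker _ _ fun R str r => ?_
  simp only [whisker_exchange_assoc, MonoidalCategory.comp_whiskerRight, Category.assoc]
  rw [← Category.assoc (a ▷ _), (h R str).w, Category.assoc]

include h in
theorem isPushout_of_affine : IsPushout a b c d :=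
  (isPushout_whiskerRight_of_affine h (comm_of_affine h) (𝟙_ _)).of_iso (ρ_ P₀) (ρ_ P₁) (ρ_ P₂) (ρ_ P₃)
    (MonoidalCategory.rightUnitor_naturality _) (MonoidalCategory.rightUnitor_naturality _)
    (MonoidalCategory.rightUnitor_naturality _) (MonoidalCategory.rightUnitor_naturality _)

end Whisker

section Ferrand

variable {M : Type} [AddCommMonoid M] {N N' L L' : AddSubmonoid M}

theorem faceAlgHom_coeff {R : Type u} [CommRing R] (hL : Magnet.IsFace L' L)
    (f : MonoidAlgebra R (Multiplicative L')) (n : Multiplicative L') (hn : ((n.toAdd : L') : M) ∈ L) :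
    (Magnet.faceAlgHom R hL f).coeff (Multiplicative.ofAdd ⟨_, hn⟩) = f.coeff n := by
  induction f using MonoidAlgebra.induction_linear with
  | zero => simp
  | add a b ha hb => simp [map_add, ha, hb]
  | single m r =>
    by_cases hm : ((m.toAdd : L') : M) ∈ L
    · rw [show m = Multiplicative.ofAdd m.toAdd from rfl, Magnet.faceAlgHom_single_of_mem R hL m.toAdd hm]
      classical
      simp only [MonoidAlgebra.coeff_single]
      by_cases hmn : m = n
      · subst hmn; simp
      · have hne : (Multiplicative.ofAdd (⟨_, hm⟩ : L)) ≠ Multiplicative.ofAdd ⟨_, hn⟩ := fun h =>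
          hmn (Multiplicative.toAdd.injective (Subtype.ext (congrArg (fun z : Multiplicative L => ((z.toAdd : L) : M)) h)))
        rw [Finsupp.single_eq_of_ne hne.symm,
          Finsupp.single_eq_of_ne (show n ≠ Multiplicative.ofAdd m.toAdd from fun h => hmn h.symm)]
    · rw [show m = Multiplicative.ofAdd m.toAdd from rfl, Magnet.faceAlgHom_single_of_not_mem R hL m.toAdd hm]
      have hne : n ≠ Multiplicative.ofAdd m.toAdd := fun h => hm (h ▸ hn)
      simpa [MonoidAlgebra.coeff_single] using (Finsupp.single_eq_of_ne hne).symm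

theorem incA_coeff_of_not_mem {R : Type u} [CommRing R] (h : N ≤ L) (f : MonoidAlgebra R (Multiplicative N))
    (m : L) (hm : (m : M) ∉ N) : (incA h f).coeff (Multiplicative.ofAdd m) = 0 := by
  show (MonoidAlgebra.mapDomain _ f).coeff _ = 0
  rw [MonoidAlgebra.coeff_mapDomain]
  refine Finsupp.mapDomain_of_notMem_range _ _ ?_
  rintro ⟨n, hn⟩
  exact hm (congrArg (fun z : Multiplicative L => ((z.toAdd : L) : M)) hn ▸ n.toAdd.2)

variable (hNL : N ≤ L) (hN'L' : N' ≤ L') (hL : Magnet.IsFace L' L)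
  (hN : Magnet.IsFace N' N) (hdiff : (N' : Set M) = (L' : Set M) \ ((L : Set M) \ (N : Set M)))

include hdiff in
theorem isFerrand (R : Type u) [CommRing R] :
    FerrandPush.IsFerrand (Magnet.faceAlgHom R hL).toRingHom (incA (R := R) hNL).toRingHom
      (Magnet.faceAlgHom R hN).toRingHom (incA (R := R) hN'L').toRingHom := by
  classical
  have hcomm : (incA (R := R) hNL).comp (Magnet.faceAlgHom R hN) =
      (Magnet.faceAlgHom R hL).comp (incA (R := R) hN'L') := by
    refine MonoidAlgebra.algHom_ext (fun n => ?_) (Subsingleton.elim _ _)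
    obtain ⟨n, rfl⟩ : ∃ m, Multiplicative.ofAdd m = n := ⟨n.toAdd, rfl⟩
    have h1 : (incA (R := R) hN'L') (MonoidAlgebra.of R _ (Multiplicative.ofAdd n)) =
        MonoidAlgebra.single (Multiplicative.ofAdd (⟨n, hN'L' n.2⟩ : L')) 1 := by simp [incA]; rfl
    show incA hNL (Magnet.faceAlgHom R hN (MonoidAlgebra.of R _ (Multiplicative.ofAdd n))) =
      Magnet.faceAlgHom R hL (incA hN'L' (MonoidAlgebra.of R _ (Multiplicative.ofAdd n)))
    rw [h1, MonoidAlgebra.of_apply]
    by_cases h : (n : M) ∈ L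
    · have hn : (n : M) ∈ N := by
        by_contra hc
        exact (hdiff ▸ n.2 : (n : M) ∈ (L' : Set M) \ ((L : Set M) \ (N : Set M))).2 ⟨h, hc⟩
      rw [Magnet.faceAlgHom_single_of_mem R hL ⟨n, hN'L' n.2⟩ h, Magnet.faceAlgHom_single_of_mem R hN n hn]
      simp [incA]; rfl
    · rw [Magnet.faceAlgHom_single_of_not_mem R hL ⟨n, hN'L' n.2⟩ h,
        Magnet.faceAlgHom_single_of_not_mem R hN n fun hn => h (hNL hn), map_zero]
  refine ⟨fun g => ⟨MonoidAlgebra.mapDomain (AddMonoidHom.toMultiplicative (AddSubmonoid.inclusion hL.le)) g, ?_⟩,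
    fun x => AlgHom.congr_fun hcomm x, fun b a' hba => ?_, fun x y _ h => incA_injective hN'L' h⟩
  · exact AlgHom.congr_fun (Magnet.faceAlgHom_comp_mapDomain R hL) g
  · have hmem : a' ∈ (incA (R := R) hN'L').range := by
      rw [← MonoidAlgebra.sum_coeff_single a']
      refine sum_mem fun n hn => ?_
      have hn' : ((n.toAdd : L') : M) ∈ N' := by
        refine (hdiff.symm ▸ ⟨n.toAdd.2, fun hh => ?_⟩ : ((n.toAdd : L') : M) ∈ (N' : Set M))
        have := faceAlgHom_coeff hL a' n hh.1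
        have e : (incA (R := R) hNL) b = Magnet.faceAlgHom R hL a' := hba
        rw [← e, incA_coeff_of_not_mem hNL b _ hh.2] at this
        exact Finsupp.mem_support_iff.1 hn this.symm
      exact ⟨MonoidAlgebra.single (Multiplicative.ofAdd (⟨_, hn'⟩ : N')) (a'.coeff n), by simp [incA]; rfl⟩
    obtain ⟨x, hx⟩ := hmem
    refine ⟨x, incA_injective hNL ?_, hx⟩
    have e : (incA (R := R) hNL) b = Magnet.faceAlgHom R hL a' := hba
    show incA hNL (Magnet.faceAlgHom R hN x) = _
    rw [e, ← hx]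
    exact AlgHom.congr_fun hcomm x

include hdiff in
theorem isPushout_faceMap_spT {R : Type u} [CommRing R] (str : Spec (CommRingCat.of R) ⟶ S) :
    IsPushout (Magnet.AMonS.faceMap S hL ▷ spT str R) (Magnet.AMonS.map S (AddSubmonoid.inclusion hNL) ▷ spT str R)
      (Magnet.AMonS.map S (AddSubmonoid.inclusion hN'L') ▷ spT str R) (Magnet.AMonS.faceMap S hN ▷ spT str R) := by
  have H := FerrandPush.isPushout_of_isFerrand (isFerrand hNL hN'L' hL hN hdiff R)
  have H' : IsPushout (spHom str (Magnet.faceAlgHom R hL)) (spHom str (incA (R := R) hNL))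
      (spHom str (incA (R := R) hN'L')) (spHom str (Magnet.faceAlgHom R hN)) :=
    IsPushout.of_map_of_faithful (Over.forget S) H
  exact H'.of_iso (asIso (chart str R L)) (asIso (chart str R L')) (asIso (chart str R N)) (asIso (chart str R N'))
    (chart_faceMap str hL).symm (chart_map str hNL).symm (chart_map str hN'L').symm (chart_faceMap str hN).symm

include hdiff in
theorem isPushout_faceMap_whisker (T : Over S) :
    IsPushout (Magnet.AMonS.faceMap S hL ▷ T) (Magnet.AMonS.map S (AddSubmonoid.inclusion hNL) ▷ T)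
      (Magnet.AMonS.map S (AddSubmonoid.inclusion hN'L') ▷ T) (Magnet.AMonS.faceMap S hN ▷ T) :=
  isPushout_whiskerRight_of_affine (fun _ str => isPushout_faceMap_spT hNL hN'L' hL hN hdiff str)
    (comm_of_affine fun _ str => isPushout_faceMap_spT hNL hN'L' hL hN hdiff str) T

end Ferrand

end Groth.Agent.MagFace16

namespace Groth.Agent.MagFace16

section Attractors

variable {S : Scheme.{u}} {M : Type} [AddCommMonoid M] {X : Over S} (act : Magnet.MonAct (Magnet.AMonS S M) X)
  {N N' L L' : AddSubmonoid M} (hNL : N ≤ L) (hN'L' : N' ≤ L') (hL : Magnet.IsFace L' L) (hN : Magnet.IsFace N' N)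
  (hdiff : (N' : Set M) = (L' : Set M) \ ((L : Set M) \ (N : Set M)))

include hdiff in
theorem isPullback_attrMap_attrFace :
    IsPullback (Magnet.attrMap act hN'L') (Magnet.attrFace act hN) (Magnet.attrFace act hL)
      (Magnet.attrMap act hNL) := by
  have po := fun T : Over S => isPushout_faceMap_whisker (S := S) hNL hN'L' hL hN hdiff T
  have eq_map : Magnet.MonAct.IsEquivariant (Magnet.subAct S M L') (Magnet.subAct S M N')
      (Magnet.AMonS.map S (AddSubmonoid.inclusion hN'L')) :=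
    Magnet.MonAct.isEquivariant_restrict_regular _ _ _ (by rw [← Magnet.AMonS.map_comp]; rfl)
  have eq_face := Magnet.isEquivariant_faceMapS S hN
  refine IsPullback.of_forall_isPullback_app fun T => ?_
  obtain ⟨T, rfl⟩ : ∃ U, op U = T := ⟨T.unop, rfl⟩
  refine (Limits.Types.isPullback_iff _ _ _ _).2 ⟨?_, fun x y hxy => Subtype.ext ((po T).hom_ext
    (congrArg Subtype.val hxy.1) (congrArg Subtype.val hxy.2)), fun u v huv => ?_⟩
  · ext φ
    exact Subtype.ext (show (Magnet.AMonS.faceMap S hL ▷ T) ≫ _ ≫ φ.1 =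
      (Magnet.AMonS.map S (AddSubmonoid.inclusion hNL) ▷ T) ≫ _ ≫ φ.1 from (po T).w_assoc φ.1)
  have w : (Magnet.AMonS.faceMap S hL ▷ T) ≫ u.1 =
      (Magnet.AMonS.map S (AddSubmonoid.inclusion hNL) ▷ T) ≫ v.1 := congrArg Subtype.val huv
  obtain ⟨W, hc, hd⟩ : ∃ W, (Magnet.AMonS.map S (AddSubmonoid.inclusion hN'L') ▷ T) ≫ W = u.1 ∧
      (Magnet.AMonS.faceMap S hN ▷ T) ≫ W = v.1 :=
    ⟨(po T).desc u.1 v.1 w, (po T).inl_desc _ _ _, (po T).inr_desc _ _ _⟩
  have heq : Magnet.MonAct.IsEquivariant ((Magnet.subAct S M N').prod (Magnet.MonAct.trivial _ T)) act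
      W := by
    rw [Magnet.MonAct.mem_eqvHom_iff]
    let P : Over S := Magnet.AMonS S N' ⊗ (Magnet.AMonS S M ⊗ T)
    let b₀ : P ⟶ Magnet.AMonS S N' := fst _ _
    let g₀ : P ⟶ Magnet.AMonS S M := snd _ _ ≫ fst _ _
    let t₀ : P ⟶ T := snd _ _ ≫ snd _ _
    have e : lift (lift g₀ b₀ ≫ (Magnet.subAct S M N').act) t₀ ≫ W =
        lift g₀ (lift b₀ t₀ ≫ W) ≫ act.act := by
      have aux : ∀ {Q : Over S} {Z : Over S} (aQ : Magnet.MonAct (Magnet.AMonS S M) Q)
          (c : Q ⟶ Magnet.AMonS S N') (_ : Magnet.MonAct.IsEquivariant aQ (Magnet.subAct S M N') c)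
          (g : Z ⟶ Magnet.AMonS S M) (b : Z ⟶ Q) (t : Z ⟶ T),
          lift (lift g (b ≫ c) ≫ (Magnet.subAct S M N').act) t ≫ W =
            lift (lift g b ≫ aQ.act) t ≫ (c ▷ T) ≫ W := by
        intro Q Z aQ c hc' g b t
        rw [lift_whiskerRight_assoc, Category.assoc, (Magnet.MonAct.isEquivariant_iff _ _ _).1 hc' Z g b]
      refine (po (Magnet.AMonS S M ⊗ T)).hom_ext ?_ ?_
      · simp only [b₀, g₀, t₀, comp_lift_assoc, whiskerRight_fst, whiskerRight_snd_assoc]
        rw [aux _ _ eq_map, hc, (Magnet.MonAct.mem_eqvHom_iff u.1).1 u.2, ← hc, lift_whiskerRight_assoc]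
      · simp only [b₀, g₀, t₀, comp_lift_assoc, whiskerRight_fst, whiskerRight_snd_assoc]
        rw [aux _ _ eq_face, hd, (Magnet.MonAct.mem_eqvHom_iff v.1).1 v.2, ← hd, lift_whiskerRight_assoc]
    intro T' g b t
    have h := congrArg (fun z => lift b (lift g t) ≫ z) e
    simpa only [b₀, g₀, t₀, comp_lift_assoc, lift_fst, lift_snd_assoc, lift_snd] using h
  exact ⟨⟨_, heq⟩, Subtype.ext hc, Subtype.ext hd⟩

end Attractors

end Groth.Agent.MagFace16
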