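import Groth.Agent.Lib.MagFace16.Sub
import Groth.Agent.Lib.MagFace16.Push

/-! Change of group for attractors along a homomorphism whose image contains the magnet. -/

set_option autoImplicit false
set_option linter.style.haveILetI false
set_option backward.isDefEq.respectTransparency.types false
universe u

open CategoryTheory CategoryTheory.Limits MonoidalCategory CartesianMonoidalCategory MonObj AlgebraicGeometry
  Opposite

noncomputable section

namespace Groth.Agent.MagFace16

open Groth.Agent.Magnet16 (chS chS_nat chS_mul chS_inj chS_surj chS_map chS_one invPt invPt_mul mul_invPt chS_invPt)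

variable {M Z : Type} [AddCommGroup M] [AddCommGroup Z] (f : M →+ Z) (Y : AddSubmonoid Z)

/-- The map on magnets. -/
abbrev psi : (Y.comap f) →+ Y := (f.comp (Y.comap f).subtype).codRestrict Y (fun x => x.2)

variable (R : Type u) [CommRing R]

/-- The ring map of the multiplication `A(M) × A(Y) → A(f⁻¹Y)`. -/
def jN : MonoidAlgebra R (Multiplicative (Y.comap f)) →ₐ[R]
    MonoidAlgebra (MonoidAlgebra R (Multiplicative Y)) (Multiplicative M) :=
  MonoidAlgebra.lift R _ (Multiplicative (Y.comap f))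
    { toFun := fun n => MonoidAlgebra.single (Multiplicative.ofAdd ((n.toAdd : Y.comap f) : M))
        (MonoidAlgebra.of R _ (Multiplicative.ofAdd (psi f Y n.toAdd)))
      map_one' := by simp [MonoidAlgebra.one_def]; rfl
      map_mul' := fun a b => by simp [MonoidAlgebra.single_mul_single, ← ofAdd_add] }

theorem jN_single (n : Y.comap f) (c : R) :
    jN f Y R (MonoidAlgebra.single (Multiplicative.ofAdd n) c) =
      MonoidAlgebra.single (Multiplicative.ofAdd (n : M))
        (MonoidAlgebra.single (Multiplicative.ofAdd (psi f Y n)) c) := by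
  rw [jN, MonoidAlgebra.lift_single]
  simp [MonoidAlgebra.smul_single]

theorem faithfullyFlat_jN (hY : Y ≤ AddMonoidHom.mrange f) : (jN f Y R).toRingHom.FaithfullyFlat := by
  classical
  let k := MonoidAlgebra R (Multiplicative (Y.comap f))
  let B := MonoidAlgebra (MonoidAlgebra R (Multiplicative Y)) (Multiplicative M)
  letI : Algebra k B := (jN f Y R).toRingHom.toAlgebra
  show Module.FaithfullyFlat k B
  choose s hs using fun z : f.range => z.2
  let e : (f.range →₀ k) →ₗ[k] B :=
    Finsupp.linearCombination k fun z => MonoidAlgebra.single (Multiplicative.ofAdd (s z)) 1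
  have hcoeff : ∀ (g : k) (z z' : f.range) (n : Y.comap f),
      ((g • MonoidAlgebra.single (Multiplicative.ofAdd (s z)) (1 : MonoidAlgebra R (Multiplicative Y)) : B).coeff
        (Multiplicative.ofAdd ((n : M) + s z'))).coeff (Multiplicative.ofAdd (psi f Y n)) =
        if z = z' then g.coeff (Multiplicative.ofAdd n) else 0 := by
    intro g z z' n
    show ((jN f Y R g * _).coeff _).coeff _ = _
    induction g using MonoidAlgebra.induction_linear with
    | zero => simp
    | add a b ha hb =>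
      rw [map_add, add_mul, MonoidAlgebra.coeff_add, Finsupp.add_apply, MonoidAlgebra.coeff_add, Finsupp.add_apply,
        ha, hb]
      split_ifs <;> simp
    | single w c =>
      obtain ⟨w, rfl⟩ : ∃ w', Multiplicative.ofAdd w' = w := ⟨w.toAdd, rfl⟩
      rw [jN_single, MonoidAlgebra.single_mul_single, _root_.mul_one, ← ofAdd_add, MonoidAlgebra.coeff_single,
        Finsupp.single_apply]
      by_cases hm : (w : M) + s z = (n : M) + s z'
      · rw [if_pos (congrArg _ hm), MonoidAlgebra.coeff_single, Finsupp.single_apply]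
        by_cases hp : f (w : M) = f (n : M)
        · have hz : z = z' := by
            refine Subtype.ext ?_
            rw [← hs z, ← hs z']
            have := congrArg f hm
            rw [map_add, map_add, hp] at this
            exact add_left_cancel this
          subst hz
          obtain rfl : w = n := Subtype.ext (add_right_cancel hm)
          simp
        · rw [if_neg fun h => hp (congrArg Subtype.val (Multiplicative.ofAdd.injective h))]
          split_ifs with hz
          · subst hz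
            exact absurd (congrArg f (add_right_cancel hm)) hp
          · rfl
      · rw [if_neg fun h => hm (Multiplicative.ofAdd.injective h), MonoidAlgebra.coeff_zero, Finsupp.zero_apply]
        split_ifs with hz
        · subst hz
          rw [MonoidAlgebra.coeff_single, Finsupp.single_eq_of_ne]
          intro h
          exact hm (by rw [Multiplicative.ofAdd.injective h])
        · rfl
  have hinj : Function.Injective e := by
    rw [injective_iff_map_eq_zero]
    intro v hv
    refine Finsupp.ext fun z => MonoidAlgebra.coeff_inj.1 (Finsupp.ext fun n => ?_)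
    obtain ⟨n, rfl⟩ : ∃ n', Multiplicative.ofAdd n' = n := ⟨n.toAdd, rfl⟩
    have h := congrArg (fun y : B => (y.coeff (Multiplicative.ofAdd ((n : M) + s z))).coeff
      (Multiplicative.ofAdd (psi f Y n))) hv
    let cf : MonoidAlgebra (MonoidAlgebra R (Multiplicative Y)) (Multiplicative M) →+ R :=
      { toFun := fun y => (y.coeff (Multiplicative.ofAdd ((n : M) + s z))).coeff (Multiplicative.ofAdd (psi f Y n))
        map_zero' := by simp
        map_add' := fun x y => by simp }
    have h' : cf (∑ x ∈ v.support, v x • MonoidAlgebra.single (Multiplicative.ofAdd (s x)) 1) = 0 := by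
      refine Eq.trans ?_ (h.trans (map_zero cf))
      rfl
    rw [map_sum] at h'
    simp only [cf, AddMonoidHom.coe_mk, ZeroHom.coe_mk, hcoeff, Finset.sum_ite_eq'] at h'
    by_cases hz : z ∈ v.support
    · simpa [hz] using h'
    · simp [Finsupp.notMem_support_iff.1 hz]
  have hsurj : Function.Surjective e := by
    intro x
    induction x using MonoidAlgebra.induction_linear with
    | zero => exact ⟨0, map_zero _⟩
    | add a b ha hb =>
      obtain ⟨a', rfl⟩ := ha
      obtain ⟨b', rfl⟩ := hb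
      exact ⟨a' + b', map_add _ _ _⟩
    | single m r =>
      induction r using MonoidAlgebra.induction_linear with
      | zero => exact ⟨0, by simp⟩
      | add a b ha hb =>
        obtain ⟨a', ha'⟩ := ha
        obtain ⟨b', hb'⟩ := hb
        exact ⟨a' + b', by rw [map_add, ha', hb', MonoidAlgebra.single_add]⟩
      | single y c =>
        obtain ⟨w, hw⟩ := hY y.toAdd.2
        let z : f.range := ⟨f m.toAdd - (y.toAdd : Z), ⟨m.toAdd - w, by rw [map_sub, hw]⟩⟩
        have hn : f (m.toAdd - s z) = (y.toAdd : Z) := by rw [map_sub, hs z]; exact sub_sub_cancel _ _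
        let n : Y.comap f := ⟨m.toAdd - s z, show f _ ∈ Y by rw [hn]; exact y.toAdd.2⟩
        refine ⟨Finsupp.single z (MonoidAlgebra.single (Multiplicative.ofAdd n) c), ?_⟩
        simp only [e, Finsupp.linearCombination_single]
        show jN f Y R _ * _ = _
        rw [jN_single, MonoidAlgebra.single_mul_single, _root_.mul_one, ← ofAdd_add,
          show psi f Y n = y.toAdd from Subtype.ext hn]
        simp [n]
  exact Module.FaithfullyFlat.of_linearEquiv k (f.range →₀ k) (LinearEquiv.ofBijective e ⟨hinj, hsurj⟩).symm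

section Geometry

variable {S : Scheme.{u}}

/-- `A(Y) → A(f⁻¹Y)`. -/
abbrev kap : Magnet.AMonS S Y ⟶ Magnet.AMonS S (Y.comap f) := Magnet.AMonS.map S (psi f Y)

/-- `A(M) × A(Y) × T → A(f⁻¹Y) × T`. -/
def qT (T : Over S) : Magnet.AMonS S M ⊗ (Magnet.AMonS S Y ⊗ T) ⟶ Magnet.AMonS S (Y.comap f) ⊗ T :=
  lift (lift (fst _ _) (snd _ _ ≫ fst _ _ ≫ kap f Y) ≫ (Magnet.subAct S M (Y.comap f)).act) (snd _ _ ≫ snd _ _)

theorem lift_qT {T W : Over S} (g : W ⟶ Magnet.AMonS S M) (y : W ⟶ Magnet.AMonS S Y) (t : W ⟶ T) :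
    lift g (lift y t) ≫ qT f Y T = lift (lift g (y ≫ kap f Y) ≫ (Magnet.subAct S M (Y.comap f)).act) t := by
  simp only [qT, comp_lift, comp_lift_assoc, lift_fst, lift_snd_assoc, lift_snd, lift_fst_assoc]

theorem qT_natural {T T' : Over S} (r : T' ⟶ T) :
    (Magnet.AMonS S M ◁ Magnet.AMonS S Y ◁ r) ≫ qT f Y T = qT f Y T' ≫ (Magnet.AMonS S (Y.comap f) ◁ r) := by
  simp only [qT, lift_whiskerLeft, comp_lift, comp_lift_assoc, whiskerLeft_fst, whiskerLeft_snd_assoc,
    whiskerLeft_fst_assoc, whiskerLeft_snd, Category.assoc]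

variable {R : Type u} [CommRing R] (str : Spec (CommRingCat.of R) ⟶ S)

/-- The chart of `A(M) × A(Y) × Spec R`. -/
def chart₂ : spT str (MonoidAlgebra (MonoidAlgebra R (Multiplicative Y)) (Multiplicative M)) ⟶
    Magnet.AMonS S M ⊗ (Magnet.AMonS S Y ⊗ spT str R) :=
  chart str (MonoidAlgebra R (Multiplicative Y)) M ≫ (Magnet.AMonS S M ◁ chart str R Y)

instance : IsIso (chart₂ (M := M) Y str) := by unfold chart₂; infer_instance

theorem chart₂_qT :
    chart₂ (M := M) Y str ≫ qT f Y (spT str R) = spHom str (jN f Y R) ≫ chart str R (Y.comap f) := by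
  have e : chart₂ (M := M) Y str = lift (bpt str (MonoidAlgebra R (Multiplicative Y)) M)
      (lift (proj str (MonoidAlgebra R (Multiplicative Y)) M ≫ bpt str R Y)
        (proj str (MonoidAlgebra R (Multiplicative Y)) M ≫ proj str R Y)) := by
    rw [chart₂, chart, chart, lift_whiskerLeft, comp_lift]
  rw [e, lift_qT]
  apply CartesianMonoidalCategory.hom_ext
  · simp only [lift_fst, Category.assoc, chart_fst]
    rw [Magnet.subAct, Magnet.MonAct.lift_restrict_act,
      Magnet.MonAct.lift_regular_act]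
    refine chS_inj fun n => ?_
    obtain ⟨n, rfl⟩ : ∃ m, Multiplicative.ofAdd m = n := ⟨n.toAdd, rfl⟩
    rw [chS_mul, chS_map, chS_bpt, chS_nat, chS_map, chS_bpt, appTop_gl, chS_nat, chS_bpt, appTop_gl]
    simp only [MonoidAlgebra.of_apply, jN_single]
    refine ((map_mul (Scheme.ΓSpecIso _).inv.hom _ _).symm).trans ?_
    refine congrArg gl ?_
    simp [MonoidAlgebra.single_mul_single, MonoidAlgebra.coe_algebraMap, MonoidAlgebra.of_apply]
  · rw [lift_snd, Category.assoc, chart_snd, spHom_comp, spHom_comp]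
    exact congrArg (spHom str) (AlgHom.ext fun r => ((jN f Y R).commutes r).symm)

theorem flat_surjective_jN (hY : Y ≤ AddMonoidHom.mrange f) :
    Flat (spHom str (jN f Y R)).left ∧ Surjective (spHom str (jN f Y R)).left := by
  obtain ⟨h₁, h₂⟩ := (RingHom.FaithfullyFlat.iff_flat_and_comap_surjective
    (f := (jN f Y R).toRingHom)).1 (faithfullyFlat_jN f Y R hY)
  exact ⟨(Flat.SpecMap_iff (f := CommRingCat.ofHom (jN f Y R).toRingHom)).2 h₁, ⟨h₂⟩⟩

variable {f Y}

theorem hom_ext_qT (hY : Y ≤ AddMonoidHom.mrange f) {T X : Over S} (p q : Magnet.AMonS S (Y.comap f) ⊗ T ⟶ X)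
    (h : qT f Y T ≫ p = qT f Y T ≫ q) : p = q := by
  refine hom_ext_whisker p q fun R str r => ?_
  obtain ⟨_, _⟩ := flat_surjective_jN f Y str hY
  haveI : Epi (spHom str (jN f Y R)).left := Flat.epi_of_flat_of_surjective _
  refine (cancel_epi (chart str R (Y.comap f))).1 (Over.OverMorphism.ext ?_)
  refine (cancel_epi (spHom str (jN f Y R)).left).1 ?_
  simpa only [Over.comp_left] using congrArg (fun z => z.left)
    (show spHom str (jN f Y R) ≫ chart str R (Y.comap f) ≫ (Magnet.AMonS S (Y.comap f) ◁ r) ≫ p =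
      spHom str (jN f Y R) ≫ chart str R (Y.comap f) ≫ (Magnet.AMonS S (Y.comap f) ◁ r) ≫ q by
      simp only [← reassoc_of% (chart₂_qT f Y str), ← reassoc_of% (qT_natural f Y r), h])

variable {X : Over S} (a : Magnet.MonAct (Magnet.AMonS S M) X)

theorem qT_comp {T : Over S} (φ : (Magnet.attr a (Y.comap f)).obj (op T)) :
    qT f Y T ≫ φ.1 = lift (fst _ _) (snd _ _ ≫ (kap f Y ▷ T) ≫ φ.1) ≫ a.act := by
  rw [qT, (Magnet.MonAct.mem_eqvHom_iff φ.1).1 φ.2]
  congr 2
  rw [show lift (snd _ _ ≫ fst _ _ ≫ kap f Y) (snd _ _ ≫ snd _ _) =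
      snd (Magnet.AMonS S M) (Magnet.AMonS S Y ⊗ T) ≫ (kap f Y ▷ T) from ?_, Category.assoc]
  apply CartesianMonoidalCategory.hom_ext <;> simp

theorem attrComap_app_injective (hY : Y ≤ AddMonoidHom.mrange f) (T : Over S) :
    Function.Injective ((Magnet.attrComap a f Y).app (op T)) := fun φ ψ h => by
  refine Subtype.ext (hom_ext_qT hY _ _ ?_)
  rw [qT_comp, qT_comp, show (kap f Y ▷ T) ≫ φ.1 = (kap f Y ▷ T) ≫ ψ.1 from congrArg Subtype.val h]

theorem attrComap_app_surjective (hY : Y ≤ AddMonoidHom.mrange f)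
    (v : (Magnet.attr (a.restrict (Magnet.AMonS.map S f)) Y).obj (op (spT str R))) :
    ∃ φ, (Magnet.attrComap a f Y).app (op (spT str R)) φ = v := by
  classical
  let Z' := AddMonoidHom.mrange f
  let σ : Magnet.AMonS S Z' ⟶ Magnet.AMonS S Y := Magnet.AMonS.map S (AddSubmonoid.inclusion hY)
  let ρ : Magnet.AMonS S Z' ⟶ Magnet.AMonS S M := Magnet.AMonS.map S f.mrangeRestrict
  have hv := (Magnet.MonAct.mem_eqvHom_iff v.1).1 v.2
  -- equivariance for the image group
  have hZ : ∀ (W : Over S) (h : W ⟶ Magnet.AMonS S Z') (y : W ⟶ Magnet.AMonS S Y) (t : W ⟶ spT str R),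
      lift ((h ≫ σ) * y) t ≫ v.1 = lift (h ≫ ρ) (lift y t ≫ v.1) ≫ a.act := by
    let P : Over S := Magnet.AMonS S Z' ⊗ (Magnet.AMonS S Y ⊗ spT str R)
    let h₀ : P ⟶ Magnet.AMonS S Z' := fst _ _
    let y₀ : P ⟶ Magnet.AMonS S Y := snd _ _ ≫ fst _ _
    let t₀ : P ⟶ spT str R := snd _ _ ≫ snd _ _
    have e : lift ((h₀ ≫ σ) * y₀) t₀ ≫ v.1 = lift (h₀ ≫ ρ) (lift y₀ t₀ ≫ v.1) ≫ a.act := by
      refine det_subgroup f.range Z' rfl X (Magnet.AMonS S Y ⊗ spT str R) _ _ ?_
      simp only [h₀, y₀, t₀, comp_lift_assoc, MonObj.comp_mul, whiskerRight_fst_assoc, whiskerRight_snd_assoc]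
      have h1 := hv _ (fst (Magnet.AMonS S Z) (Magnet.AMonS S Y ⊗ spT str R)) (snd _ _ ≫ fst _ _) (snd _ _ ≫ snd _ _)
      simp only [Magnet.subAct, Magnet.MonAct.lift_restrict_act, Magnet.MonAct.lift_regular_act] at h1
      refine Eq.trans ?_ (h1.trans ?_)
      · congr 3
        rw [← Magnet.AMonS.map_comp]
        rfl
      · congr 2
        rw [← Magnet.AMonS.map_comp]
        rfl
    intro W h y t
    have h' := congrArg (fun z => lift h (lift y t) ≫ z) e
    simpa only [h₀, y₀, t₀, comp_lift_assoc, lift_fst, lift_snd_assoc, lift_snd, MonObj.comp_mul, lift_fst_assoc]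
      using h'
  let W0 : Magnet.AMonS S M ⊗ (Magnet.AMonS S Y ⊗ spT str R) ⟶ X := lift (fst _ _) (snd _ _ ≫ v.1) ≫ a.act
  have hW : ∀ {W : Over S} (g₁ g₂ : W ⟶ Magnet.AMonS S M ⊗ (Magnet.AMonS S Y ⊗ spT str R)),
      g₁ ≫ qT f Y _ = g₂ ≫ qT f Y _ → g₁ ≫ W0 = g₂ ≫ W0 := by
    intro W G₁ G₂ hG
    obtain ⟨g, y, t, rfl⟩ : ∃ g y t, G₁ = lift g (lift y t) :=
      ⟨G₁ ≫ fst _ _, G₁ ≫ snd _ _ ≫ fst _ _, G₁ ≫ snd _ _ ≫ snd _ _,
        by apply CartesianMonoidalCategory.hom_ext <;> [simp; (apply CartesianMonoidalCategory.hom_ext <;> simp)]⟩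
    obtain ⟨g', y', t', rfl⟩ : ∃ g y t, G₂ = lift g (lift y t) :=
      ⟨G₂ ≫ fst _ _, G₂ ≫ snd _ _ ≫ fst _ _, G₂ ≫ snd _ _ ≫ snd _ _,
        by apply CartesianMonoidalCategory.hom_ext <;> [simp; (apply CartesianMonoidalCategory.hom_ext <;> simp)]⟩
    rw [lift_qT, lift_qT] at hG
    obtain rfl : t = t' := by simpa using congrArg (fun z => z ≫ snd _ _) hG
    have hN := congrArg (fun z => z ≫ fst _ _) hG
    simp only [lift_fst, Magnet.subAct, Magnet.MonAct.lift_restrict_act, Magnet.MonAct.lift_regular_act] at hN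
    have hn : ∀ n : (Y.comap f), chS g (Multiplicative.ofAdd (n : M)) * chS y (Multiplicative.ofAdd (psi f Y n)) =
        chS g' (Multiplicative.ofAdd (n : M)) * chS y' (Multiplicative.ofAdd (psi f Y n)) := by
      intro n
      have := congrArg (fun z => chS z (Multiplicative.ofAdd n)) hN
      simpa [chS_mul, chS_map] using this
    let d := invPt g * g'
    have hd : ∀ m m', f m = f m' → chS d (Multiplicative.ofAdd m) = chS d (Multiplicative.ofAdd m') := by
      intro m m' hmm
      have hk : (m - m') ∈ (Y.comap f) := show f _ ∈ Y by rw [map_sub, hmm, sub_self]; exact Y.zero_mem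
      have h1 := hn ⟨_, hk⟩
      have h0 : psi f Y ⟨_, hk⟩ = 0 := Subtype.ext (show f (m - m') = 0 by rw [map_sub, hmm, sub_self])
      rw [h0, ofAdd_zero, map_one, map_one, _root_.mul_one, _root_.mul_one] at h1
      have h2 : chS d (Multiplicative.ofAdd (m - m')) = 1 := by
        rw [chS_mul, chS_invPt, ← h1, ← map_mul, inv_mul_cancel, map_one]
      calc chS d (Multiplicative.ofAdd m) = chS d (Multiplicative.ofAdd (m - m') * Multiplicative.ofAdd m') := by
            rw [← ofAdd_add, sub_add_cancel]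
        _ = _ := by rw [map_mul, h2, _root_.one_mul]
    choose s hs using fun z : Z' => z.2
    obtain ⟨h, hh⟩ := chS_surj (S := S) (M := Z') (T := W)
      { toFun := fun z => chS d (Multiplicative.ofAdd (s z.toAdd))
        map_one' := by
          rw [hd (s (Multiplicative.toAdd 1)) 0 (by rw [hs, map_zero]; rfl)]
          exact map_one _
        map_mul' := fun z w => by
          rw [← map_mul, ← ofAdd_add]
          exact hd _ _ (by rw [hs, map_add, hs, hs]; rfl) }
    have hρ : g' = g * (h ≫ ρ) := by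
      refine chS_inj fun m => ?_
      obtain ⟨m, rfl⟩ : ∃ m', Multiplicative.ofAdd m' = m := ⟨m.toAdd, rfl⟩
      rw [chS_mul, chS_map, hh]
      show _ = _ * chS d (Multiplicative.ofAdd (s (f.mrangeRestrict m)))
      rw [hd _ m (hs _), chS_mul, chS_invPt, ← _root_.mul_assoc, ← map_mul, mul_inv_cancel, map_one, _root_.one_mul]
    have hσ : y = (h ≫ σ) * y' := by
      refine chS_inj fun y₁ => ?_
      obtain ⟨y₁, rfl⟩ : ∃ m', Multiplicative.ofAdd m' = y₁ := ⟨y₁.toAdd, rfl⟩
      obtain ⟨m, hm⟩ := hY y₁.2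
      have hmN : m ∈ (Y.comap f) := show f m ∈ Y from hm ▸ y₁.2
      have h1 := hn ⟨m, hmN⟩
      rw [show psi f Y ⟨m, hmN⟩ = y₁ from Subtype.ext hm] at h1
      have h2 := congrArg (fun z => chS g (Multiplicative.ofAdd m)⁻¹ * z) h1
      simp only [← _root_.mul_assoc, ← map_mul, inv_mul_cancel, map_one, _root_.one_mul] at h2
      rw [chS_mul, chS_map, hh, h2]
      show _ = chS d (Multiplicative.ofAdd (s (AddSubmonoid.inclusion hY y₁))) * _
      rw [hd _ m ((hs _).trans hm.symm), chS_mul, chS_invPt]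
    simp only [W0, comp_lift_assoc, lift_fst, lift_snd_assoc]
    rw [hρ, a.lift_mul_act, ← hZ, ← hσ]
  obtain ⟨_, _⟩ := flat_surjective_jN f Y str hY
  let j := spHom str (jN f Y R)
  let W1 : spT str (MonoidAlgebra (MonoidAlgebra R (Multiplicative Y)) (Multiplicative M)) ⟶ X :=
    chart₂ Y str ≫ W0
  have hW1 : ∀ {W : Scheme.{u}} (g₁ g₂ : W ⟶ _), g₁ ≫ j.left = g₂ ≫ j.left → g₁ ≫ W1.left = g₂ ≫ W1.left := by
    intro W g₁ g₂ hg
    let P : Over S := Over.mk (g₁ ≫ (spT str (MonoidAlgebra (MonoidAlgebra R (Multiplicative Y))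
      (Multiplicative M))).hom)
    let G₁ : P ⟶ spT str (MonoidAlgebra (MonoidAlgebra R (Multiplicative Y)) (Multiplicative M)) := Over.homMk g₁ rfl
    let G₂ : P ⟶ spT str (MonoidAlgebra (MonoidAlgebra R (Multiplicative Y)) (Multiplicative M)) :=
      Over.homMk g₂ (by show g₂ ≫ _ = g₁ ≫ _; rw [← Over.w j, reassoc_of% hg])
    have hG : G₁ ≫ j = G₂ ≫ j := Over.OverMorphism.ext hg
    have := hW (G₁ ≫ chart₂ Y str) (G₂ ≫ chart₂ Y str) (by
      rw [Category.assoc, Category.assoc, chart₂_qT, reassoc_of% hG])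
    exact congrArg (fun z => z.left) ((Category.assoc _ _ _).symm.trans (this.trans (Category.assoc _ _ _)))
  let l : (spT str (MonoidAlgebra R (Multiplicative (Y.comap f)))).left ⟶ X.left :=
    EffectiveEpi.desc j.left W1.left fun g₁ g₂ hg => hW1 g₁ g₂ hg
  have hl : j.left ≫ l = W1.left := EffectiveEpi.fac j.left W1.left _
  haveI : Epi j.left := Flat.epi_of_flat_of_surjective _
  let L : spT str (MonoidAlgebra R (Multiplicative (Y.comap f))) ⟶ X := Over.homMk l (by
    rw [← cancel_epi j.left, ← Category.assoc, hl, Over.w W1, Over.w j])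
  let φ : Magnet.AMonS S (Y.comap f) ⊗ spT str R ⟶ X := inv (chart str R (Y.comap f)) ≫ L
  have hφ : qT f Y (spT str R) ≫ φ = W0 := by
    rw [← cancel_epi (chart₂ (M := M) Y str), reassoc_of% (chart₂_qT f Y str), IsIso.hom_inv_id_assoc]
    exact Over.OverMorphism.ext hl
  have key : ∀ (W : Over S) (g : W ⟶ Magnet.AMonS S M) (y : W ⟶ Magnet.AMonS S Y) (t : W ⟶ spT str R),
      lift (lift g (y ≫ kap f Y) ≫ (Magnet.subAct S M (Y.comap f)).act) t ≫ φ = lift g (lift y t ≫ v.1) ≫ a.act := by
    intro W g y t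
    rw [← lift_qT, Category.assoc, hφ]
    simp only [W0, comp_lift_assoc, lift_fst, lift_snd_assoc]
  have heq : Magnet.MonAct.IsEquivariant ((Magnet.subAct S M (Y.comap f)).prod (Magnet.MonAct.trivial _ (spT str R))) a φ := by
    rw [Magnet.MonAct.mem_eqvHom_iff]
    let P : Over S := Magnet.AMonS S (Y.comap f) ⊗ (Magnet.AMonS S M ⊗ spT str R)
    let b₀ : P ⟶ Magnet.AMonS S (Y.comap f) := fst _ _
    let g₀ : P ⟶ Magnet.AMonS S M := snd _ _ ≫ fst _ _
    let t₀ : P ⟶ spT str R := snd _ _ ≫ snd _ _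
    have e : lift (lift g₀ b₀ ≫ (Magnet.subAct S M (Y.comap f)).act) t₀ ≫ φ = lift g₀ (lift b₀ t₀ ≫ φ) ≫ a.act := by
      refine hom_ext_qT hY _ _ ?_
      simp only [b₀, g₀, t₀, qT, comp_lift_assoc, lift_fst, lift_snd_assoc, lift_snd, Category.assoc]
      rw [← (Magnet.subAct S M (Y.comap f)).lift_mul_act, ← Category.assoc _ (fst _ _) (kap f Y), key, key,
        ← a.lift_mul_act]
    intro T' g b t
    have h := congrArg (fun z => lift b (lift g t) ≫ z) e
    simpa only [b₀, g₀, t₀, comp_lift_assoc, lift_fst, lift_snd_assoc, lift_snd] using h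
  refine ⟨⟨φ, heq⟩, Subtype.ext ?_⟩
  show (kap f Y ▷ spT str R) ≫ φ = v.1
  have h1 := key _ (1 : Magnet.AMonS S Y ⊗ spT str R ⟶ Magnet.AMonS S M) (fst _ _) (snd _ _)
  rwa [(Magnet.subAct S M (Y.comap f)).lift_one_act, lift_fst_snd, Category.id_comp, a.lift_one_act,
    show lift (fst _ _ ≫ kap f Y) (snd _ _) = (kap f Y ▷ spT str R) from by
      apply CartesianMonoidalCategory.hom_ext <;> simp] at h1

theorem isIso_attrComap (hY : Y ≤ AddMonoidHom.mrange f) : IsIso (Magnet.attrComap a f Y) := by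
  have hP := S18294.result S (Magnet.AMonS S M) (Magnet.AMonS S (Y.comap f)) X (Magnet.subAct S M _) a
  have hF := S18294.result S (Magnet.AMonS S Z) (Magnet.AMonS S Y) X (Magnet.subAct S Z _)
    (a.restrict (Magnet.AMonS.map S f))
  exact (isPullback_of_affine (η₁ := Magnet.attrComap a f Y) (η₂ := Magnet.attrComap a f Y) (γ₁ := 𝟙 _)
    (γ₂ := 𝟙 _) hP hF hF rfl (fun R str x y h _ => attrComap_app_injective a hY _ h)
    (fun R str v w h => by
      obtain ⟨x, hx⟩ := attrComap_app_surjective str a hY v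
      exact ⟨x, hx, hx.trans h⟩)).isIso_fst_of_isIso

end Geometry

end Groth.Agent.MagFace16
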