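import Groth.Agent.Lib.MagFace16.Thick
import Groth.Agent.Lib.MagFace16.Average
import Groth.Agent.Lib.MagFace16.Aff
import Groth.Agent.Lib.FormSmooth4.Lift
import Mathlib.AlgebraicGeometry.Morphisms.Smooth

/-! Equivariant lifting into smooth schemes along graded square-zero ideals. -/

set_option autoImplicit false
set_option linter.style.haveILetI false
set_option backward.isDefEq.respectTransparency.types false
universe u

open CategoryTheory CategoryTheory.Limits MonoidalCategory CartesianMonoidalCategory MonObj AlgebraicGeometry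
  Opposite

noncomputable section

namespace Groth.Agent.MagFace16

theorem smooth_charts {X S : Scheme.{u}} (f : X ⟶ S) [Smooth f] (x : X) :
    ∃ (U : X.Opens) (V : S.Opens) (_ : IsAffineOpen U) (_ : IsAffineOpen V) (e : U ≤ f ⁻¹ᵁ V),
      x ∈ U ∧ (f.appLE V U e).hom.FormallySmooth := by
  obtain ⟨U, hU, V, hV, hx, e, h⟩ := Smooth.exists_isStandardSmooth f x
  exact ⟨V, U, hV, hU, e, hx, (RingHom.smooth_def.1 h.smooth).1⟩

/-- Lifting along a square-zero surjection into a smooth morphism. -/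
theorem exists_lift_surj {X Y : Scheme.{u}} (f : X ⟶ Y) [Smooth f] {R R₀ : Type u} [CommRing R] [CommRing R₀]
    (q : R →+* R₀) (hq : Function.Surjective q) (h2 : RingHom.ker q ^ 2 = ⊥)
    (a₀ : Spec (CommRingCat.of R₀) ⟶ X) (a : Spec (CommRingCat.of R) ⟶ Y)
    (w : a₀ ≫ f = Spec.map (CommRingCat.ofHom q) ≫ a) :
    ∃ b : Spec (CommRingCat.of R) ⟶ X, b ≫ f = a ∧ Spec.map (CommRingCat.ofHom q) ≫ b = a₀ := by
  let e := RingHom.quotientKerEquivOfSurjective hq
  have hqe : e.toRingHom.comp (Ideal.Quotient.mk (RingHom.ker q)) = q := RingHom.ext fun x => rfl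
  have h1 : Spec.map (CommRingCat.ofHom q) =
      Spec.map (CommRingCat.ofHom e.toRingHom) ≫ Spec.map (CommRingCat.ofHom (Ideal.Quotient.mk (RingHom.ker q))) := by
    rw [← Spec.map_comp, ← CommRingCat.ofHom_comp, hqe]
  have h2' : Spec.map (CommRingCat.ofHom e.symm.toRingHom) ≫ Spec.map (CommRingCat.ofHom e.toRingHom) = 𝟙 _ := by
    rw [← Spec.map_comp, ← CommRingCat.ofHom_comp, ← Spec.map_id]
    congr 1
    exact CommRingCat.hom_ext (RingHom.ext fun x => e.symm_apply_apply x)
  have h3 : Spec.map (CommRingCat.ofHom e.toRingHom) ≫ Spec.map (CommRingCat.ofHom e.symm.toRingHom) = 𝟙 _ := by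
    rw [← Spec.map_comp, ← CommRingCat.ofHom_comp, ← Spec.map_id]
    congr 1
    exact CommRingCat.hom_ext (RingHom.ext fun x => e.apply_symm_apply x)
  obtain ⟨b, hb1, hb2⟩ := FormSmooth4.exists_lift_spec f (smooth_charts f) (RingHom.ker q) h2
    (Spec.map (CommRingCat.ofHom e.symm.toRingHom) ≫ a₀) a (by
      rw [Category.assoc, w, h1, Category.assoc, reassoc_of% h2'])
  exact ⟨b, hb1, by rw [h1, Category.assoc, hb2, reassoc_of% h3]⟩

section Coeff

variable {A : Type u} [CommRing A] {G : Type} [CommMonoid G] {B C : Type u} [CommRing B] [Algebra A B] [CommRing C]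
  [Algebra A C] (φ : B →ₐ[A] C)

theorem mapAlgHom_surjective (hφ : Function.Surjective φ) : Function.Surjective (MonoidAlgebra.mapAlgHom G φ) := by
  intro F
  induction F using MonoidAlgebra.induction_linear with
  | zero => exact ⟨0, map_zero _⟩
  | add a b ha hb =>
    obtain ⟨a', rfl⟩ := ha
    obtain ⟨b', rfl⟩ := hb
    exact ⟨a' + b', map_add _ _ _⟩
  | single n c =>
    obtain ⟨c, rfl⟩ := hφ c
    exact ⟨MonoidAlgebra.single n c, by simp⟩

theorem mapAlgHom_ker_sq (hφ : RingHom.ker φ ^ 2 = ⊥) : RingHom.ker (MonoidAlgebra.mapAlgHom G φ) ^ 2 = ⊥ := by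
  classical
  rw [pow_two, eq_bot_iff]
  refine Ideal.mul_le.2 fun F hF F' hF' => (Ideal.mem_bot).2 ?_
  have key : ∀ {F}, F ∈ RingHom.ker (MonoidAlgebra.mapAlgHom G φ) → ∀ n, F.coeff n ∈ RingHom.ker φ := fun hF n => by
    rw [RingHom.mem_ker, ← MonoidAlgebra.coeff_mapAlgHom, RingHom.mem_ker.1 hF]
    simp
  rw [← MonoidAlgebra.sum_coeff_single F, ← MonoidAlgebra.sum_coeff_single F', Finsupp.sum, Finsupp.sum,
    Finset.sum_mul_sum]
  refine Finset.sum_eq_zero fun n _ => Finset.sum_eq_zero fun n' _ => ?_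
  rw [MonoidAlgebra.single_mul_single, show F.coeff n * F'.coeff n' = 0 from ?_, MonoidAlgebra.single_zero]
  rw [← Ideal.mem_bot, ← hφ, pow_two]
  exact Ideal.mul_mem_mul (key hF n) (key hF' n')

theorem mapAlgHom_comp' {D : Type u} [CommRing D] [Algebra A D] (ψ : C →ₐ[A] D) :
    (MonoidAlgebra.mapAlgHom G ψ).comp (MonoidAlgebra.mapAlgHom G φ) = MonoidAlgebra.mapAlgHom G (ψ.comp φ) :=
  AlgHom.ext fun F => MonoidAlgebra.coeff_inj.1 (Finsupp.ext fun n => by simp)

end Coeff

variable {S : Scheme.{u}} {A : Type u} [CommRing A] (str : Spec (CommRingCat.of A) ⟶ S) {M : Type} [AddCommGroup M]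
  {X Y : Over S} (aX : Magnet.MonAct (Magnet.AMonS S M) X) (aY : Magnet.MonAct (Magnet.AMonS S M) Y)
  (f : X ⟶ Y) (hfeq : Magnet.MonAct.IsEquivariant aX aY f)

/-- Translation of a point of an affine scheme. -/
abbrev trPt {C : Type u} [CommRing C] [Algebra A C] {X : Over S} (a : Magnet.MonAct (Magnet.AMonS S M) X)
    (x : spT str C ⟶ X) : spT str (MonoidAlgebra C (Multiplicative M)) ⟶ X :=
  lift (bpt str C M) (proj str C M ≫ x) ≫ a.act

theorem spHom_trPt {C C' : Type u} [CommRing C] [Algebra A C] [CommRing C'] [Algebra A C'] (φ : C →ₐ[A] C')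
    {X : Over S} (a : Magnet.MonAct (Magnet.AMonS S M) X) (x : spT str C ⟶ X) :
    spHom str (MonoidAlgebra.mapAlgHom (Multiplicative M) φ) ≫ trPt str a x = trPt str a (spHom str φ ≫ x) := by
  rw [comp_lift_assoc, spHom_mapAlgHom_bpt, ← Category.assoc (spHom str _), spHom_mapAlgHom_proj, Category.assoc]

include hfeq in
theorem trPt_comp {C : Type u} [CommRing C] [Algebra A C] (x : spT str C ⟶ X) :
    trPt str aX x ≫ f = trPt str aY (x ≫ f) := by
  rw [trPt, Category.assoc, show aX.act ≫ f = (_ ◁ f) ≫ aY.act from hfeq, lift_whiskerLeft_assoc, Category.assoc]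

theorem trPt_trPt {C : Type u} [CommRing C] [Algebra A C] {X : Over S} (a : Magnet.MonAct (Magnet.AMonS S M) X)
    (x : spT str C ⟶ X) :
    trPt str a (trPt str a x) = spHom str (delta (R := A) (C := C) (M := M)) ≫ trPt str a x := by
  simp only [trPt, comp_lift_assoc]
  rw [← a.lift_mul_act]
  congr 2
  · refine Magnet16.chS_inj fun m => ?_
    rw [Magnet16.chS_mul, chS_bpt, Magnet16.chS_nat, chS_bpt, appTop_gl, Magnet16.chS_nat, chS_bpt, appTop_gl,
      MonoidAlgebra.of_apply (R := C), delta_single]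
    refine Eq.trans (map_mul (Scheme.ΓSpecIso _).inv.hom _ _).symm ?_
    refine congrArg gl ?_
    simp [MonoidAlgebra.coe_algebraMap, MonoidAlgebra.single_mul_single, MonoidAlgebra.of_apply]
  · rw [← Category.assoc, ← Category.assoc, spHom_comp, spHom_comp]
    congr 2
    refine AlgHom.ext fun c => ?_
    simp [MonoidAlgebra.coe_algebraMap, delta_single]

/-- The coassociativity from the description of the coefficients. -/
theorem coassoc_of_coeff {C : Type u} [CommRing C] [Algebra A C]
    (θ : C →ₐ[A] MonoidAlgebra C (Multiplicative M))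
    (h : ∀ c m, θ ((θ c).coeff m) = MonoidAlgebra.single m ((θ c).coeff m)) :
    (MonoidAlgebra.mapAlgHom (Multiplicative M) θ).comp θ = (delta (R := A)).comp θ := by
  classical
  refine AlgHom.ext fun c => MonoidAlgebra.coeff_inj.1 (Finsupp.ext fun m => ?_)
  rw [AlgHom.comp_apply, AlgHom.comp_apply, MonoidAlgebra.coeff_mapAlgHom, h]
  conv_rhs => rw [← MonoidAlgebra.sum_coeff_single (θ c)]
  simp only [Finsupp.sum, map_sum, MonoidAlgebra.coeff_sum, Finsupp.finsetSum_apply, delta_single,
    MonoidAlgebra.coeff_single]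
  by_cases hm : m ∈ (θ c).coeff.support
  · rw [Finset.sum_eq_single m (fun n _ hn => Finsupp.single_eq_of_ne (Ne.symm hn)) (fun h' => absurd hm h'),
      Finsupp.single_eq_same]
  · rw [Finset.sum_eq_zero fun n hn => Finsupp.single_eq_of_ne (by rintro rfl; exact hm hn),
      Finsupp.notMem_support_iff.1 hm, MonoidAlgebra.single_zero]

theorem coeff_of_coassoc {C : Type u} [CommRing C] [Algebra A C]
    (θ : C →ₐ[A] MonoidAlgebra C (Multiplicative M))
    (h : (MonoidAlgebra.mapAlgHom (Multiplicative M) θ).comp θ = (delta (R := A)).comp θ) (c : C)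
    (m : Multiplicative M) : θ ((θ c).coeff m) = MonoidAlgebra.single m ((θ c).coeff m) := by
  classical
  have h' := congrArg (fun x => x.coeff m) (DFunLike.congr_fun h c)
  simp only [AlgHom.comp_apply, MonoidAlgebra.coeff_mapAlgHom] at h'
  rw [h']
  induction θ c using MonoidAlgebra.induction_linear with
  | zero => simp
  | add x y hx hy => simp [hx, hy]
  | single n d =>
    rw [delta_single]
    by_cases hnm : n = m
    · subst hnm; simp
    · simp [MonoidAlgebra.coeff_single, Finsupp.single_eq_of_ne (Ne.symm hnm)]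

set_option maxHeartbeats 800000 in
include hfeq in
/-- Equivariant lifting. -/
theorem exists_eqv_lift [Smooth f.left] {R R₀ : Type u} [CommRing R] [Algebra A R] [CommRing R₀] [Algebra A R₀]
    (θ : R →ₐ[A] MonoidAlgebra R (Multiplicative M)) (θ₀ : R₀ →ₐ[A] MonoidAlgebra R₀ (Multiplicative M))
    (q : R →ₐ[A] R₀) (hqs : Function.Surjective q) (hq2 : RingHom.ker q ^ 2 = ⊥)
    (hcθ : ∀ r, (θ r).coeff.sum (fun _ c => c) = r)
    (haθ : ∀ r m, θ ((θ r).coeff m) = MonoidAlgebra.single m ((θ r).coeff m))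
    (hq : θ₀.comp q = (MonoidAlgebra.mapAlgHom _ q).comp θ)
    (y : spT str R ⟶ Y) (hy : spHom str θ ≫ y = trPt str aY y)
    (u₀ : spT str R₀ ⟶ X) (hu₀ : spHom str θ₀ ≫ u₀ = trPt str aX u₀) (hu : u₀ ≫ f = spHom str q ≫ y) :
    ∃ u : spT str R ⟶ X, spHom str q ≫ u = u₀ ∧ u ≫ f = y ∧ spHom str θ ≫ u = trPt str aX u := by
  let P := pullback f.left y.left
  let p₁ := pullback.fst f.left y.left
  let p₂ := pullback.snd f.left y.left
  let γ : Spec (CommRingCat.of R₀) ⟶ P := pullback.lift u₀.left (spHom str q).left (congrArg (fun z => z.left) hu)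
  haveI : IsClosedImmersion (spHom str q).left := IsClosedImmersion.spec_of_surjective _ hqs
  haveI : IsImmersion (γ ≫ p₂) := by rw [pullback.lift_snd]; infer_instance
  haveI : IsImmersion γ := IsImmersion.of_comp γ p₂
  obtain ⟨B, i, π₀, hi, hπs, hπ2, hπi, huniv⟩ := exists_thick γ
  let fR : R →+* B := (Spec.preimage (i ≫ p₂)).hom
  have hfR : Spec.map (CommRingCat.ofHom fR) = i ≫ p₂ := Spec.map_preimage _
  letI : Algebra A B := (fR.comp (algebraMap A R)).toAlgebra
  let fB : R →ₐ[A] B := { fR with commutes' := fun r => rfl }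
  have hfB : (spHom str fB).left = i ≫ p₂ := hfR
  let ξ : spT str B ⟶ X := Over.homMk (i ≫ p₁) (by
    rw [← Over.w f, Category.assoc, ← Category.assoc p₁, pullback.condition, Category.assoc, Over.w y,
      ← Category.assoc]
    exact ((congrArg (· ≫ _) hfB).symm.trans (Over.w (spHom str fB))))
  have hξf : ξ ≫ f = spHom str fB ≫ y := by
    apply Over.OverMorphism.ext
    show (i ≫ p₁) ≫ f.left = (spHom str fB).left ≫ y.left
    rw [hfB, Category.assoc, Category.assoc, pullback.condition]
  have hext : ∀ (C : Type u) [CommRing C] [Algebra A C] (b b' : B →ₐ[A] C),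
      spHom str b ≫ ξ = spHom str b' ≫ ξ → b.comp fB = b'.comp fB → b = b' := by
    intro C _ _ b b' h₁ h₂
    refine AlgHom.coe_ringHom_injective ?_
    have key : Spec.map (CommRingCat.ofHom b.toRingHom) = Spec.map (CommRingCat.ofHom b'.toRingHom) := by
      rw [← cancel_mono i]
      refine pullback.hom_ext ?_ ?_
      · rw [Category.assoc, Category.assoc]
        exact congrArg (fun z => z.left) h₁
      · simp only [Category.assoc]
        rw [← hfR, ← Spec.map_comp, ← Spec.map_comp, ← CommRingCat.ofHom_comp, ← CommRingCat.ofHom_comp]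
        exact congrArg (fun z : R →ₐ[A] C => Spec.map (CommRingCat.ofHom z.toRingHom)) h₂
    exact congrArg CommRingCat.Hom.hom (Spec.map_injective key)
  have hπf : π₀.hom.comp fR = q.toRingHom := by
    have key : Spec.map (CommRingCat.ofHom (π₀.hom.comp fR)) = Spec.map (CommRingCat.ofHom q.toRingHom) := by
      rw [CommRingCat.ofHom_comp, Spec.map_comp, hfR, CommRingCat.ofHom_hom, ← Category.assoc, hπi, pullback.lift_snd]
      rfl
    exact congrArg CommRingCat.Hom.hom (Spec.map_injective key)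
  let π : B →ₐ[A] R₀ := { π₀.hom with commutes' := fun r => (DFunLike.congr_fun hπf _).trans (q.commutes r) }
  have hπξ : spHom str π ≫ ξ = u₀ := by
    apply Over.OverMorphism.ext
    show Spec.map π₀ ≫ i ≫ p₁ = u₀.left
    rw [← Category.assoc, hπi, pullback.lift_fst]
  have hπfB : π.comp fB = q := AlgHom.ext fun r => DFunLike.congr_fun hπf r
  -- the coaction
  let g₂ : R →ₐ[A] MonoidAlgebra B (Multiplicative M) := (MonoidAlgebra.mapAlgHom (Multiplicative M) fB).comp θ
  have hcond : trPt str aX ξ ≫ f = spHom str g₂ ≫ y := by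
    rw [trPt_comp str aX aY f hfeq, hξf, ← spHom_comp, Category.assoc, hy, spHom_trPt]
  let Φ : Spec (CommRingCat.of (MonoidAlgebra B (Multiplicative M))) ⟶ P :=
    pullback.lift (trPt str aX ξ).left (spHom str g₂).left (congrArg (fun z => z.left) hcond)
  let q' := MonoidAlgebra.mapAlgHom (Multiplicative M) π
  have hw : Spec.map (CommRingCat.ofHom q'.toRingHom) ≫ Φ = (spHom str θ₀).left ≫ γ := by
    refine pullback.hom_ext ?_ ?_
    · rw [Category.assoc, Category.assoc, pullback.lift_fst, pullback.lift_fst]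
      have := congrArg (fun z => z.left) (spHom_trPt str π aX ξ)
      rw [hπξ, ← hu₀] at this
      exact this
    · rw [Category.assoc, Category.assoc, pullback.lift_snd, pullback.lift_snd]
      refine congrArg (fun z => z.left) (?_ : spHom str q' ≫ spHom str g₂ = spHom str θ₀ ≫ spHom str q)
      rw [spHom_comp, spHom_comp, ← AlgHom.comp_assoc, mapAlgHom_comp', hπfB, hq]
  obtain ⟨l, hl⟩ := huniv (CommRingCat.of _) (CommRingCat.of _) (CommRingCat.ofHom q'.toRingHom)
    (mapAlgHom_surjective π hπs) (mapAlgHom_ker_sq π hπ2) Φ (spHom str θ₀).left hw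
  let ρ₀ : B →+* MonoidAlgebra B (Multiplicative M) := (Spec.preimage l).hom
  have hρ₀ : Spec.map (CommRingCat.ofHom ρ₀) = l := Spec.map_preimage _
  have hρf : ρ₀.comp fR = g₂.toRingHom := by
    have key : Spec.map (CommRingCat.ofHom (ρ₀.comp fR)) = Spec.map (CommRingCat.ofHom g₂.toRingHom) := by
      rw [CommRingCat.ofHom_comp, Spec.map_comp, hρ₀, hfR, ← Category.assoc, hl, pullback.lift_snd]
      rfl
    exact congrArg CommRingCat.Hom.hom (Spec.map_injective key)
  let ρ : B →ₐ[A] MonoidAlgebra B (Multiplicative M) :=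
    { ρ₀ with commutes' := fun r => (DFunLike.congr_fun hρf _).trans (g₂.commutes r) }
  have hρfB : ρ.comp fB = g₂ := AlgHom.ext fun r => DFunLike.congr_fun hρf r
  have hρξ : spHom str ρ ≫ ξ = trPt str aX ξ := by
    apply Over.OverMorphism.ext
    show Spec.map (CommRingCat.ofHom ρ₀) ≫ i ≫ p₁ = _
    rw [hρ₀, ← Category.assoc, hl, pullback.lift_fst]
  have hπρ : θ₀.comp π = (MonoidAlgebra.mapAlgHom _ π).comp ρ := by
    refine hext _ _ _ ?_ ?_
    · rw [← spHom_comp, ← spHom_comp, Category.assoc, Category.assoc, hπξ, hρξ, spHom_trPt, hπξ, hu₀]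
    · rw [AlgHom.comp_assoc, AlgHom.comp_assoc, hπfB, hρfB, ← AlgHom.comp_assoc, mapAlgHom_comp', hπfB, hq]
  have haρ : ∀ b m, ρ ((ρ b).coeff m) = MonoidAlgebra.single m ((ρ b).coeff m) := by
    refine coeff_of_coassoc ρ (hext _ _ _ ?_ ?_)
    · rw [← spHom_comp, ← spHom_comp, Category.assoc, Category.assoc, hρξ, spHom_trPt, hρξ, trPt_trPt]
    · rw [AlgHom.comp_assoc, AlgHom.comp_assoc, hρfB]
      show (MonoidAlgebra.mapAlgHom _ ρ).comp ((MonoidAlgebra.mapAlgHom _ fB).comp θ) =
        (delta (R := A)).comp ((MonoidAlgebra.mapAlgHom _ fB).comp θ)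
      rw [← AlgHom.comp_assoc, mapAlgHom_comp', hρfB]
      show (MonoidAlgebra.mapAlgHom _ ((MonoidAlgebra.mapAlgHom _ fB).comp θ)).comp θ = _
      rw [← mapAlgHom_comp', AlgHom.comp_assoc, coassoc_of_coeff θ haθ, ← AlgHom.comp_assoc, ← AlgHom.comp_assoc]
      congr 1
      refine AlgHom.ext fun F => ?_
      induction F using MonoidAlgebra.induction_linear with
      | zero => simp
      | add x y hx hy => simp only [map_add, hx, hy]
      | single n d => simp [delta_single]
  -- a section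
  obtain ⟨b', hb'f, hb'q⟩ := exists_lift_surj f.left q.toRingHom hqs hq2 u₀.left y.left
    (congrArg (fun z => z.left) hu)
  let Ψ : Spec (CommRingCat.of R) ⟶ P := pullback.lift b' (𝟙 _) (by rw [Category.id_comp]; exact hb'f)
  obtain ⟨l', hl'⟩ := huniv (CommRingCat.of R) (CommRingCat.of R₀) (CommRingCat.ofHom q.toRingHom) hqs hq2 Ψ (𝟙 _) (by
    refine pullback.hom_ext ?_ ?_
    · rw [Category.assoc, Category.assoc, pullback.lift_fst, pullback.lift_fst, Category.id_comp, hb'q]
    · rw [Category.assoc, Category.assoc, pullback.lift_snd, pullback.lift_snd, Category.id_comp, Category.comp_id]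
      rfl)
  let σ₀ : B →+* R := (Spec.preimage l').hom
  have hσ₀ : Spec.map (CommRingCat.ofHom σ₀) = l' := Spec.map_preimage _
  have hσf : σ₀.comp fR = RingHom.id R := by
    have key : Spec.map (CommRingCat.ofHom (σ₀.comp fR)) = Spec.map (CommRingCat.ofHom (RingHom.id R)) := by
      rw [CommRingCat.ofHom_comp, Spec.map_comp, hσ₀, hfR, ← Category.assoc, hl', pullback.lift_snd]
      exact (Spec.map_id _).symm
    exact congrArg CommRingCat.Hom.hom (Spec.map_injective key)
  let σ : B →ₐ[A] R := { σ₀ with commutes' := fun r => DFunLike.congr_fun hσf (algebraMap A R r) }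
  have hσfB : σ.comp fB = AlgHom.id A R := AlgHom.ext fun r => DFunLike.congr_fun hσf r
  have hqσ : q.comp σ = π := by
    refine hext _ _ _ ?_ (by rw [AlgHom.comp_assoc, hσfB, AlgHom.comp_id, hπfB])
    rw [← spHom_comp, Category.assoc, hπξ]
    apply Over.OverMorphism.ext
    show Spec.map (CommRingCat.ofHom q.toRingHom) ≫ Spec.map (CommRingCat.ofHom σ₀) ≫ i ≫ p₁ = u₀.left
    rw [hσ₀, ← Category.assoc l', hl', pullback.lift_fst, hb'q]
  obtain ⟨τ, hτf, hqτ, hτρ⟩ := exists_average θ ρ θ₀ q hq2 fB π σ hcθ haθ haρ hq hπρ hρfB hσfB hqσ hqs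
  refine ⟨spHom str τ ≫ ξ, ?_, ?_, ?_⟩
  · rw [← Category.assoc, spHom_comp, hqτ, hπξ]
  · rw [Category.assoc, hξf, ← Category.assoc, spHom_comp, hτf, spHom_id, Category.id_comp]
  · rw [← Category.assoc, spHom_comp, hτρ, ← spHom_comp, Category.assoc, hρξ, spHom_trPt]

end Groth.Agent.MagFace16
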