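import Groth.Agent.Lib.MagFace16.Agree
import Groth.Agent.Lib.MagFace16.Aff
import Groth.Agent.Lib.FEtale4.Lift
import Mathlib.AlgebraicGeometry.Morphisms.Etale
import Mathlib.AlgebraicGeometry.IdealSheaf.Functorial

/-! Lifting equivariant families along an etale equivariant map from a face. -/

set_option autoImplicit false
set_option linter.style.haveILetI false
set_option backward.isDefEq.respectTransparency.types false
universe u

open CategoryTheory CategoryTheory.Limits MonoidalCategory CartesianMonoidalCategory MonObj AlgebraicGeometry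
  Opposite

noncomputable section

namespace Groth.Agent.MagFace16

theorem isNilpotent_ker_Spec {R P : CommRingCat.{u}} (φ : R ⟶ P) (h : IsNilpotent (RingHom.ker φ.hom)) :
    IsNilpotent (Spec.map φ).ker := by
  obtain ⟨n, hn⟩ := h
  refine ⟨n, Scheme.IdealSheafData.ext_of_isAffine ?_⟩
  rw [Scheme.IdealSheafData.ideal_pow, Pi.pow_apply, Scheme.Hom.ker_apply]
  let ε : Γ(Spec R, ⊤) ≅ R := Scheme.ΓSpecIso R
  have e' : RingHom.ker ((Spec.map φ).app ⊤).hom = (RingHom.ker φ.hom).comap ε.hom.hom := by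
    ext x
    have := congrArg (fun f : _ ⟶ P => f.hom x) (Scheme.ΓSpecIso_naturality φ)
    simp only [CommRingCat.hom_comp, RingHom.comp_apply] at this
    rw [RingHom.mem_ker, Ideal.mem_comap, RingHom.mem_ker]
    refine Iff.trans ?_ (iff_of_eq (congrArg (· = 0) this))
    exact ((map_eq_zero_iff _ (Scheme.ΓSpecIso P).commRingCatIsoToRingEquiv.injective)).symm
  erw [e', ← Ideal.map_symm (f := ε.commRingCatIsoToRingEquiv), ← Ideal.map_pow, hn, Ideal.zero_eq_bot,
    Ideal.map_bot]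
  rfl

theorem isClosedImmersion_surjective_Spec {R P : CommRingCat.{u}} (φ : R ⟶ P) (hs : Function.Surjective φ.hom)
    (h : IsNilpotent (RingHom.ker φ.hom)) : IsClosedImmersion (Spec.map φ) ∧ Surjective (Spec.map φ) := by
  refine ⟨IsClosedImmersion.spec_of_surjective φ hs, ⟨fun (p : PrimeSpectrum R) => ?_⟩⟩
  obtain ⟨n, hn⟩ := h
  obtain ⟨q, hq⟩ : p ∈ Set.range (PrimeSpectrum.comap φ.hom) := by
    rw [range_comap_of_surjective _ _ hs, PrimeSpectrum.mem_zeroLocus]
    exact fun x hx => p.2.mem_of_pow_mem n (by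
      have : x ^ n ∈ RingHom.ker φ.hom ^ n := Ideal.pow_mem_pow hx n
      rw [hn, Ideal.zero_eq_bot, Ideal.mem_bot] at this
      rw [this]; exact zero_mem _)
  exact ⟨q, hq⟩

variable {S : Scheme.{u}} {R : Type u} [CommRing R] (str : Spec (CommRingCat.of R) ⟶ S)

section Unramified

variable {U X : Over S} (D : Model str U) (f : U ⟶ X) {C C₀ : Type u} [CommRing C] [Algebra R C] [CommRing C₀]
  [Algebra R C₀]

theorem pt_unique [FormallyUnramified f.left] (π : C →ₐ[R] C₀) (hs : Function.Surjective π)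
    (hn : IsNilpotent (RingHom.ker π)) (c c' : D.B →ₐ[R] C) (h : D.pt c ≫ f = D.pt c' ≫ f)
    (h₀ : π.comp c = π.comp c') : c = c' := by
  refine D.pt_inj (Over.OverMorphism.ext ?_)
  haveI : IsClosedImmersion (spHom str π).left :=
    (isClosedImmersion_surjective_Spec (CommRingCat.ofHom π.toRingHom) hs hn).1
  refine FormallyUnramified.hom_ext (spHom str π).left
    (isNilpotent_ker_Spec (CommRingCat.ofHom π.toRingHom) hn) f.left ?_ (congrArg (fun z => z.left) h)
  have h1 : spHom str π ≫ D.pt c = spHom str π ≫ D.pt c' := by rw [D.spHom_pt, D.spHom_pt, h₀]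
  exact congrArg (fun z => z.left) h1

theorem pt_lift [Etale f.left] (π : C →ₐ[R] C₀) (hs : Function.Surjective π)
    (hn : IsNilpotent (RingHom.ker π)) (y : spT str C ⟶ X) (c₀ : D.B →ₐ[R] C₀)
    (h : D.pt c₀ ≫ f = spHom str π ≫ y) : ∃ c : D.B →ₐ[R] C, D.pt c ≫ f = y ∧ π.comp c = c₀ := by
  let i := (spHom str π).left
  obtain ⟨h1, h2⟩ := isClosedImmersion_surjective_Spec (CommRingCat.ofHom π.toRingHom) hs hn
  haveI : IsClosedImmersion i := h1
  haveI : Surjective i := h2
  let p := pullback.snd f.left y.left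
  have hw : (D.pt c₀).left ≫ f.left = i ≫ y.left := congrArg (fun z => z.left) h
  obtain ⟨s, hs₁, hs₂⟩ := FEtale4.exists_section_extend p i (pullback.lift (D.pt c₀).left i hw)
    (pullback.lift_snd _ _ _)
  have hsf : (s ≫ pullback.fst f.left y.left) ≫ f.left = y.left := by
    rw [Category.assoc, pullback.condition, ← Category.assoc]
    show (s ≫ p) ≫ y.left = _
    rw [hs₁, Category.id_comp]
  obtain ⟨c, hc⟩ := D.pt_surj (Over.homMk (s ≫ pullback.fst f.left y.left) (by
    rw [← Over.w f, ← Category.assoc, hsf]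
    exact Over.w y))
  refine ⟨c, Over.OverMorphism.ext ?_, D.pt_inj (Over.OverMorphism.ext ?_)⟩
  · rw [Over.comp_left, hc]
    exact hsf
  · rw [← D.spHom_pt, Over.comp_left, hc]
    show i ≫ s ≫ pullback.fst f.left y.left = _
    rw [reassoc_of% hs₂, pullback.lift_fst]

end Unramified

section Face

variable {M : Type} [AddCommGroup M] {N Q : AddSubmonoid M} (hQ : Magnet.IsFace N Q)

theorem single_mem_pow {k : ℕ} {n : Multiplicative N} (hn : n ∈ wt N Q k) (r : R) :
    MonoidAlgebra.single n r ∈ jI R hQ ^ k := by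
  induction k generalizing n r with
  | zero => simp
  | succ k ih =>
    obtain ⟨a, b, ha, hb, rfl⟩ := hn
    have ha' : MonoidAlgebra.single a (1 : R) ∈ jI R hQ := by
      rw [RingHom.mem_ker, show a = Multiplicative.ofAdd a.toAdd from rfl]
      exact Magnet.faceAlgHom_single_of_not_mem R hQ a.toAdd ha 1
    rw [pow_succ', show MonoidAlgebra.single (a * b) r = MonoidAlgebra.single a (1 : R) * MonoidAlgebra.single b r from by
      rw [MonoidAlgebra.single_mul_single, _root_.one_mul]]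
    exact Ideal.mul_mem_mul ha' (ih hb r)

theorem mem_pow_iff {k : ℕ} {g : RN R N} :
    g ∈ jI R hQ ^ k ↔ ∀ n, n ∉ wt N Q k → g.coeff n = 0 := by
  constructor
  · intro hg n hn
    by_contra hne
    exact hn (support_subset_of_mem_pow hQ hg (Finsupp.mem_support_iff.2 hne))
  · intro h
    rw [← MonoidAlgebra.sum_coeff_single g]
    refine Ideal.sum_mem _ fun n hn => single_mem_pow hQ ?_ _
    by_contra hc
    exact Finsupp.mem_support_iff.1 hn (h n hc)

theorem theta_coeff_mem {k : ℕ} {g : RN R N} (hg : g ∈ jI R hQ ^ k) (m : Multiplicative M) :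
    (theta (R := R) N g).coeff m ∈ jI R hQ ^ k := by
  by_cases hm : (m.toAdd : M) ∈ N
  · have h := theta_coeff (R := R) g (Multiplicative.ofAdd (⟨_, hm⟩ : N))
    rw [show (theta (R := R) N g).coeff m = _ from h]
    refine (mem_pow_iff hQ).2 fun n hn => ?_
    classical
    by_cases he : n = Multiplicative.ofAdd (⟨_, hm⟩ : N)
    · subst he
      simpa [MonoidAlgebra.coeff_single] using (mem_pow_iff hQ).1 hg _ hn
    · simp [MonoidAlgebra.coeff_single, Finsupp.single_eq_of_ne he]
  · have h := theta_coeff_of_not_mem (R := R) g m.toAdd hm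
    rw [show (theta (R := R) N g).coeff m = 0 from h]
    exact zero_mem _

/-- The truncation of the monoid algebra. -/
abbrev Tk (R : Type u) [CommRing R] (k : ℕ) : Type u := RN R N ⧸ jI R hQ ^ (k + 1)

/-- The truncation map. -/
abbrev mkk (k : ℕ) : RN R N →ₐ[R] Tk hQ R k := Ideal.Quotient.mkₐ R _

/-- The face projection on a truncation. -/
def faceT (k : ℕ) : Tk hQ R k →ₐ[R] RN R Q :=
  Ideal.Quotient.liftₐ _ (Magnet.faceAlgHom R hQ) fun _ ha => Ideal.pow_le_self (Nat.succ_ne_zero k) ha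

theorem faceT_mk (k : ℕ) (g : RN R N) : faceT hQ k (mkk hQ k g) = Magnet.faceAlgHom R hQ g := rfl

theorem faceT_comp_mk (k : ℕ) : (faceT (R := R) hQ k).comp (mkk hQ k) = Magnet.faceAlgHom R hQ :=
  AlgHom.ext fun _ => rfl

theorem faceT_surjective (k : ℕ) : Function.Surjective (faceT (R := R) hQ k) := fun g =>
  ⟨mkk hQ k (MonoidAlgebra.mapDomainBialgHom R (AddMonoidHom.toMultiplicative (AddSubmonoid.inclusion hQ.le)) g),
    DFunLike.congr_fun (Magnet.faceAlgHom_comp_mapDomain R hQ) g⟩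

theorem ker_faceT (k : ℕ) : IsNilpotent (RingHom.ker (faceT (R := R) hQ k)) := by
  refine ⟨k + 1, ?_⟩
  have h : RingHom.ker (faceT (R := R) hQ k) = (jI R hQ).map (Ideal.Quotient.mk (jI R hQ ^ (k + 1))) := by
    ext x
    obtain ⟨g, rfl⟩ := Ideal.Quotient.mk_surjective x
    rw [RingHom.mem_ker, Ideal.mem_map_iff_of_surjective _ Ideal.Quotient.mk_surjective]
    constructor
    · exact fun hg => ⟨g, hg, rfl⟩
    · rintro ⟨g', hg', he⟩
      rw [← he]
      exact hg'
  rw [h, ← Ideal.map_pow, Ideal.map_quotient_self]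
  rfl

/-- The coaction on a truncation. -/
def thetaT (k : ℕ) : Tk hQ R k →ₐ[R] MonoidAlgebra (Tk hQ R k) (Multiplicative M) :=
  Ideal.Quotient.liftₐ _ ((MonoidAlgebra.mapAlgHom (Multiplicative M) (mkk hQ k)).comp (theta (R := R) N))
    fun g hg => MonoidAlgebra.coeff_inj.1 (Finsupp.ext fun m => by
      rw [AlgHom.comp_apply, MonoidAlgebra.coeff_mapAlgHom, MonoidAlgebra.coeff_zero, Finsupp.zero_apply]
      exact Ideal.Quotient.eq_zero_iff_mem.2 (theta_coeff_mem hQ hg m))

theorem thetaT_comp_mk (k : ℕ) : (thetaT (R := R) hQ k).comp (mkk hQ k) =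
    (MonoidAlgebra.mapAlgHom (Multiplicative M) (mkk hQ k)).comp (theta (R := R) N) :=
  AlgHom.ext fun _ => rfl

theorem face_thetaT (k : ℕ) :
    (MonoidAlgebra.mapAlgHom (Multiplicative M) (faceT (R := R) hQ k)).comp (thetaT hQ k) =
      (theta (R := R) Q).comp (faceT hQ k) := by
  refine Ideal.Quotient.algHom_ext R ?_
  rw [AlgHom.comp_assoc, thetaT_comp_mk, ← AlgHom.comp_assoc, ← MonoidAlgebra.mapRangeAlgHom_comp, faceT_comp_mk,
    AlgHom.comp_assoc, faceT_comp_mk]
  refine MonoidAlgebra.algHom_ext (fun n => ?_) (Subsingleton.elim _ _)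
  show MonoidAlgebra.mapAlgHom (Multiplicative M) (Magnet.faceAlgHom R hQ) (theta (R := R) N (MonoidAlgebra.of R _ n)) =
    theta (R := R) Q (Magnet.faceAlgHom R hQ (MonoidAlgebra.of R _ n))
  rw [theta_of, MonoidAlgebra.mapAlgHom_single, MonoidAlgebra.of_apply,
    show n = Multiplicative.ofAdd n.toAdd from rfl]
  by_cases hn : ((n.toAdd : N) : M) ∈ Q
  · rw [Magnet.faceAlgHom_single_of_mem R hQ _ hn, ← MonoidAlgebra.of_apply, theta_of]
    rfl
  · rw [Magnet.faceAlgHom_single_of_not_mem R hQ _ hn, map_zero, MonoidAlgebra.single_zero]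

theorem isNilpotent_ker_mapAlgHom {C C₀ : Type u} [CommRing C] [Algebra R C] [CommRing C₀] [Algebra R C₀]
    (π : C →ₐ[R] C₀) (h : IsNilpotent (RingHom.ker π)) :
    IsNilpotent (RingHom.ker (MonoidAlgebra.mapAlgHom (Multiplicative M) π)) := by
  obtain ⟨n, hn⟩ := h
  refine ⟨n, le_bot_iff.1 ?_⟩
  have hle : RingHom.ker (MonoidAlgebra.mapAlgHom (Multiplicative M) π) ≤
      (RingHom.ker π).map (algebraMap C (MonoidAlgebra C (Multiplicative M))) := by
    intro x hx
    rw [← MonoidAlgebra.sum_coeff_single x]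
    refine Ideal.sum_mem _ fun m _ => ?_
    rw [show MonoidAlgebra.single m (x.coeff m) =
      algebraMap C (MonoidAlgebra C (Multiplicative M)) (x.coeff m) * MonoidAlgebra.single m 1 from by
      simp [MonoidAlgebra.coe_algebraMap, MonoidAlgebra.single_mul_single]]
    refine Ideal.mul_mem_right _ _ (Ideal.mem_map_of_mem _ ?_)
    have h := congrArg (fun z => z.coeff m) (RingHom.mem_ker.1 hx)
    rw [RingHom.mem_ker]
    simpa [MonoidAlgebra.coeff_mapAlgHom] using h
  refine (Ideal.pow_right_mono hle n).trans ?_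
  rw [← Ideal.map_pow, hn, Ideal.zero_eq_bot, Ideal.map_bot]

theorem surjective_mapAlgHom {C C₀ : Type u} [CommRing C] [Algebra R C] [CommRing C₀] [Algebra R C₀]
    (π : C →ₐ[R] C₀) (h : Function.Surjective π) :
    Function.Surjective (MonoidAlgebra.mapAlgHom (Multiplicative M) π) := by
  intro x
  induction x using MonoidAlgebra.induction_linear with
  | zero => exact ⟨0, map_zero _⟩
  | add a b ha hb =>
    obtain ⟨a', rfl⟩ := ha
    obtain ⟨b', rfl⟩ := hb
    exact ⟨a' + b', map_add _ _ _⟩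
  | single m c =>
    obtain ⟨c', rfl⟩ := h c
    exact ⟨MonoidAlgebra.single m c', MonoidAlgebra.mapAlgHom_single _ _ _⟩

variable [AddGroup.FG M] {U X : Over S} (D : Model str U) (aU : Magnet.MonAct (Magnet.AMonS S M) U)
  (aX : Magnet.MonAct (Magnet.AMonS S M) X) (f : U ⟶ X) [Etale f.left]
  (hf : Magnet.MonAct.IsEquivariant aU aX f)
  (y : spT str (RN R N) ⟶ X)
  (hy : spHom str (theta (R := R) N) ≫ y = lift (bpt str (RN R N) M) (proj str (RN R N) M ≫ y) ≫ aX.act)
  (cQ : D.B →ₐ[R] RN R Q) (hcQ : IsEq str D aU cQ)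
  (hyQ : D.pt cQ ≫ f = spHom str (Magnet.faceAlgHom R hQ) ≫ y)

include hf in
omit [AddGroup.FG M] [Etale f.left] in
theorem pt_act_f {C : Type u} [CommRing C] [Algebra R C] (c : D.B →ₐ[R] C) :
    D.pt ((MonoidAlgebra.mapAlgHom (Multiplicative M) c).comp (rho str D aU)) ≫ f =
      lift (bpt str C M) (proj str C M ≫ D.pt c ≫ f) ≫ aX.act := by
  rw [pt_act, Category.assoc, hf, lift_whiskerLeft_assoc, Category.assoc]

include hyQ in
omit [AddGroup.FG M] in
theorem exists_level (k : ℕ) :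
    ∃ c : D.B →ₐ[R] Tk hQ R k, D.pt c ≫ f = spHom str (mkk hQ k) ≫ y ∧ (faceT hQ k).comp c = cQ :=
  pt_lift str D f (faceT hQ k) (faceT_surjective hQ k) (ker_faceT hQ k) (spHom str (mkk hQ k) ≫ y) cQ (by
    rw [← Category.assoc, spHom_comp, faceT_comp_mk, hyQ])

include hf hy in
omit [AddGroup.FG M] in
theorem level_eq_aux {C C₀ : Type u} [CommRing C] [Algebra R C] [CommRing C₀] [Algebra R C₀]
    (mk : RN R N →ₐ[R] C) (π : C →ₐ[R] C₀) (hs : Function.Surjective π) (hn : IsNilpotent (RingHom.ker π))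
    (θC : C →ₐ[R] MonoidAlgebra C (Multiplicative M)) (θ₀ : C₀ →ₐ[R] MonoidAlgebra C₀ (Multiplicative M))
    (hθ : θC.comp mk = (MonoidAlgebra.mapAlgHom (Multiplicative M) mk).comp (theta (R := R) N))
    (hπ : (MonoidAlgebra.mapAlgHom (Multiplicative M) π).comp θC = θ₀.comp π)
    (c : D.B →ₐ[R] C) (h₁ : D.pt c ≫ f = spHom str mk ≫ y)
    (h₂ : θ₀.comp (π.comp c) = (MonoidAlgebra.mapAlgHom (Multiplicative M) (π.comp c)).comp (rho str D aU)) :
    θC.comp c = (MonoidAlgebra.mapAlgHom (Multiplicative M) c).comp (rho str D aU) := by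
  refine pt_unique str D f _ (surjective_mapAlgHom π hs) (isNilpotent_ker_mapAlgHom π hn) _ _ ?_ ?_
  · rw [pt_act_f str D aU aX f hf, ← D.spHom_pt θC c, Category.assoc, h₁, ← Category.assoc, spHom_comp, hθ,
      ← spHom_comp, Category.assoc, hy, comp_lift_assoc, spHom_mapAlgHom_bpt, ← Category.assoc (spHom str _),
      spHom_mapAlgHom_proj, Category.assoc]
  · rw [← AlgHom.comp_assoc, hπ, AlgHom.comp_assoc, h₂, ← AlgHom.comp_assoc,
      ← MonoidAlgebra.mapRangeAlgHom_comp]

include hf hy hcQ in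
omit [AddGroup.FG M] in
theorem level_eq (k : ℕ) (c : D.B →ₐ[R] Tk hQ R k) (h₁ : D.pt c ≫ f = spHom str (mkk hQ k) ≫ y)
    (h₂ : (faceT hQ k).comp c = cQ) :
    (thetaT hQ k).comp c = (MonoidAlgebra.mapAlgHom (Multiplicative M) c).comp (rho str D aU) :=
  level_eq_aux str D aU aX f hf y hy (mkk hQ k) (faceT hQ k) (faceT_surjective hQ k) (ker_faceT hQ k)
    (thetaT hQ k) (theta (R := R) Q) (thetaT_comp_mk hQ k) (face_thetaT hQ k) c h₁ (by rw [h₂]; exact hcQ)

include hf hy hcQ hyQ in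
/-- Lifting along a face. -/
theorem exists_face_lift (hN : N.FG) :
    ∃ u : D.B →ₐ[R] RN R N, IsEq str D aU u ∧ (Magnet.faceAlgHom R hQ).comp u = cQ ∧ D.pt u ≫ f = y := by
  classical
  choose c hc₁ hc₂ using exists_level str hQ D f y cQ hyQ
  have hc : ∀ {k l : ℕ} (hkl : k ≤ l) (b : D.B) (g : RN R N), mkk hQ l g = c l b → mkk hQ k g = c k b := by
    intro k l hkl b g hg
    let q : Tk hQ R l →ₐ[R] Tk hQ R k :=
      Ideal.Quotient.factorₐ R (Ideal.pow_le_pow_right (Nat.succ_le_succ hkl))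
    have hq : q.comp (mkk hQ l) = mkk hQ k := AlgHom.ext fun _ => rfl
    have hql : (faceT hQ k).comp q = faceT (R := R) hQ l := Ideal.Quotient.algHom_ext R (AlgHom.ext fun _ => rfl)
    have h := pt_unique str D f _ (faceT_surjective hQ k) (ker_faceT hQ k) (q.comp (c l)) (c k) (by
      rw [← D.spHom_pt, Category.assoc, hc₁, ← Category.assoc, spHom_comp, hq, hc₁])
      (by rw [← AlgHom.comp_assoc, hql, hc₂, hc₂])
    rw [← h, AlgHom.comp_apply, ← hg]
    rfl
  choose rep hrep using fun (k : ℕ) (b : D.B) => Ideal.Quotient.mk_surjective (c k b)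
  have indep : ∀ (k l : ℕ) (b : D.B) (n : Multiplicative N), n ∉ wt N Q (k + 1) → k ≤ l →
      (rep k b).coeff n = (rep l b).coeff n := by
    intro k l b n hn hkl
    have h1 : rep k b - rep l b ∈ jI R hQ ^ (k + 1) :=
      (Ideal.Quotient.mk_eq_mk_iff_sub_mem _ _).1 ((hrep k b).trans (hc hkl b _ (hrep l b)).symm)
    have h2 := (mem_pow_iff hQ).1 h1 n hn
    rwa [MonoidAlgebra.coeff_sub, Finsupp.sub_apply, sub_eq_zero] at h2
  obtain ⟨r, ψ, hψ⟩ := exists_coord hQ
  choose K hK using fun d => exists_bound hQ hN ψ hψ d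
  let Kn : Multiplicative N → ℕ := fun n => K (ψ ((n.toAdd : N) : M))
  have hKn : ∀ n, n ∉ wt N Q (Kn n + 1) := fun n hn => by
    obtain ⟨a, b, -, hb, rfl⟩ := hn
    exact hK _ _ (mul_comm b a ▸ wt_mul hb a) rfl
  have hsupp : ∀ b n, (rep (Kn n) b).coeff n ≠ 0 →
      (rho str D aU b).coeff (Multiplicative.ofAdd ((n.toAdd : N) : M)) ≠ 0 := by
    intro b n hne h0
    have h := DFunLike.congr_fun (level_eq str hQ D aU aX f hf y hy cQ hcQ _ _ (hc₁ (Kn n)) (hc₂ (Kn n))) b
    have h' := congrArg (fun z => z.coeff (Multiplicative.ofAdd ((n.toAdd : N) : M))) h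
    simp only [AlgHom.comp_apply, MonoidAlgebra.coeff_mapAlgHom, h0, map_zero] at h'
    have h3 : thetaT hQ (Kn n) (c (Kn n) b) =
        MonoidAlgebra.mapAlgHom (Multiplicative M) (mkk hQ (Kn n)) (theta (R := R) N (rep (Kn n) b)) := by
      rw [← hrep]
      rfl
    rw [h3, MonoidAlgebra.coeff_mapAlgHom, theta_coeff] at h'
    have h4 := (mem_pow_iff hQ).1 (Ideal.Quotient.eq_zero_iff_mem.1 h') n (hKn n)
    exact hne (by simpa [MonoidAlgebra.coeff_single] using h4)
  have hinj : Function.Injective fun n : Multiplicative N => Multiplicative.ofAdd ((n.toAdd : N) : M) :=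
    fun a b h => Multiplicative.toAdd.injective (Subtype.ext (Multiplicative.ofAdd.injective h))
  let u₀ : D.B → RN R N := fun b => MonoidAlgebra.ofCoeff (Finsupp.onFinset
    ((rho str D aU b).coeff.support.preimage _ hinj.injOn) (fun n => (rep (Kn n) b).coeff n)
    (fun n hn => Finset.mem_preimage.2 (Finsupp.mem_support_iff.2 (hsupp b n hn))))
  have hu₀ : ∀ k b, mkk hQ k (u₀ b) = c k b := by
    intro k b
    rw [← hrep k b]
    refine (Ideal.Quotient.mk_eq_mk_iff_sub_mem _ _).2 ((mem_pow_iff hQ).2 fun n hn => ?_)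
    rw [MonoidAlgebra.coeff_sub, Finsupp.sub_apply, sub_eq_zero]
    show (rep (Kn n) b).coeff n = _
    rcases le_total (Kn n) k with h | h
    · exact indep _ _ b n (hKn n) h
    · exact (indep _ _ b n hn h).symm
  have sep : ∀ g g' : RN R N, (∀ k, mkk hQ k g = mkk hQ k g') → g = g' := by
    intro g g' h
    refine sub_eq_zero.1 (eq_zero_of_forall_mem_pow hQ hN _ fun k => ?_)
    exact Ideal.pow_le_pow_right (Nat.le_succ k) ((Ideal.Quotient.mk_eq_mk_iff_sub_mem _ _).1 (h k))
  let u : D.B →ₐ[R] RN R N :=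
    { toFun := u₀
      map_one' := sep _ _ fun k => by rw [hu₀, map_one, map_one]
      map_mul' := fun a b => sep _ _ fun k => by rw [hu₀, map_mul, map_mul, hu₀, hu₀]
      map_zero' := sep _ _ fun k => by rw [hu₀, map_zero, map_zero]
      map_add' := fun a b => sep _ _ fun k => by rw [hu₀, map_add, map_add, hu₀, hu₀]
      commutes' := fun r => sep _ _ fun k => by
        show mkk hQ k (u₀ _) = _
        rw [hu₀, AlgHom.commutes, AlgHom.commutes] }
  have hu : ∀ k, (mkk hQ k).comp u = c k := fun k => AlgHom.ext (hu₀ k)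
  have hequ : IsEq str D aU u := by
    refine AlgHom.ext fun b => MonoidAlgebra.coeff_inj.1 (Finsupp.ext fun m => sep _ _ fun k => ?_)
    have h := DFunLike.congr_fun (level_eq str hQ D aU aX f hf y hy cQ hcQ _ _ (hc₁ k) (hc₂ k)) b
    rw [← hu k, ← AlgHom.comp_assoc, thetaT_comp_mk] at h
    have h' := congrArg (fun z => z.coeff m) h
    simpa [MonoidAlgebra.coeff_mapAlgHom] using h'
  refine ⟨u, hequ, ?_, ?_⟩
  · rw [← hc₂ 0, ← hu 0, ← AlgHom.comp_assoc, faceT_comp_mk]
  · refine eq_of_formal_face str aX hQ hN _ y ?_ hy fun k => ?_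
    · rw [← Category.assoc, D.spHom_pt, hequ, pt_act_f str D aU aX f hf]
    · let q : Tk hQ R k →ₐ[R] RN R N ⧸ jI R hQ ^ k :=
        Ideal.Quotient.factorₐ R (Ideal.pow_le_pow_right (Nat.le_succ k))
      have h1 : spHom str (q.comp (mkk hQ k)) ≫ D.pt u ≫ f = spHom str (q.comp (mkk hQ k)) ≫ y := by
        rw [← spHom_comp, Category.assoc, Category.assoc]
        congr 1
        rw [← Category.assoc, D.spHom_pt, hu, hc₁]
      exact congrArg (fun z => z.left) h1

include hf hy in
/-- Uniqueness of lifts along a face. -/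
theorem face_lift_unique (hN : N.FG) (u u' : D.B →ₐ[R] RN R N) (hu : D.pt u ≫ f = y) (hu' : D.pt u' ≫ f = y)
    (h : (Magnet.faceAlgHom R hQ).comp u = (Magnet.faceAlgHom R hQ).comp u') : u = u' := by
  refine AlgHom.ext fun b => sub_eq_zero.1 (eq_zero_of_forall_mem_pow hQ hN _ fun k => ?_)
  have h1 := pt_unique str D f _ (faceT_surjective hQ k) (ker_faceT hQ k) ((mkk hQ k).comp u) ((mkk hQ k).comp u')
    (by rw [← D.spHom_pt, ← D.spHom_pt, Category.assoc, Category.assoc, hu, hu'])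
    (by rw [← AlgHom.comp_assoc, ← AlgHom.comp_assoc, faceT_comp_mk, h])
  exact Ideal.pow_le_pow_right (Nat.le_succ k)
    ((Ideal.Quotient.mk_eq_mk_iff_sub_mem _ _).1 (DFunLike.congr_fun h1 b))

end Face

end Groth.Agent.MagFace16
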