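import Groth.Agent.Lib.MagFace16.Homotopy
import Groth.Agent.Lib.MagFace16.Chart
import Mathlib.AlgebraicGeometry.ResidueField
import Mathlib.AlgebraicGeometry.PullbackCarrier
import Mathlib.RingTheory.Polynomial.Basic
import Mathlib.Topology.Connected.Clopen

/-! Connectedness of the fibres of the face projection. -/

set_option autoImplicit false
set_option linter.style.haveILetI false
set_option backward.isDefEq.respectTransparency.types false
universe u

open CategoryTheory CategoryTheory.Limits MonoidalCategory CartesianMonoidalCategory MonObj AlgebraicGeometry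
  Opposite

noncomputable section

namespace Groth.Agent.MagFace16

open Groth.Agent.Magnet16 (chS chS_nat chS_mul chS_inj chS_surj chS_map chS_one)

section Line

/-- The projection of the affine line. -/
abbrev prL (κ : Type u) [Field κ] : Spec (CommRingCat.of (Polynomial κ)) ⟶ Spec (CommRingCat.of κ) :=
  Spec.map (CommRingCat.ofHom Polynomial.C)

/-- A rational point of the affine line. -/
abbrev evL (κ : Type u) [Field κ] (c : κ) : Spec (CommRingCat.of κ) ⟶ Spec (CommRingCat.of (Polynomial κ)) :=
  Spec.map (CommRingCat.ofHom (Polynomial.evalRingHom c))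

theorem evL_prL (κ : Type u) [Field κ] (c : κ) : evL κ c ≫ prL κ = 𝟙 _ := by
  rw [← Spec.map_comp, ← CommRingCat.ofHom_comp, ← Spec.map_id]
  congr 1
  ext x
  simp

variable {ZN Z0 : Scheme.{u}} (j : ZN ⟶ Z0) (sec : Z0 ⟶ ZN) (hsec : sec ≫ j = 𝟙 _)
  (hline : ∀ (κ : Type u) [Field κ] (x : Spec (CommRingCat.of κ) ⟶ ZN),
    ∃ L : Spec (CommRingCat.of (Polynomial κ)) ⟶ ZN, evL κ 1 ≫ L = x ∧ evL κ 0 ≫ L = x ≫ j ≫ sec ∧
      L ≫ j = prL κ ≫ x ≫ j)

include hsec hline in
theorem connectedSpace_fibre (K : Type u) [Field K] (k : Spec (CommRingCat.of K) ⟶ Z0) :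
    ConnectedSpace ↥(Limits.pullback j k) := by
  let s : Spec (CommRingCat.of K) ⟶ pullback j k := pullback.lift (k ≫ sec) (𝟙 _) (by
    rw [Category.assoc, hsec, Category.comp_id, Category.id_comp])
  let p0 : ↥(pullback j k) := s (IsLocalRing.closedPoint K)
  haveI : Nonempty ↥(pullback j k) := ⟨p0⟩
  haveI : PreconnectedSpace ↥(pullback j k) := by
    refine ⟨isPreconnected_of_forall p0 fun q _ => ?_⟩
    let P := pullback j k
    let r := P.fromSpecResidueField q
    obtain ⟨L, hL1, hL0, hLj⟩ := hline (P.residueField q) (r ≫ pullback.fst j k)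
    let L' : Spec (CommRingCat.of (Polynomial (P.residueField q))) ⟶ P :=
      pullback.lift L (prL _ ≫ r ≫ pullback.snd j k) (by
        rw [hLj]; simp only [Category.assoc]; rw [pullback.condition])
    have h1 : evL _ 1 ≫ L' = r := by
      refine pullback.hom_ext ?_ ?_
      · rw [Category.assoc, pullback.lift_fst, hL1]
      · rw [Category.assoc, pullback.lift_snd, ← Category.assoc, evL_prL, Category.id_comp]
    have h0 : evL _ 0 ≫ L' = (r ≫ pullback.snd j k) ≫ s := by
      refine pullback.hom_ext ?_ ?_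
      · rw [Category.assoc, pullback.lift_fst, hL0]
        simp only [s, Category.assoc, pullback.lift_fst]
        rw [pullback.condition_assoc]
      · rw [Category.assoc, pullback.lift_snd, ← Category.assoc, evL_prL, Category.id_comp, Category.assoc,
          pullback.lift_snd, Category.comp_id]
    refine ⟨Set.range L', Set.subset_univ _, ?_, ?_, isPreconnected_range L'.continuous⟩
    · refine ⟨evL _ 0 (IsLocalRing.closedPoint _), ?_⟩
      rw [← Scheme.Hom.comp_apply, h0, Scheme.Hom.comp_apply]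
      exact congrArg s (Subsingleton.elim (α := PrimeSpectrum K) _ _)
    · refine ⟨evL _ 1 (IsLocalRing.closedPoint _), ?_⟩
      rw [← Scheme.Hom.comp_apply, h1]
      exact P.fromSpecResidueField_apply q _
  exact ⟨inferInstance⟩

include hsec hline in
theorem bijective_connectedComponentsMap :
    Function.Bijective (Continuous.connectedComponentsMap j.continuous) := by
  refine Function.bijective_iff_has_inverse.2 ⟨Continuous.connectedComponentsMap sec.continuous, ?_, ?_⟩
  · intro c
    obtain ⟨z, rfl⟩ := ConnectedComponents.surjective_coe c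
    show (ConnectedComponents.mk (sec (j z)) : ConnectedComponents ZN) = ConnectedComponents.mk z
    obtain ⟨L, hL1, hL0, -⟩ := hline (ZN.residueField z) (ZN.fromSpecResidueField z)
    refine (ConnectedComponents.coe_eq_coe').2 ?_
    refine (isPreconnected_range L.continuous).subset_connectedComponent ?_ ?_
    · exact ⟨evL _ 1 (IsLocalRing.closedPoint _), by
        rw [← Scheme.Hom.comp_apply, hL1]; exact ZN.fromSpecResidueField_apply z _⟩
    · exact ⟨evL _ 0 (IsLocalRing.closedPoint _), by
        rw [← Scheme.Hom.comp_apply, hL0, Scheme.Hom.comp_apply, Scheme.Hom.comp_apply,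
          ZN.fromSpecResidueField_apply]⟩
  · intro c
    obtain ⟨z, rfl⟩ := ConnectedComponents.surjective_coe c
    show (ConnectedComponents.mk (j (sec z)) : ConnectedComponents Z0) = ConnectedComponents.mk z
    rw [← Scheme.Hom.comp_apply, hsec]
    rfl

end Line

variable {S : Scheme.{u}} {M : Type} [AddCommGroup M] {N F : AddSubmonoid M} {X : Over S}
  (a : Magnet.MonAct (Magnet.AMonS S M) X) (χ : M →+ ℤ) (hχ : ∀ n ∈ N, 0 ≤ χ n ∧ (χ n = 0 ↔ n ∈ F))

theorem attrFace_homot (hF : Magnet.IsFace N F) {T : Over S} (φ : (Magnet.attr a N).obj (op T))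
    (c : Γ(T.left, ⊤)) :
    (Magnet.attrFace a hF).app (op T) (homot χ hχ a φ c) = (Magnet.attrFace a hF).app (op T) φ := by
  classical
  refine Subtype.ext ?_
  show (Magnet.AMonS.faceMap S hF ▷ T) ≫ scaleMul χ hχ c ≫ φ.1 = (Magnet.AMonS.faceMap S hF ▷ T) ≫ φ.1
  rw [← Category.assoc]
  congr 1
  apply Magnet.hom_ext_lift₂
  intro T' b t
  rw [← Category.assoc, lift_whiskerRight, lift_scaleMul]
  congr 1
  refine chS_inj fun n => ?_
  obtain ⟨n, rfl⟩ : ∃ m, Multiplicative.ofAdd m = n := ⟨n.toAdd, rfl⟩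
  rw [chS_mul, chS_faceMap, chS_nat, chS_scalePt]
  split_ifs with h
  · rw [toAdd_ofAdd, (hχ _ n.2).2.2 h]
    simp
  · rw [zero_mul]

variable [AddGroup.FG M]

theorem fibres_connected (hN : N.FG) (hF : Magnet.IsFace N F) {ZN Z0 : Over S}
    (eN : (Magnet.attr a N).RepresentableBy ZN) (e0 : (Magnet.attr a F).RepresentableBy Z0) (j : ZN ⟶ Z0)
    (hj : ∀ (T : Over S) (z : T ⟶ ZN), e0.homEquiv (z ≫ j) = (Magnet.attrFace a hF).app (op T) (eN.homEquiv z)) :
    (∀ (K : Type u) [Field K] (k : Spec (CommRingCat.of K) ⟶ Z0.left),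
        ConnectedSpace ↥(Limits.pullback j.left k)) ∧
      Function.Bijective (Continuous.connectedComponentsMap (Scheme.Hom.continuous j.left)) := by
  obtain ⟨χ, hχ⟩ := exists_weight hF hN
  let sec : Z0 ⟶ ZN := eN.homEquiv.symm ((Magnet.attrMap a hF.le).app (op Z0) (e0.homEquiv (𝟙 Z0)))
  have hsecT : ∀ {T : Over S} (y : T ⟶ Z0),
      eN.homEquiv (y ≫ sec) = (Magnet.attrMap a hF.le).app (op T) (e0.homEquiv y) := fun {T} y => by
    rw [eN.homEquiv_comp, Equiv.apply_symm_apply, e0.homEquiv_eq y, NatTrans.naturality_apply]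
  have hsec : sec ≫ j = 𝟙 _ := e0.homEquiv.injective (by
    rw [hj, Equiv.apply_symm_apply]
    exact ConcreteCategory.congr_hom (NatTrans.congr_app (Magnet.attrMap_comp_attrFace a hF) (op Z0)) _)
  have hline : ∀ (κ : Type u) [Field κ] (x : Spec (CommRingCat.of κ) ⟶ ZN.left),
      ∃ L : Spec (CommRingCat.of (Polynomial κ)) ⟶ ZN.left, evL κ 1 ≫ L = x ∧ evL κ 0 ≫ L = x ≫ j.left ≫ sec.left ∧
        L ≫ j.left = prL κ ≫ x ≫ j.left := by
    intro κ _ x
    let T : Over S := Over.mk (x ≫ ZN.hom)
    let x' : T ⟶ ZN := Over.homMk x rfl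
    let T' : Over S := Over.mk (prL κ ≫ x ≫ ZN.hom)
    let pr : T' ⟶ T := Over.homMk (prL κ) rfl
    have hev : ∀ c, evL κ c ≫ T'.hom = T.hom := fun c => by
      show evL κ c ≫ prL κ ≫ x ≫ ZN.hom = x ≫ ZN.hom
      rw [← Category.assoc, evL_prL, Category.id_comp]
    let ev : κ → (T ⟶ T') := fun c => Over.homMk (evL κ c) (hev c)
    have hpr : ∀ c, ev c ≫ pr = 𝟙 T := fun c => Over.OverMorphism.ext (evL_prL κ c)
    let φ := eN.homEquiv x'
    let φ' := (Magnet.attr a N).map pr.op φ
    let cX : Γ(T'.left, ⊤) := gl (Polynomial.X : Polynomial κ)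
    let L : T' ⟶ ZN := eN.homEquiv.symm (homot χ hχ a φ' cX)
    have hcX : ∀ c : κ, (ev c).left.appTop cX = gl c := fun c => by
      have := ConcreteCategory.congr_hom (Scheme.ΓSpecIso_inv_naturality
        (CommRingCat.ofHom (Polynomial.evalRingHom c : Polynomial κ →+* κ))) (Polynomial.X : Polynomial κ)
      refine (this.symm).trans ?_
      show gl (Polynomial.eval c Polynomial.X) = gl c
      rw [Polynomial.eval_X]
    have hevL : ∀ c, eN.homEquiv (ev c ≫ L) = homot χ hχ a φ (gl c) := fun c => by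
      rw [eN.homEquiv_comp, Equiv.apply_symm_apply, ← homot_nat, hcX]
      congr 1
      rw [← Functor.map_comp_apply, ← op_comp, hpr, op_id]
      exact ConcreteCategory.congr_hom ((Magnet.attr a N).map_id (op T)) φ
    refine ⟨L.left, ?_, ?_, ?_⟩
    · refine congrArg (fun f => f.left) (?_ : ev 1 ≫ L = x')
      refine eN.homEquiv.injective ?_
      rw [hevL, show gl (1 : κ) = (1 : Γ(T.left, ⊤)) from map_one _, homot_one]
    · refine congrArg (fun f => f.left) (?_ : ev 0 ≫ L = x' ≫ j ≫ sec)
      refine eN.homEquiv.injective ?_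
      rw [hevL, show gl (0 : κ) = (0 : Γ(T.left, ⊤)) from map_zero _, homot_zero χ hχ a hF, ← Category.assoc x',
        hsecT, hj]
    · refine congrArg (fun f => f.left) (?_ : L ≫ j = pr ≫ x' ≫ j)
      refine e0.homEquiv.injective ?_
      rw [hj, Equiv.apply_symm_apply, attrFace_homot a χ hχ hF, e0.homEquiv_comp, hj, NatTrans.naturality_apply]
  exact ⟨fun K _ k => connectedSpace_fibre j.left sec.left (congrArg (fun f => f.left) hsec) hline K k,
    bijective_connectedComponentsMap j.left sec.left (congrArg (fun f => f.left) hsec) hline⟩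

end Groth.Agent.MagFace16
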