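import Groth.Agent.Lib.MagFace16.Weight
import Groth.Agent.Lib.MagFace16.Orbit
import Groth.Prelude.Def_Magnet4

/-! The homotopy between an attractor and the attractor of a face. -/

set_option autoImplicit false
set_option maxHeartbeats 200000
set_option linter.style.haveILetI false
set_option backward.isDefEq.respectTransparency.types false
universe u

open CategoryTheory MonoidalCategory CartesianMonoidalCategory MonObj AlgebraicGeometry Opposite

noncomputable section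

namespace Groth.Agent.MagFace16

open Groth.Agent.Magnet16 (chS chS_nat chS_mul chS_inj chS_surj chS_map chS_one chA)

variable {S : Scheme.{u}} {M : Type} [AddCommGroup M] {N F : AddSubmonoid M}

open Classical in
theorem chS_faceMap (hF : Magnet.IsFace N F) {T : Over S} (x : T ⟶ Magnet.AMonS S F) (n : N) :
    chS (x ≫ Magnet.AMonS.faceMap S hF) (Multiplicative.ofAdd n) =
      if h : (n : M) ∈ F then chS x (Multiplicative.ofAdd ⟨n, h⟩) else 0 := by
  classical
  rw [chS, Magnet16.abs, Magnet.AMonS.faceMap, Adjunction.homEquiv_naturality_right_symm]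
  show DiagGL.ev (A := MonoidAlgebra (ULift.{u} ℤ) (Multiplicative N))
    (Magnet16.abs x ≫ Magnet.AMon.faceMap (ULift.{u} ℤ) hF) _ = _
  rw [DiagGL.ev_comp, Magnet.AMon.faceMap, DiagGL.ev_pt]
  split_ifs with h
  · show ((Magnet16.abs x).left.appTop).hom _ =
      DiagGL.ev (A := MonoidAlgebra (ULift.{u} ℤ) (Multiplicative F)) (Magnet16.abs x) _
    simp [DiagGL.ev, DiagGL.lft, Magnet.faceAlgHom, Magnet.faceMonoidHom_apply_of_mem, h]
    try rfl
  · simp [Magnet.faceAlgHom, Magnet.faceMonoidHom_apply_of_not_mem, h]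
    exact map_zero _

variable (χ : M →+ ℤ) (hχ : ∀ n ∈ N, 0 ≤ χ n ∧ (χ n = 0 ↔ n ∈ F)) {T : Over S}

/-- The character `n ↦ c ^ χ n`. -/
def powChar (c : Γ(T.left, ⊤)) : Multiplicative N →* Γ(T.left, ⊤) where
  toFun n := c ^ (χ ((Multiplicative.toAdd n : N) : M)).toNat
  map_one' := by simp
  map_mul' a b := by
    rw [toAdd_mul, AddSubmonoid.coe_add, map_add,
      Int.toNat_add (hχ _ (Multiplicative.toAdd a).2).1 (hχ _ (Multiplicative.toAdd b).2).1, pow_add]

/-- The point of `A(N)` given by the scaling. -/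
def scalePt (c : Γ(T.left, ⊤)) : T ⟶ Magnet.AMonS S N := (chS_surj (powChar χ hχ c)).choose

theorem chS_scalePt (c : Γ(T.left, ⊤)) (n : Multiplicative N) :
    chS (scalePt χ hχ c) n = c ^ (χ ((Multiplicative.toAdd n : N) : M)).toNat :=
  DFunLike.congr_fun (chS_surj (powChar χ hχ c)).choose_spec n

theorem scalePt_nat {T' : Over S} (t : T' ⟶ T) (c : Γ(T.left, ⊤)) :
    t ≫ scalePt χ hχ c = scalePt χ hχ (t.left.appTop c) :=
  chS_inj fun n => by rw [chS_nat, chS_scalePt, chS_scalePt]; exact map_pow t.left.appTop.hom c _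

theorem scalePt_one : scalePt χ hχ (1 : Γ(T.left, ⊤)) = 1 :=
  chS_inj fun n => by rw [chS_scalePt, chS_one, one_pow]

/-- Multiplication by the scaling. -/
def scaleMul (c : Γ(T.left, ⊤)) : Magnet.AMonS S N ⊗ T ⟶ Magnet.AMonS S N ⊗ T :=
  lift (fst _ T * (snd (Magnet.AMonS S N) T ≫ scalePt χ hχ c)) (snd _ T)

theorem lift_scaleMul (c : Γ(T.left, ⊤)) {T' : Over S} (b : T' ⟶ Magnet.AMonS S N) (t : T' ⟶ T) :
    lift b t ≫ scaleMul χ hχ c = lift (b * (t ≫ scalePt χ hχ c)) t := by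
  rw [scaleMul, comp_lift, MonObj.comp_mul, lift_fst, lift_snd_assoc, lift_snd]

variable {X : Over S} (a : Magnet.MonAct (Magnet.AMonS S M) X)

theorem homot_mem (φ : (Magnet.attr a N).obj (op T)) (c : Γ(T.left, ⊤)) :
    ∀ (T' : Over S) (g : T' ⟶ Magnet.AMonS S M) (b : T' ⟶ Magnet.AMonS S N) (t : T' ⟶ T),
      lift (lift g b ≫ (Magnet.subAct S M N).act) t ≫ (scaleMul χ hχ c ≫ φ.1) =
        lift g (lift b t ≫ (scaleMul χ hχ c ≫ φ.1)) ≫ a.act := by
  intro T' g b t
  have h := (Magnet.MonAct.mem_eqvHom_iff φ.1).1 φ.2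
  have e : (lift g b ≫ (Magnet.subAct S M N).act) * (t ≫ scalePt χ hχ c) =
      lift g (b * (t ≫ scalePt χ hχ c)) ≫ (Magnet.subAct S M N).act := by
    rw [Magnet.subAct, Magnet.MonAct.lift_restrict_act, Magnet.MonAct.lift_regular_act,
      Magnet.MonAct.lift_restrict_act, Magnet.MonAct.lift_regular_act, _root_.mul_assoc]
  rw [← Category.assoc, lift_scaleMul χ hχ c, ← Category.assoc (lift b t), lift_scaleMul χ hχ c, ← h, e]

/-- The homotopy. -/
def homot (φ : (Magnet.attr a N).obj (op T)) (c : Γ(T.left, ⊤)) : (Magnet.attr a N).obj (op T) :=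
  ⟨scaleMul χ hχ c ≫ φ.1, (Magnet.MonAct.mem_eqvHom_iff _).2 (homot_mem χ hχ a φ c)⟩

theorem homot_nat {T' : Over S} (t : T' ⟶ T) (φ : (Magnet.attr a N).obj (op T)) (c : Γ(T.left, ⊤)) :
    homot χ hχ a ((Magnet.attr a N).map t.op φ) (t.left.appTop c) = (Magnet.attr a N).map t.op (homot χ hχ a φ c) := by
  refine Subtype.ext ?_
  show scaleMul χ hχ _ ≫ (_ ◁ t) ≫ φ.1 = (_ ◁ t) ≫ scaleMul χ hχ c ≫ φ.1
  rw [← Category.assoc, ← Category.assoc]
  congr 1
  apply Magnet.hom_ext_lift₂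
  intro T'' b s
  rw [reassoc_of% lift_scaleMul, lift_whiskerLeft, lift_whiskerLeft_assoc, lift_scaleMul, Category.assoc,
    scalePt_nat, ← scalePt_nat, ← scalePt_nat]

theorem homot_one (φ : (Magnet.attr a N).obj (op T)) : homot χ hχ a φ 1 = φ := by
  refine Subtype.ext ?_
  show scaleMul χ hχ (1 : Γ(T.left, ⊤)) ≫ φ.1 = φ.1
  rw [scaleMul, scalePt_one, MonObj.comp_one, _root_.mul_one, lift_fst_snd, Category.id_comp]

theorem homot_zero (hF : Magnet.IsFace N F) (φ : (Magnet.attr a N).obj (op T)) :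
    homot χ hχ a φ 0 = (Magnet.attrMap a hF.le).app (op T) ((Magnet.attrFace a hF).app (op T) φ) := by
  classical
  refine Subtype.ext ?_
  show scaleMul χ hχ (0 : Γ(T.left, ⊤)) ≫ φ.1 =
    (Magnet.AMonS.map S (AddSubmonoid.inclusion hF.le) ▷ T) ≫ (Magnet.AMonS.faceMap S hF ▷ T) ≫ φ.1
  rw [← comp_whiskerRight_assoc]
  congr 1
  apply Magnet.hom_ext_lift₂
  intro T' b t
  rw [lift_scaleMul, lift_whiskerRight, scalePt_nat]
  congr 1
  refine chS_inj fun n => ?_
  obtain ⟨n, rfl⟩ : ∃ m, Multiplicative.ofAdd m = n := ⟨n.toAdd, rfl⟩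
  rw [← Category.assoc, chS_faceMap, chS_mul, chS_scalePt, map_zero]
  split_ifs with h
  · rw [chS_map, toAdd_ofAdd, (hχ _ n.2).2.2 h]
    simp
    try rfl
  · rw [zero_pow, mul_zero]
    intro h0
    exact h ((hχ _ n.2).2.1 (le_antisymm (Int.toNat_eq_zero.1 h0) (hχ _ n.2).1))

theorem homot_face (hF : Magnet.IsFace N F) (y : (Magnet.attr a F).obj (op T)) (c : Γ(T.left, ⊤)) :
    homot χ hχ a ((Magnet.attrMap a hF.le).app (op T) y) c = (Magnet.attrMap a hF.le).app (op T) y := by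
  refine Subtype.ext ?_
  show scaleMul χ hχ c ≫ (Magnet.AMonS.map S (AddSubmonoid.inclusion hF.le) ▷ T) ≫ y.1 =
    (Magnet.AMonS.map S (AddSubmonoid.inclusion hF.le) ▷ T) ≫ y.1
  rw [← Category.assoc]
  congr 1
  apply Magnet.hom_ext_lift₂
  intro T' b t
  rw [reassoc_of% lift_scaleMul, lift_whiskerRight, lift_whiskerRight]
  congr 1
  refine chS_inj fun n => ?_
  obtain ⟨n, rfl⟩ : ∃ m, Multiplicative.ofAdd m = n := ⟨n.toAdd, rfl⟩
  rw [chS_map, chS_map, chS_mul, chS_nat, chS_scalePt]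
  have h0 : χ (n : M) = 0 := (hχ _ (hF.le n.2)).2.2 n.2
  simp [h0]

end Groth.Agent.MagFace16
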