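import Groth.Agent.Lib.MagFace16.OpenPull
import Groth.Agent.Lib.UnitsMag16.Open

/-! Attractors of stable open subschemes are open. -/

set_option autoImplicit false
set_option linter.style.haveILetI false
set_option backward.isDefEq.respectTransparency.types false
universe u

open CategoryTheory CategoryTheory.Limits MonoidalCategory CartesianMonoidalCategory MonObj AlgebraicGeometry
  Opposite

noncomputable section

namespace Groth.Agent.MagFace16

variable {S : Scheme.{u}} {M : Type} [AddCommGroup M] [AddGroup.FG M] {N : AddSubmonoid M} {X Y : Over S}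
  (aX : Magnet.MonAct (Magnet.AMonS S M) X) (aY : Magnet.MonAct (Magnet.AMonS S M) Y) (f : X ⟶ Y)
  [IsOpenImmersion f.left] (hf : Magnet.MonAct.IsEquivariant aX aY f)

include hf in
theorem stable_opensRange :
    (snd (Magnet.AMonS S M) Y).left ⁻¹ᵁ f.left.opensRange ≤ aY.act.left ⁻¹ᵁ f.left.opensRange := by
  intro p hp
  have hsq := ((AlgSt.isPullback_whiskerLeft (G := Magnet.AMonS S M) f).map (Over.forget S))
  obtain ⟨y, rfl⟩ : p ∈ Set.range (Magnet.AMonS S M ◁ f).left := UnitsMag16.mem_range_fst hsq p hp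
  exact ⟨aX.act.left y, congrArg (fun m => m.left y) hf⟩

variable {ZX ZY : Over S} (eX : (Magnet.attr aX N).RepresentableBy ZX) (eY : (Magnet.attr aY N).RepresentableBy ZY)
  (j : ZX ⟶ ZY) (hj : ∀ (T : Over S) (z : T ⟶ ZX),
    eY.homEquiv (z ≫ j) = (Magnet.MonAct.eqvHom.postcomp (Magnet.subAct S M N) f hf).app (op T) (eX.homEquiv z))

/-- The unit point of the unit face of a family. -/
abbrev unitPt {T : Over S} (φ : (Magnet.attr aY N).obj (op T)) : T ⟶ Y :=
  (Magnet.attrToX aY (Magnet.unitFace N)).app (op T)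
    ((Magnet.attrFace aY (Magnet.isFace_unitFace N)).app (op T) φ)

include hj in
theorem isOpenImmersion_postcomp : IsOpenImmersion j.left := by
  haveI : Mono f := (Over.forget _).mono_of_mono_map (show Mono f.left from inferInstance)
  let φY := eY.homEquiv (𝟙 ZY)
  let O : ZY.left.Opens := (unitPt aY φY).left ⁻¹ᵁ f.left.opensRange
  let ZO : Over S := Over.mk (O.ι ≫ ZY.hom)
  let ιO : ZO ⟶ ZY := Over.homMk O.ι rfl
  let φO := (Magnet.attr aY N).map ιO.op φY
  have hφO : φO = eY.homEquiv ιO := (eY.homEquiv_eq ιO).symm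
  have hmem : ∀ p, φO.1.left p ∈ f.left.opensRange := forall_mem_of_unitFace aY _ (stable_opensRange aX aY f hf) φO
    (fun t => by
      have hn : unitPt aY φO = ιO ≫ unitPt aY φY := by
        simp only [unitPt, φO]
        rw [NatTrans.naturality_apply, NatTrans.naturality_apply]
        rfl
      show (unitPt aY φO).left t ∈ _
      rw [hn]
      exact t.2)
  let ψ : Magnet.AMonS S N ⊗ ZO ⟶ X := Over.homMk (IsOpenImmersion.lift f.left φO.1.left (by
    rintro _ ⟨p, rfl⟩
    exact hmem p)) (by
    rw [← Over.w f, ← Category.assoc, IsOpenImmersion.lift_fac]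
    exact Over.w φO.1)
  have hψ : ψ ≫ f = φO.1 := Over.OverMorphism.ext (IsOpenImmersion.lift_fac _ _ _)
  have hψe : Magnet.MonAct.IsEquivariant ((Magnet.subAct S M N).prod (Magnet.MonAct.trivial _ ZO)) aX ψ := by
    unfold Magnet.MonAct.IsEquivariant
    rw [← cancel_mono f, Category.assoc, hψ, Category.assoc, hf, ← MonoidalCategory.whiskerLeft_comp_assoc, hψ]
    exact φO.2
  let s : ZO ⟶ ZX := eX.homEquiv.symm ⟨ψ, hψe⟩
  have hs : s ≫ j = ιO := eY.homEquiv.injective (by
    rw [hj, Equiv.apply_symm_apply, ← hφO]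
    exact Subtype.ext hψ)
  have hrange : ∀ z, j.left z ∈ O := by
    intro z
    show (unitPt aY φY).left (j.left z) ∈ f.left.opensRange
    rw [← Scheme.Hom.comp_apply, ← Over.comp_left]
    have e : j ≫ unitPt aY φY = unitPt aY
        ((Magnet.MonAct.eqvHom.postcomp (Magnet.subAct S M N) f hf).app (op ZX) (eX.homEquiv (𝟙 ZX))) := by
      rw [← hj, Category.id_comp, eY.homEquiv_eq]
      simp only [unitPt, φY]
      rw [NatTrans.naturality_apply, NatTrans.naturality_apply]
      rfl
    rw [e]
    show (lift (toUnit ZX ≫ η) (𝟙 ZX) ≫ (Magnet.AMonS.faceMap S (Magnet.isFace_unitFace N) ▷ ZX) ≫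
      (eX.homEquiv (𝟙 ZX)).1 ≫ f).left z ∈ f.left.opensRange
    rw [← Category.assoc, ← Category.assoc, Over.comp_left, Scheme.Hom.comp_apply]
    exact ⟨_, rfl⟩
  let l : ZX ⟶ ZO := Over.homMk (IsOpenImmersion.lift O.ι j.left (by
    rw [Scheme.Opens.range_ι]
    rintro _ ⟨z, rfl⟩
    exact hrange z)) (by
    show _ ≫ O.ι ≫ ZY.hom = _
    rw [← Category.assoc, IsOpenImmersion.lift_fac]
    exact Over.w j)
  have hl : l ≫ ιO = j := Over.OverMorphism.ext (IsOpenImmersion.lift_fac _ _ _)
  haveI : Mono ιO := (Over.forget _).mono_of_mono_map (show Mono O.ι from inferInstance)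
  have hjinj : ∀ {T : Over S} (z z' : T ⟶ ZX), z ≫ j = z' ≫ j → z = z' := fun z z' h => by
    have h' := congrArg eY.homEquiv h
    rw [hj, hj] at h'
    exact eX.homEquiv.injective (Subtype.ext ((cancel_mono f).1 (congrArg Subtype.val h')))
  haveI : IsIso l := ⟨s, hjinj _ _ (by rw [Category.assoc, hs, hl, Category.id_comp]),
    (cancel_mono ιO).1 (by rw [Category.assoc, hl, hs, Category.id_comp])⟩
  haveI : IsOpenImmersion ιO.left := inferInstanceAs (IsOpenImmersion O.ι)
  haveI : IsIso l.left := inferInstanceAs (IsIso ((Over.forget S).map l))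
  rw [← hl, Over.comp_left]
  infer_instance

end Groth.Agent.MagFace16
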