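import Groth.Agent.Lib.MagFace16.Chart
import Groth.Agent.Lib.Magnet16.Dense
import Groth.Agent.Lib.AlgColimH13.Spec
import Mathlib.AlgebraicGeometry.AffineTransitionLimit

/-! Equivariant families come from finite stages; face projection in coordinates. -/

set_option autoImplicit false
set_option linter.style.haveILetI false
set_option backward.isDefEq.respectTransparency.types false
universe u

open CategoryTheory CategoryTheory.Limits MonoidalCategory CartesianMonoidalCategory MonObj AlgebraicGeometry
  Opposite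

noncomputable section

namespace Groth.Agent.MagFace16

open Groth.Agent.Magnet16 (chS chS_nat chS_mul chS_inj chS_surj chS_map chA)

variable {S : Scheme.{u}} {R : Type u} [CommRing R] (str : Spec (CommRingCat.of R) ⟶ S)

/-- Morphisms to a scheme locally of finite presentation factor through finitely presented algebras. -/
theorem exists_fp_factor {X : Over S} [LocallyOfFinitePresentation X.hom] {C : Type u} [CommRing C] [Algebra R C]
    (y : spT str C ⟶ X) :
    ∃ (C₀ : Type u) (_ : CommRing C₀) (_ : Algebra R C₀) (_ : Algebra.FinitePresentation R C₀) (g : C₀ →ₐ[R] C)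
      (y₀ : spT str C₀ ⟶ X), spHom str g ≫ y₀ = y := by
  haveI := IsCofiltered.isConnected ((AlgColimH13.Idx R C)ᵒᵖ)
  let D := AlgColimH13.specDiag R C str ⋙ Over.forget S
  let t : D ⟶ (Functor.const _).obj S :=
    { app := fun i => ((AlgColimH13.specDiag R C str).obj i).hom
      naturality := fun i j φ => (Over.w ((AlgColimH13.specDiag R C str).map φ)).trans (Category.comp_id _).symm }
  haveI : ∀ i, IsAffine (D.obj i) := fun i => inferInstanceAs (IsAffine (Spec _))
  haveI : ∀ {i j} (φ : i ⟶ j), IsAffineHom (D.map φ) := fun φ => isAffineHom_of_isAffine (D.map φ)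
  obtain ⟨⟨i⟩, g, hg, hgw⟩ := Scheme.exists_π_app_comp_eq_of_locallyOfFinitePresentation D t X.hom
    ((Over.forget S).mapCone (AlgColimH13.specCone R C str))
    (isLimitOfPreserves (Over.forget S) (AlgColimH13.specIsLimit R C str)) y.left (by
      ext i
      exact (Over.w ((AlgColimH13.specCone R C str).π.app i)).trans (Over.w y).symm)
  exact ⟨i.Ring, inferInstance, inferInstance, inferInstance, i.toB, Over.homMk g hgw,
    Over.OverMorphism.ext hg⟩

/-- Morphisms to a separated scheme are determined on an injective extension. -/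
theorem hom_ext_spT {X : Over S} [IsSeparated X.hom] {C C' : Type u} [CommRing C] [Algebra R C] [CommRing C']
    [Algebra R C'] (g : C →ₐ[R] C') (hg : Function.Injective g) (a b : spT str C ⟶ X)
    (h : spHom str g ≫ a = spHom str g ≫ b) : a = b := by
  haveI : IsSchemeTheoreticallyDominant (spHom str g).left :=
    AlgSpace.schDom_SpecMap (CommRingCat.ofHom g.toRingHom) hg
  exact Over.OverMorphism.ext (Magnet16.eq_of_schDom_of_separated (spHom str g).left X.hom a.left b.left
    ((Over.w a).trans (Over.w b).symm) (congrArg (fun z => z.left) h))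

section Coords

variable {M : Type} [AddCommMonoid M] {N Q L : AddSubmonoid M}

theorem chS_faceMap {T : Over S} (hQ : Magnet.IsFace N Q) (x : T ⟶ Magnet.AMonS S Q) (n : N) :
    open Classical in
    chS (x ≫ Magnet.AMonS.faceMap S hQ) (Multiplicative.ofAdd n) =
      if h : (n : M) ∈ Q then chS x (Multiplicative.ofAdd (⟨n, h⟩ : Q)) else 0 := by
  classical
  rw [chS, Magnet16.abs, Magnet.AMonS.faceMap, Adjunction.homEquiv_naturality_right_symm]
  show DiagGL.ev (A := MonoidAlgebra (ULift.{u} ℤ) (Multiplicative N))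
    (Magnet16.abs x ≫ Magnet.AMon.faceMap (ULift.{u} ℤ) hQ) _ = _
  rw [DiagGL.ev_comp, Magnet.AMon.faceMap, DiagGL.ev_pt]
  show ((Magnet16.abs x).left.appTop).hom ((Scheme.ΓSpecIso _).inv.hom
    (Magnet.faceAlgHom (ULift.{u} ℤ) hQ (MonoidAlgebra.of _ _ (Multiplicative.ofAdd n)))) = _
  rw [MonoidAlgebra.of_apply]
  split_ifs with h
  · rw [Magnet.faceAlgHom_single_of_mem _ hQ n h]
    rfl
  · rw [Magnet.faceAlgHom_single_of_not_mem _ hQ n h]
    erw [map_zero, map_zero]

/-- The face projection of monoid algebras with coefficients in an algebra. -/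
theorem bpt_faceMap (hQ : Magnet.IsFace N Q) :
    bpt str R Q ≫ Magnet.AMonS.faceMap S hQ = spHom str (Magnet.faceAlgHom R hQ) ≫ bpt str R N := by
  classical
  refine chS_inj fun n => ?_
  obtain ⟨n, rfl⟩ : ∃ m, Multiplicative.ofAdd m = n := ⟨n.toAdd, rfl⟩
  rw [chS_faceMap, chS_nat, chS_bpt, appTop_gl, MonoidAlgebra.of_apply]
  split_ifs with h
  · rw [chS_bpt, Magnet.faceAlgHom_single_of_mem R hQ n h, MonoidAlgebra.of_apply]
  · rw [Magnet.faceAlgHom_single_of_not_mem R hQ n h]
    exact (map_zero _).symm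

theorem chart_faceMap (hQ : Magnet.IsFace N Q) :
    chart str R Q ≫ (Magnet.AMonS.faceMap S hQ ▷ spT str R) =
      spHom str (Magnet.faceAlgHom R hQ) ≫ chart str R N := by
  rw [chart, chart, lift_whiskerRight, bpt_faceMap, comp_lift, spHom_comp]
  congr 2
  exact congrArg (spHom str) (AlgHom.ext fun r => ((Magnet.faceAlgHom R hQ).commutes r).symm)

/-- The inclusion of monoid algebras. -/
def incA (h : N ≤ L) : MonoidAlgebra R (Multiplicative N) →ₐ[R] MonoidAlgebra R (Multiplicative L) :=
  MonoidAlgebra.mapDomainAlgHom R R (AddMonoidHom.toMultiplicative (AddSubmonoid.inclusion h))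

theorem incA_injective (h : N ≤ L) : Function.Injective (incA (R := R) h) :=
  MonoidAlgebra.mapDomain_injective (AddSubmonoid.inclusion_injective h)

theorem chart_map (h : N ≤ L) :
    chart str R L ≫ (Magnet.AMonS.map S (AddSubmonoid.inclusion h) ▷ spT str R) =
      spHom str (incA (R := R) h) ≫ chart str R N := by
  rw [chart, chart, lift_whiskerRight, comp_lift, spHom_comp]
  congr 1
  · refine chS_inj fun n => ?_
    obtain ⟨n, rfl⟩ : ∃ m, Multiplicative.ofAdd m = n := ⟨n.toAdd, rfl⟩
    rw [chS_map, chS_bpt, chS_nat, chS_bpt, appTop_gl]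
    refine congrArg gl ?_
    simp [incA]
  · exact congrArg (spHom str) (AlgHom.ext fun r => ((incA (R := R) h).commutes r).symm)

theorem theta_incA (h : N ≤ L) :
    (theta (R := R) L).comp (incA h) = (MonoidAlgebra.mapAlgHom (Multiplicative M) (incA h)).comp (theta N) := by
  refine MonoidAlgebra.algHom_ext (fun n => ?_) (Subsingleton.elim _ _)
  show theta (R := R) L (incA h (MonoidAlgebra.of R _ n)) =
    MonoidAlgebra.mapAlgHom (Multiplicative M) (incA h) (theta N (MonoidAlgebra.of R _ n))
  rw [show incA (R := R) h (MonoidAlgebra.of R _ n) =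
      MonoidAlgebra.of R _ (AddMonoidHom.toMultiplicative (AddSubmonoid.inclusion h) n) from by simp [incA],
    theta_of, theta_of, MonoidAlgebra.mapAlgHom_single]
  simp [incA]

end Coords

section Directed

variable {M : Type} [AddCommMonoid M] {X : Over S} (a : Magnet.MonAct (Magnet.AMonS S M) X)
  [IsSeparated X.hom] [LocallyOfFinitePresentation X.hom]

/-- An equivariant family over an affine base comes from a stage of a directed union. -/
theorem exists_stage_spT {J : Type} [Preorder J] [IsDirected J (· ≤ ·)] [Nonempty J] (Nf : J → AddSubmonoid M)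
    (hNf : Monotone Nf) (L : AddSubmonoid M) (hL : ∀ j, Nf j ≤ L) (hunion : ∀ x ∈ L, ∃ j, x ∈ Nf j)
    (φ : (Magnet.attr a L).obj (op (spT str R))) :
    ∃ (i : J) (ψ : (Magnet.attr a (Nf i)).obj (op (spT str R))),
      (Magnet.attrMap a (hL i)).app (op (spT str R)) ψ = φ := by
  classical
  obtain ⟨C₀, _, _, _, g, y₀, hg⟩ := exists_fp_factor str (chart str R L ≫ φ.1)
  obtain ⟨s, hs⟩ := (inferInstance : Algebra.FiniteType R C₀).out
  have hfin : ∀ F : Finset (Multiplicative L), ∃ j, ∀ x ∈ F, ((x.toAdd : L) : M) ∈ Nf j := by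
    intro F
    choose jf hjf using fun x : Multiplicative L => hunion _ x.toAdd.2
    obtain ⟨j, hj⟩ := Finset.exists_le (F.image jf)
    exact ⟨j, fun x hx => hNf (hj _ (Finset.mem_image_of_mem _ hx)) (hjf x)⟩
  obtain ⟨i, hi⟩ := hfin (s.biUnion fun c => (g c).coeff.support)
  have hrange : ∀ c, g c ∈ (incA (R := R) (hL i)).range := by
    intro c
    have hc : c ∈ Algebra.adjoin R (s : Set C₀) := hs ▸ Algebra.mem_top
    suffices h : Algebra.adjoin R (s : Set C₀) ≤ (incA (R := R) (hL i)).range.comap g from h hc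
    refine Algebra.adjoin_le fun d hd => ?_
    rw [SetLike.mem_coe, Subalgebra.mem_comap, ← MonoidAlgebra.sum_coeff_single (g d)]
    refine sum_mem fun n hn => ?_
    have hn' := hi n (Finset.mem_biUnion.2 ⟨d, hd, hn⟩)
    exact ⟨MonoidAlgebra.single (Multiplicative.ofAdd ⟨_, hn'⟩) _, by simp [incA]; rfl⟩
  let g' : C₀ →ₐ[R] MonoidAlgebra R (Multiplicative (Nf i)) :=
    (AlgEquiv.ofInjective _ (incA_injective (R := R) (hL i))).symm.toAlgHom.comp (g.codRestrict _ hrange)
  have hg' : (incA (hL i)).comp g' = g := by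
    refine AlgHom.ext fun c => ?_
    exact congrArg Subtype.val ((AlgEquiv.ofInjective _ (incA_injective (R := R) (hL i))).apply_symm_apply
      (g.codRestrict _ hrange c))
  let y₁ : spT str (MonoidAlgebra R (Multiplicative (Nf i))) ⟶ X := spHom str g' ≫ y₀
  have hy₁ : spHom str (incA (R := R) (hL i)) ≫ y₁ = chart str R L ≫ φ.1 := by
    rw [← Category.assoc, spHom_comp, hg', hg]
  have heq : Magnet.MonAct.IsEquivariant ((Magnet.subAct S M (Nf i)).prod (Magnet.MonAct.trivial _ (spT str R))) a
      (inv (chart str R (Nf i)) ≫ y₁) := by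
    apply isEquivariant_of_chart str (Nf i) a
    simp only [IsIso.hom_inv_id_assoc]
    refine hom_ext_spT str (MonoidAlgebra.mapAlgHom (Multiplicative M) (incA (R := R) (hL i))) ?_ _ _ ?_
    · intro x y hxy
      refine MonoidAlgebra.coeff_inj.1 (Finsupp.ext fun m => incA_injective (R := R) (hL i) ?_)
      have := congrArg (fun z => z.coeff m) hxy
      simpa [MonoidAlgebra.coeff_mapAlgHom] using this
    · have h1 := equivariant_chart str L a φ.2
      rw [← hy₁] at h1
      rw [← Category.assoc, spHom_comp, ← theta_incA, ← spHom_comp, Category.assoc, h1, comp_lift_assoc]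
      congr 2
      · refine chS_inj fun m => ?_
        rw [chS_bpt, chS_nat, chS_bpt, appTop_gl, MonoidAlgebra.of_apply, MonoidAlgebra.of_apply,
          MonoidAlgebra.mapAlgHom_single, map_one]
      · simp only [← Category.assoc]
        congr 1
        rw [spHom_comp, spHom_comp]
        congr 1
        refine AlgHom.ext fun c => ?_
        simp [MonoidAlgebra.coe_algebraMap]
  refine ⟨i, ⟨_, heq⟩, Subtype.ext ?_⟩
  show (Magnet.AMonS.map S (AddSubmonoid.inclusion (hL i)) ▷ spT str R) ≫ inv (chart str R (Nf i)) ≫ y₁ = φ.1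
  rw [← cancel_epi (chart str R L), ← Category.assoc, chart_map, Category.assoc, IsIso.hom_inv_id_assoc, hy₁]

omit [LocallyOfFinitePresentation X.hom] in
theorem attrMap_injective {N L : AddSubmonoid M} (h : N ≤ L) (T : Over S) :
    Function.Injective ((Magnet.attrMap a h).app (op T)) := fun φ ψ e =>
  Subtype.ext (Magnet16.hom_ext_of_injective (AddSubmonoid.inclusion h) (AddSubmonoid.inclusion_injective h) T X
    φ.1 ψ.1 (congrArg Subtype.val e))

end Directed

section Square

variable {M : Type} [AddCommMonoid M] {X : Over S} (a : Magnet.MonAct (Magnet.AMonS S M) X)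

/-- Inclusions of magnets commute with face projections. -/
theorem attrMap_attrFace {N Q N' Q' : AddSubmonoid M} (hQ : Magnet.IsFace N Q) (hQ' : Magnet.IsFace N' Q')
    (h : N' ≤ N) (h' : Q' ≤ Q) (hmeet : ∀ x ∈ N', x ∈ Q → x ∈ Q') :
    Magnet.attrMap a h ≫ Magnet.attrFace a hQ = Magnet.attrFace a hQ' ≫ Magnet.attrMap a h' := by
  ext T φ
  apply Subtype.ext
  show (Magnet.AMonS.faceMap S hQ ▷ unop T) ≫ (Magnet.AMonS.map S (AddSubmonoid.inclusion h) ▷ unop T) ≫ φ.1 =
    (Magnet.AMonS.map S (AddSubmonoid.inclusion h') ▷ unop T) ≫ (Magnet.AMonS.faceMap S hQ' ▷ unop T) ≫ φ.1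
  rw [← comp_whiskerRight_assoc, ← comp_whiskerRight_assoc]
  congr 2
  classical
  rw [← Category.id_comp (Magnet.AMonS.faceMap S hQ), ← Category.id_comp (Magnet.AMonS.map S (AddSubmonoid.inclusion h'))]
  generalize 𝟙 (Magnet.AMonS S Q) = x
  refine chS_inj fun n => ?_
  obtain ⟨n, rfl⟩ : ∃ m, Multiplicative.ofAdd m = n := ⟨n.toAdd, rfl⟩
  rw [chS_map, chS_faceMap, chS_faceMap]
  by_cases hn : (n : M) ∈ Q'
  · rw [dif_pos hn, dif_pos (show ((AddSubmonoid.inclusion h n : N) : M) ∈ Q from h' hn), chS_map]
    rfl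
  · rw [dif_neg hn, dif_neg (show ((AddSubmonoid.inclusion h n : N) : M) ∉ Q from fun hc => hn (hmeet _ n.2 hc))]

end Square

end Groth.Agent.MagFace16
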