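import Groth.Agent.Lib.MagFace16.Orbit
import Groth.Agent.Lib.IdealDesc12.Sheaf

/-! Attractors of relatively affine schemes are closed subschemes. -/

set_option autoImplicit false
set_option linter.style.haveILetI false
set_option backward.isDefEq.respectTransparency.types false
universe u

open CategoryTheory CategoryTheory.Limits MonoidalCategory CartesianMonoidalCategory MonObj AlgebraicGeometry
  Opposite

noncomputable section

namespace Groth.Agent.MagFace16

theorem le_ker_iff_comap {P Y : Scheme.{u}} (J : Y.IdealSheafData) (g : P ⟶ Y) :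
    J ≤ g.ker ↔ J.comap g = ⊥ := by
  rw [← Scheme.IdealSheafData.map_bot, Scheme.IdealSheafData.le_map_iff_comap_le, le_bot_iff]

theorem exists_factor_of_cover {P Y Z : Scheme.{u}} (z : Z ⟶ Y) [Mono z] (g : P ⟶ Y)
    (h : ∀ i, ∃ l : P.affineCover.X i ⟶ Z, l ≫ z = P.affineCover.f i ≫ g) : ∃ l : P ⟶ Z, l ≫ z = g := by
  choose l hl using h
  refine ⟨P.affineCover.glueMorphisms l (fun i j => ?_), P.affineCover.hom_ext _ _ fun i => ?_⟩
  · rw [← cancel_mono z, Category.assoc, Category.assoc, hl, hl, pullback.condition_assoc]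
  · rw [← Category.assoc, Scheme.Cover.ι_glueMorphisms, hl]

variable {S : Scheme.{u}} {R : Type u} [CommRing R] (str : Spec (CommRingCat.of R) ⟶ S) {M : Type} [AddCommMonoid M]
  (N : AddSubmonoid M) {X : Over S} (D : Model str X) (a : Magnet.MonAct (Magnet.AMonS S M) X)

/-- The ideal of the attractor in an affine chart. -/
def attrI : Ideal D.B :=
  Ideal.span {y | ∃ (b : D.B) (m : M), m ∉ N ∧ (rho str D a b).coeff (Multiplicative.ofAdd m) = y}

/-- The closed subscheme of the chart. -/
abbrev zI : spT str (D.B ⧸ attrI str N D a) ⟶ spT str D.B := spHom str (Ideal.Quotient.mkₐ R (attrI str N D a))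

instance isClosedImmersion_zI : IsClosedImmersion (zI str N D a).left :=
  IsClosedImmersion.spec_of_surjective _ Ideal.Quotient.mk_surjective

theorem attrI_le_iff {C : Type u} [CommRing C] [Algebra R C] (c : D.B →ₐ[R] C) :
    attrI str N D a ≤ RingHom.ker c ↔ InAttr a N (D.pt c) := by
  rw [inAttr_pt_iff str N D a c, attrI, Ideal.span_le]
  constructor
  · exact fun h b m hm => h ⟨b, m, hm, rfl⟩
  · rintro h _ ⟨b, m, hm, rfl⟩
    exact h b m hm

/-- The orbit condition on a chart. -/
theorem inAttr_chart_iff [IsSeparated X.hom] {T : Over S} (x₀ : T ⟶ spT str D.B) :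
    InAttr a N (x₀ ≫ D.e) ↔ (zI str N D a).left.ker ≤ x₀.left.ker := by
  constructor
  · intro h
    suffices ∀ i, ∃ l : T.left.affineCover.X i ⟶ _, l ≫ (zI str N D a).left = T.left.affineCover.f i ≫ x₀.left by
      obtain ⟨l, hl⟩ := exists_factor_of_cover _ _ this
      rw [← hl]
      exact Scheme.Hom.le_ker_comp _ _
    intro i
    obtain ⟨C₀, ⟨e⟩⟩ : ∃ C : CommRingCat.{u}, Nonempty (Spec C ≅ T.left.affineCover.X i) :=
      ⟨_, ⟨(T.left.affineCover.X i).isoSpec.symm⟩⟩
    obtain ⟨c₀, hc₀⟩ : ∃ c₀, Spec.map c₀ = e.hom ≫ T.left.affineCover.f i ≫ x₀.left := ⟨_, Spec.map_preimage _⟩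
    letI : Algebra R C₀ := (c₀.hom.comp (algebraMap R D.B)).toAlgebra
    let c : D.B →ₐ[R] C₀ := { c₀.hom with commutes' := fun r => rfl }
    let p : spT str C₀ ⟶ T := Over.homMk (e.hom ≫ T.left.affineCover.f i) (by
      rw [← Over.w x₀, ← Category.assoc, Category.assoc e.hom]
      erw [← hc₀]
      exact Over.w (spHom str c))
    have hp : p ≫ x₀ = spHom str c := Over.OverMorphism.ext ((Category.assoc _ _ _).trans hc₀.symm)
    have h1 := inAttr_comp a N p h
    rw [← Category.assoc, hp] at h1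
    have hle := (attrI_le_iff str N D a c).2 h1
    let q : D.B ⧸ attrI str N D a →ₐ[R] C₀ := Ideal.Quotient.liftₐ _ c fun y hy => hle hy
    have hq : q.comp (Ideal.Quotient.mkₐ R (attrI str N D a)) = c := AlgHom.ext fun _ => rfl
    refine ⟨e.inv ≫ (spHom str q).left, ?_⟩
    rw [Category.assoc, ← Over.comp_left, spHom_comp, hq, ← hp]
    show e.inv ≫ (e.hom ≫ T.left.affineCover.f i) ≫ x₀.left = _
    rw [Category.assoc, Iso.inv_hom_id_assoc]
  · intro h
    let w : T ⟶ spT str (D.B ⧸ attrI str N D a) :=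
      Over.homMk (IsClosedImmersion.lift (zI str N D a).left x₀.left h) (by
        rw [← Over.w (zI str N D a), ← Category.assoc, IsClosedImmersion.lift_fac]
        exact Over.w x₀)
    have hw : w ≫ zI str N D a = x₀ := Over.OverMorphism.ext (IsClosedImmersion.lift_fac _ _ _)
    rw [← hw, Category.assoc]
    exact inAttr_comp a N w ((attrI_le_iff str N D a _).1 fun y hy => Ideal.Quotient.eq_zero_iff_mem.2 hy)

/-- The closed subscheme representing the attractor. -/
theorem exists_closed (S : Scheme.{u}) {M : Type} [AddCommMonoid M] (N : AddSubmonoid M) (X : Over S)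
    [IsAffineHom X.hom] (a : Magnet.MonAct (Magnet.AMonS S M) X) :
    ∃ (Z : Over S) (i : Z ⟶ X) (e : (Magnet.attr a N).RepresentableBy Z), IsClosedImmersion i.left ∧
      ∀ (T : Over S) (z : T ⟶ Z), (Magnet.attrToX a N).app (op T) (e.homEquiv z) = z ≫ i := by
  classical
  let 𝒰 := S.affineCover
  have hR : ∀ i, ∃ R : CommRingCat.{u}, Nonempty (Spec R ≅ 𝒰.X i) := fun i => ⟨_, ⟨(𝒰.X i).isoSpec.symm⟩⟩
  choose R hRi using hR
  let st : ∀ i, Spec (CommRingCat.of (R i)) ⟶ S := fun i => (hRi i).some.hom ≫ 𝒰.f i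
  let D := fun i => model (st i) X
  let g : ∀ i, Spec (CommRingCat.of (D i).B) ⟶ X.left := fun i => (D i).e.left
  haveI hst : ∀ i, IsOpenImmersion (st i) := fun i => inferInstance
  haveI hgo : ∀ i, IsOpenImmersion (g i) := fun i => MorphismProperty.of_isPullback (P := @IsOpenImmersion) (D i).cart.flip (hst i)
  have hcov : ∀ x : X.left, ∃ i, x ∈ Set.range (g i) := by
    intro x
    obtain ⟨i, y, hy⟩ := 𝒰.exists_eq (X.hom x)
    refine ⟨i, ?_⟩
    show x ∈ Set.range (D i).e.left
    obtain ⟨q, hq⟩ : x ∈ Set.range (pullback.fst X.hom (st i)) := by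
      rw [Scheme.Pullback.range_fst]
      exact ⟨(hRi i).some.inv y, by
        show ((hRi i).some.inv ≫ (hRi i).some.hom ≫ 𝒰.f i) y = _
        rw [Iso.inv_hom_id_assoc]; exact hy⟩
    exact ⟨(D i).cart.isoPullback.inv q, by
      rw [← hq, ← (D i).cart.isoPullback_inv_fst]; rfl⟩
  let Iid : ∀ i, (Spec (CommRingCat.of (D i).B)).IdealSheafData := fun i => (zI (st i) N (D i) a).left.ker
  have hkey : ∀ i {T : Over S} (x₀ : T.left ⟶ Spec (CommRingCat.of (D i).B)) (x : T ⟶ X),
      x₀ ≫ g i = x.left → (InAttr a N x ↔ (Iid i).comap x₀ = ⊥) := by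
    intro i T x₀ x hx
    let y : T ⟶ spT (st i) (D i).B := Over.homMk x₀ (by
      rw [← Over.w (D i).e, ← Category.assoc]
      show (x₀ ≫ g i) ≫ X.hom = _
      rw [hx]
      exact Over.w x)
    have hy : x = y ≫ (D i).e := Over.OverMorphism.ext hx.symm
    rw [hy, inAttr_chart_iff (st i) N (D i) a y]
    exact le_ker_iff_comap _ _
  have hle : ∀ i j (K : (pullback (g i) (g j)).IdealSheafData),
      (Iid i).comap (pullback.fst (g i) (g j)) ≤ K ↔ (Iid j).comap (pullback.snd (g i) (g j)) ≤ K := by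
    intro i j K
    let T : Over S := Over.mk ((K.subschemeι ≫ pullback.fst (g i) (g j) ≫ g i) ≫ X.hom)
    let x : T ⟶ X := Over.homMk (K.subschemeι ≫ pullback.fst (g i) (g j) ≫ g i) rfl
    have h1 := hkey i (T := T) (K.subschemeι ≫ pullback.fst (g i) (g j)) x (Category.assoc _ _ _)
    have h2 := hkey j (T := T) (K.subschemeι ≫ pullback.snd (g i) (g j)) x (by
      rw [Category.assoc, ← pullback.condition]; rfl)
    rw [Scheme.IdealSheafData.comap_comp, ← le_ker_iff_comap, Scheme.IdealSheafData.ker_subschemeι] at h1 h2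
    exact h1.symm.trans h2
  have hagree : ∀ i j, (Iid i).comap (pullback.fst (g i) (g j)) = (Iid j).comap (pullback.snd (g i) (g j)) :=
    fun i j => le_antisymm ((hle i j _).2 le_rfl) ((hle i j _).1 le_rfl)
  have hg : Presieve.ofArrows (fun i => Spec (CommRingCat.of (D i).B)) g ∈ Scheme.zariskiPrecoverage X.left :=
    (Scheme.ofArrows_mem_precoverage_iff _).2 ⟨hcov, hgo⟩
  obtain ⟨J, hJ, -⟩ := IdealDesc12.existsUnique_of_fpqc g Iid hagree
    (Scheme.zariskiPrecoverage_le_fpqcPrecoverage _ hg)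
  have hfix : ∀ {T : Over S} (x : T ⟶ X), InAttr a N x ↔ J ≤ x.left.ker := by
    intro T x
    rw [le_ker_iff_comap]
    let Y := fun i => pullback x.left (g i)
    let pr : ∀ i, Y i ⟶ T.left := fun i => pullback.fst x.left (g i)
    have hprc : ∀ t : T.left, ∃ i, t ∈ Set.range (pr i) := by
      intro t
      obtain ⟨i, hi⟩ := hcov (x.left t)
      exact ⟨i, by rw [show Set.range (pr i) = x.left ⁻¹' Set.range (g i) from Scheme.Pullback.range_fst _ _]; exact hi⟩
    have hpr : Presieve.ofArrows Y pr ∈ Scheme.zariskiPrecoverage T.left :=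
      (Scheme.ofArrows_mem_precoverage_iff _).2 ⟨hprc, fun i => MorphismProperty.pullback_fst _ _ (hgo i)⟩
    have hcomp : ∀ i {W : Over S} (f : W ⟶ T) (l : W.left ⟶ Y i), l ≫ pr i = f.left →
        (InAttr a N (f ≫ x) ↔ ((J.comap x.left).comap (pr i)).comap l = ⊥) := by
      intro i W f l hl
      rw [hkey i (l ≫ pullback.snd x.left (g i)) (f ≫ x) (by
        rw [Category.assoc, ← pullback.condition, reassoc_of% hl]; rfl), ← hJ i]
      simp only [pr, ← Scheme.IdealSheafData.comap_comp, Category.assoc, pullback.condition]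
    constructor
    · intro hx
      refine (IdealDesc12.existsUnique_of_fpqc pr (fun i => (J.comap x.left).comap (pr i)) (fun i j => by
          simp only [← Scheme.IdealSheafData.comap_comp]
          rw [pullback.condition_assoc])
          (Scheme.zariskiPrecoverage_le_fpqcPrecoverage _ hpr)).unique (fun i => rfl) fun i => ?_
      let W : Over S := Over.mk (pr i ≫ T.hom)
      have h1 := (hcomp i (W := W) (Over.homMk (pr i)) (𝟙 _) (Category.id_comp _)).1 (inAttr_comp a N _ hx)
      rw [Scheme.IdealSheafData.comap_id] at h1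
      rw [Scheme.IdealSheafData.comap_bot]
      exact h1.symm
    · intro hx
      refine inAttr_of_cover a N (covSieve_mem pr hpr) x fun W f ⟨i, l, hl⟩ => ?_
      rw [hcomp i f l hl, hx, Scheme.IdealSheafData.comap_bot, Scheme.IdealSheafData.comap_bot]
  let W : Over S := Over.mk (J.subschemeι ≫ X.hom)
  let i : W ⟶ X := Over.homMk J.subschemeι rfl
  have hker : i.left.ker = J := J.ker_subschemeι
  haveI : IsClosedImmersion i.left := inferInstanceAs (IsClosedImmersion J.subschemeι)
  haveI : Mono i := by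
    refine ⟨fun {Z} g h hgh => Over.OverMorphism.ext ?_⟩
    exact (cancel_mono i.left).1 (congrArg CommaMorphism.left hgh)
  choose fwd hfwd using fun (T : Over S) (w : T ⟶ W) =>
    exists_of_inAttr a N ((hfix (w ≫ i)).2 (hker ▸ Scheme.Hom.le_ker_comp w.left i.left))
  have hbij : ∀ T : Over S, Function.Bijective (fwd T) := by
    intro T
    refine ⟨fun w w' hww => (cancel_mono i).1 (by rw [← hfwd T w, ← hfwd T w', hww]), fun φ => ?_⟩
    have hx : i.left.ker ≤ ((Magnet.attrToX a N).app (op T) φ).left.ker :=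
      hker.symm ▸ (hfix _).1 (eval_inAttr a N φ)
    refine ⟨Over.homMk (IsClosedImmersion.lift i.left _ hx) ?_, attrToX_injective a N T ?_⟩
    · rw [← Over.w i, ← Category.assoc, IsClosedImmersion.lift_fac]
      exact Over.w _
    · rw [hfwd]
      exact Over.OverMorphism.ext (IsClosedImmersion.lift_fac _ _ _)
  refine ⟨W, i, ⟨fun {T} => Equiv.ofBijective _ (hbij T), fun {T T'} t w => attrToX_injective a N _ ?_⟩,
    inferInstance, fun T w => hfwd T w⟩
  show (Magnet.attrToX a N).app _ (fwd _ (t ≫ w)) = (Magnet.attrToX a N).app _ ((Magnet.attr a N).map t.op (fwd _ w))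
  rw [hfwd, NatTrans.naturality_apply, hfwd]
  exact Category.assoc _ _ _

end Groth.Agent.MagFace16
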