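import Groth.Agent.Lib.MagFace16.Orbit
import Groth.Agent.Lib.Magnet16.Formal
import Mathlib.RingTheory.Flat.FaithfullyFlat.Algebra
import Mathlib.AlgebraicGeometry.EffectiveEpi
import Mathlib.AlgebraicGeometry.Morphisms.Flat

/-! Attractors of subgroups are fixed points. -/

set_option autoImplicit false
set_option linter.style.haveILetI false
set_option backward.isDefEq.respectTransparency.types false
universe u

open CategoryTheory CategoryTheory.Limits MonoidalCategory CartesianMonoidalCategory MonObj AlgebraicGeometry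
  Opposite

noncomputable section

namespace Groth.Agent.MagFace16

open Groth.Agent.Magnet16 (chS chS_nat chS_mul chS_inj chS_surj chS_map chS_one invPt invPt_mul chS_invPt)

/-- The monoid algebra of a group is faithfully flat over that of a subgroup. -/
theorem faithfullyFlat_jC {M : Type} [AddCommGroup M] (Z : AddSubgroup M) {C : Type u} [CommRing C]
    (N : AddSubmonoid M) (hN : Z.toAddSubmonoid = N) :
    (MonoidAlgebra.mapDomainAlgHom C C (AddMonoidHom.toMultiplicative N.subtype)).toRingHom.FaithfullyFlat := by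
  classical
  subst hN
  let j := MonoidAlgebra.mapDomainAlgHom C C (AddMonoidHom.toMultiplicative Z.toAddSubmonoid.subtype)
  let k := MonoidAlgebra C (Multiplicative Z.toAddSubmonoid)
  letI : Algebra k (MonoidAlgebra C (Multiplicative M)) := j.toRingHom.toAlgebra
  show Module.FaithfullyFlat k (MonoidAlgebra C (Multiplicative M))
  let σ : M ⧸ Z → M := Quotient.out
  have hσ : ∀ q, (QuotientAddGroup.mk (σ q) : M ⧸ Z) = q := fun q => Quotient.out_eq q
  let e : (M ⧸ Z →₀ k) →ₗ[k] MonoidAlgebra C (Multiplicative M) :=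
    Finsupp.linearCombination k fun q => MonoidAlgebra.single (Multiplicative.ofAdd (σ q)) 1
  have hcoeff : ∀ (g : k) (q q' : M ⧸ Z) (z : Z.toAddSubmonoid),
      (g • MonoidAlgebra.single (Multiplicative.ofAdd (σ q)) (1 : C)).coeff (Multiplicative.ofAdd ((z : M) + σ q')) =
        if q = q' then g.coeff (Multiplicative.ofAdd z) else 0 := by
    intro g q q' z
    show (j g * _).coeff _ = _
    induction g using MonoidAlgebra.induction_linear with
    | zero => simp
    | add a b ha hb =>
      rw [map_add, add_mul, MonoidAlgebra.coeff_add, Finsupp.add_apply, ha, hb]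
      split_ifs <;> simp
    | single w c =>
      rw [show j (MonoidAlgebra.single w c) = MonoidAlgebra.single (Multiplicative.ofAdd ((w.toAdd : Z.toAddSubmonoid) : M)) c from
        MonoidAlgebra.mapDomain_single, MonoidAlgebra.single_mul_single, _root_.mul_one, ← ofAdd_add,
        MonoidAlgebra.coeff_single, Finsupp.single_apply]
      by_cases hq : q = q'
      · subst hq
        rw [if_pos rfl, MonoidAlgebra.coeff_single, Finsupp.single_apply]
        refine if_congr ?_ rfl rfl
        constructor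
        · intro h
          exact Multiplicative.toAdd.injective (Subtype.ext (add_right_cancel (Multiplicative.ofAdd.injective h)))
        · rintro rfl
          rfl
      · rw [if_neg hq, if_neg]
        intro h
        have h' := congrArg (QuotientAddGroup.mk' Z) (Multiplicative.ofAdd.injective h)
        rw [map_add, map_add, show QuotientAddGroup.mk' Z (w.toAdd : M) = 0 from
          (QuotientAddGroup.eq_zero_iff _).2 w.toAdd.2, show QuotientAddGroup.mk' Z (z : M) = 0 from
          (QuotientAddGroup.eq_zero_iff _).2 z.2, zero_add, zero_add] at h'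
        exact hq (((hσ q).symm.trans h').trans (hσ q'))
  have hinj : Function.Injective e := by
    rw [injective_iff_map_eq_zero]
    intro v hv
    refine Finsupp.ext fun q => MonoidAlgebra.coeff_inj.1 (Finsupp.ext fun z => ?_)
    obtain ⟨z, rfl⟩ : ∃ z', Multiplicative.ofAdd z' = z := ⟨z.toAdd, rfl⟩
    have h := congrArg (fun y => y.coeff (Multiplicative.ofAdd ((z : M) + σ q))) hv
    simp only [e, Finsupp.linearCombination_apply, Finsupp.sum, MonoidAlgebra.coeff_sum, Finsupp.finsetSum_apply,
      hcoeff, MonoidAlgebra.coeff_zero, Finsupp.zero_apply, Finset.sum_ite_eq'] at h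
    by_cases hq : q ∈ v.support
    · simpa [hq] using h
    · simp [Finsupp.notMem_support_iff.1 hq]
  have hsurj : Function.Surjective e := by
    intro f
    induction f using MonoidAlgebra.induction_linear with
    | zero => exact ⟨0, map_zero _⟩
    | add a b ha hb =>
      obtain ⟨a', rfl⟩ := ha
      obtain ⟨b', rfl⟩ := hb
      exact ⟨a' + b', map_add _ _ _⟩
    | single m c =>
      let q : M ⧸ Z := QuotientAddGroup.mk m.toAdd
      have hz : m.toAdd - σ q ∈ Z := (QuotientAddGroup.eq_iff_sub_mem).1 (hσ q).symm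
      refine ⟨Finsupp.single q (MonoidAlgebra.single (Multiplicative.ofAdd (⟨_, hz⟩ : Z.toAddSubmonoid)) c), ?_⟩
      simp only [e, Finsupp.linearCombination_single]
      show j _ * _ = _
      rw [show j (MonoidAlgebra.single (Multiplicative.ofAdd (⟨_, hz⟩ : Z.toAddSubmonoid)) c) =
        MonoidAlgebra.single (Multiplicative.ofAdd (m.toAdd - σ q)) c from MonoidAlgebra.mapDomain_single,
        MonoidAlgebra.single_mul_single, _root_.mul_one, ← ofAdd_add, sub_add_cancel, ofAdd_toAdd]
  exact Module.FaithfullyFlat.of_linearEquiv k (M ⧸ Z →₀ k) (LinearEquiv.ofBijective e ⟨hinj, hsurj⟩).symm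

variable {S : Scheme.{u}} {M : Type} [AddCommGroup M] (Z : AddSubgroup M) (N : AddSubmonoid M)
  (hN : Z.toAddSubmonoid = N)

include hN in
theorem flat_surjective_jC {R : Type u} [CommRing R] (str : Spec (CommRingCat.of R) ⟶ S) :
    Flat (spHom str (jC (R := R) N R)).left ∧ Surjective (spHom str (jC (R := R) N R)).left := by
  obtain ⟨h₁, h₂⟩ := (RingHom.FaithfullyFlat.iff_flat_and_comap_surjective
    (f := (jC (R := R) N R).toRingHom)).1 (faithfullyFlat_jC Z N hN)
  exact ⟨(Flat.SpecMap_iff (f := CommRingCat.ofHom (jC (R := R) N R).toRingHom)).2 h₁, ⟨h₂⟩⟩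

include hN in
/-- Families over `A(Z)` are determined on `A(M)` for a subgroup `Z`. -/
theorem det_subgroup (X : Over S) : Det X N := by
  intro T p q h
  haveI : (QuotSh.J Scheme.fppfPrecoverage.{u} S).Subcanonical :=
    inferInstanceAs ((Scheme.fppfTopology.over S).Subcanonical)
  have hX : Presieve.IsSheaf (QuotSh.J Scheme.fppfPrecoverage.{u} S) (yoneda.obj X) :=
    GrothendieckTopology.Subcanonical.isSheaf_of_isRepresentable (yoneda.obj X)
  refine (hX _ ((QuotSh.J Scheme.fppfPrecoverage.{u} S).pullback_stable (snd (Magnet.AMonS S N) T)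
    (affSieve_mem T))).isSeparatedFor.ext fun W f hf => ?_
  obtain ⟨R, str, r, t, ht⟩ := affSieve_factor (T := T) (f := f ≫ snd _ _) hf
  show f ≫ p = f ≫ q
  have key : (Magnet.AMonS S N ◁ r) ≫ p = (Magnet.AMonS S N ◁ r) ≫ q := by
    obtain ⟨_, _⟩ := flat_surjective_jC Z N hN str
    haveI : Epi (spHom str (jC (R := R) N R)).left := Flat.epi_of_flat_of_surjective _
    have e : spHom str (jC (R := R) N R) ≫ chart str R N ≫ (Magnet.AMonS S N ◁ r) ≫ p =
        spHom str (jC (R := R) N R) ≫ chart str R N ≫ (Magnet.AMonS S N ◁ r) ≫ q := by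
      simp only [← reassoc_of% (chart_inc str N R), ← whisker_exchange_assoc, h]
    refine (cancel_epi (chart str R N)).1 (Over.OverMorphism.ext ?_)
    exact (cancel_epi (spHom str (jC (R := R) N R)).left).1 (congrArg (fun z => z.left) e)
  have hf' : f = lift (f ≫ fst _ _) t ≫ (Magnet.AMonS S N ◁ r) := by
    rw [lift_whiskerLeft, ht, ← comp_lift, lift_fst_snd, Category.comp_id]
  rw [hf', Category.assoc, Category.assoc, key]

variable {X : Over S} (a : Magnet.MonAct (Magnet.AMonS S M) X)

/-- The action of the quotient group. -/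
abbrev resQ : Magnet.MonAct (Magnet.AMonS S (M ⧸ Z)) X :=
  a.restrict (Magnet.AMonS.map S (QuotientAddGroup.mk' Z))

/-- Being fixed by the quotient group. -/
def IsFix {T : Over S} (x : T ⟶ X) : Prop :=
  ∀ (T' : Over S) (t : T' ⟶ T) (g : T' ⟶ Magnet.AMonS S (M ⧸ Z)), lift g (t ≫ x) ≫ (resQ Z a).act = t ≫ x

include hN in
theorem isFix_of_inAttr {T : Over S} {x : T ⟶ X} (h : InAttr a N x) : IsFix Z a x := by
  intro T' t g
  obtain ⟨ψ, hψ⟩ := h
  rw [Magnet.MonAct.lift_restrict_act, ← lift_orb a x, ← hψ, lift_whiskerRight_assoc]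
  have e : (g ≫ Magnet.AMonS.map S (QuotientAddGroup.mk' Z)) ≫ Magnet.AMonS.map S N.subtype =
      (1 : T' ⟶ Magnet.AMonS S M) ≫ Magnet.AMonS.map S N.subtype := by
    refine chS_inj fun n => ?_
    obtain ⟨n, rfl⟩ : ∃ m, Multiplicative.ofAdd m = n := ⟨n.toAdd, rfl⟩
    rw [chS_map, chS_map, chS_map, chS_one]
    rw [show QuotientAddGroup.mk' Z (N.subtype n) = 0 from
      (QuotientAddGroup.eq_zero_iff _).2 (show (n : M) ∈ Z.toAddSubmonoid from hN.symm ▸ n.2)]
    exact map_one _
  rw [e, ← lift_whiskerRight_assoc, hψ, lift_orb, a.lift_one_act]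

include hN in
theorem inAttr_of_isFix {T : Over S} {x : T ⟶ X} (h : IsFix Z a x) : InAttr a N x := by
  refine inAttr_of_cover' a N (det_subgroup Z N hN X) (affSieve_mem T) x fun W g hg => ?_
  obtain ⟨R, str, p, t, rfl⟩ := affSieve_factor hg
  rw [Category.assoc]
  refine inAttr_comp a N t ?_
  let j := spHom str (jC (R := R) N R)
  obtain ⟨_, _⟩ := flat_surjective_jC Z N hN str
  let Y : spT str (MonoidAlgebra R (Multiplicative M)) ⟶ X := chart str R M ≫ orb a (p ≫ x)
  have hY : ∀ {W : Scheme.{u}} (g₁ g₂ : W ⟶ (spT str (MonoidAlgebra R (Multiplicative M))).left),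
      g₁ ≫ j.left = g₂ ≫ j.left → g₁ ≫ Y.left = g₂ ≫ Y.left := by
    intro W g₁ g₂ hg
    let P : Over S := Over.mk (g₁ ≫ (spT str (MonoidAlgebra R (Multiplicative M))).hom)
    let G₁ : P ⟶ spT str (MonoidAlgebra R (Multiplicative M)) := Over.homMk g₁ rfl
    let G₂ : P ⟶ spT str (MonoidAlgebra R (Multiplicative M)) := Over.homMk g₂ (by
      show g₂ ≫ _ = g₁ ≫ _
      rw [← Over.w j, reassoc_of% hg])
    have hG : G₁ ≫ j = G₂ ≫ j := Over.OverMorphism.ext hg
    have hG' : (G₁ ≫ chart str R M) ≫ (Magnet.AMonS.map S N.subtype ▷ spT str R) =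
        (G₂ ≫ chart str R M) ≫ (Magnet.AMonS.map S N.subtype ▷ spT str R) := by
      simp only [Category.assoc, chart_inc, reassoc_of% hG, j]
    let m₁ := G₁ ≫ chart str R M ≫ fst _ _
    let m₂ := G₂ ≫ chart str R M ≫ fst _ _
    let t₁ := G₁ ≫ chart str R M ≫ snd _ _
    have ht : G₂ ≫ chart str R M ≫ snd _ _ = t₁ := by
      have := congrArg (fun z => z ≫ snd _ _) hG'
      simpa [t₁] using this.symm
    have hm : m₁ ≫ Magnet.AMonS.map S N.subtype = m₂ ≫ Magnet.AMonS.map S N.subtype := by
      have := congrArg (fun z => z ≫ fst _ _) hG'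
      simpa [m₁, m₂] using this
    let d := invPt m₂ * m₁
    let c : Multiplicative M →* Γ(P.left, ⊤) := chS d
    have hc : Z.toSubgroup.toSubmonoid ≤ MonoidHom.mker c := by
      intro z hz
      obtain ⟨z, rfl⟩ : ∃ z', Multiplicative.ofAdd z' = z := ⟨z.toAdd, rfl⟩
      show chS d _ = 1
      rw [chS_mul, chS_invPt]
      have h' := congrArg (fun y => chS y (Multiplicative.ofAdd (⟨z, hN ▸ hz⟩ : N))) hm
      simp only [chS_map] at h'
      rw [show (N.subtype (⟨z, hN ▸ hz⟩ : N) : M) = z from rfl] at h'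
      rw [h', ← map_mul, inv_mul_cancel, map_one]
    obtain ⟨g, hgd⟩ : ∃ g : P ⟶ Magnet.AMonS S (M ⧸ Z), g ≫ Magnet.AMonS.map S (QuotientAddGroup.mk' Z) = d := by
      let c' : M ⧸ Z →+ Additive Γ(P.left, ⊤) := QuotientAddGroup.lift Z (MonoidHom.toAdditiveRight c)
        fun z hz => hc (show Multiplicative.ofAdd z ∈ Z.toSubgroup.toSubmonoid from hz)
      obtain ⟨g, hg⟩ := chS_surj (T := P) (AddMonoidHom.toMultiplicativeLeft c')
      refine ⟨g, chS_inj fun m => ?_⟩
      obtain ⟨m, rfl⟩ : ∃ m', Multiplicative.ofAdd m' = m := ⟨m.toAdd, rfl⟩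
      rw [chS_map, hg]
      rfl
    have hfix := h P (t₁ ≫ p) g
    rw [Magnet.MonAct.lift_restrict_act, hgd, Category.assoc] at hfix
    have key : G₁ ≫ Y = G₂ ≫ Y := by
      have e₁ : G₁ ≫ Y = lift m₁ (t₁ ≫ p ≫ x) ≫ a.act := by
        rw [← lift_orb a (p ≫ x) m₁ t₁]
        simp only [Y, m₁, t₁, ← comp_lift, lift_fst_snd, Category.comp_id, Category.assoc]
      have e₂ : G₂ ≫ Y = lift m₂ (t₁ ≫ p ≫ x) ≫ a.act := by
        rw [← lift_orb a (p ≫ x) m₂ t₁, ← ht]
        simp only [Y, m₂, ← comp_lift, lift_fst_snd, Category.comp_id, Category.assoc]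
      rw [e₁, e₂]
      conv_rhs => rw [← hfix, ← a.lift_mul_act]
      congr 2
      refine chS_inj fun n => ?_
      rw [chS_mul, chS_mul, chS_invPt, ← _root_.mul_assoc, ← map_mul, mul_inv_cancel, map_one, _root_.one_mul]
    exact congrArg (fun z => z.left) key
  haveI : QuasiCompact j.left := inferInstance
  let l : (spT str (MonoidAlgebra R (Multiplicative N))).left ⟶ X.left :=
    EffectiveEpi.desc j.left Y.left fun g₁ g₂ hg => hY g₁ g₂ hg
  have hl : j.left ≫ l = Y.left := EffectiveEpi.fac j.left Y.left _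
  haveI : Epi j.left := Flat.epi_of_flat_of_surjective _
  let L : spT str (MonoidAlgebra R (Multiplicative N)) ⟶ X := Over.homMk l (by
    rw [← cancel_epi j.left, ← Category.assoc, hl, Over.w Y, Over.w j])
  refine ⟨inv (chart str R N) ≫ L, ?_⟩
  rw [← cancel_epi (chart str R M), ← Category.assoc, chart_inc, Category.assoc, IsIso.hom_inv_id_assoc]
  exact Over.OverMorphism.ext hl

end Groth.Agent.MagFace16
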