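import Groth.Agent.Lib.MagFace16.Rep
import Groth.Agent.S18302
import Groth.Agent.S18304
import Groth.Prelude.Def_Magnet4
import Mathlib.AlgebraicGeometry.Morphisms.Etale

/-! Magnets with the same attractor in a strongly FPR atlas have the same attractor. -/

set_option autoImplicit false
set_option linter.style.haveILetI false
set_option backward.isDefEq.respectTransparency.types false
universe u

open CategoryTheory CategoryTheory.Limits MonoidalCategory CartesianMonoidalCategory MonObj AlgebraicGeometry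
  Opposite

noncomputable section

namespace Groth.Agent.MagFace16

variable {S : Scheme.{u}} {M : Type} [AddCommGroup M]

/-- The invertible elements of a magnet. -/
def unitGrp (N : AddSubmonoid M) : AddSubgroup M :=
  { Magnet.unitFace N with
    neg_mem' := by
      rintro x ⟨hx, y, hy, hxy⟩
      have e : -x = y := neg_eq_of_add_eq_zero_right hxy
      exact ⟨e.symm ▸ hy, x, hx, by rw [neg_add_cancel]⟩ }

theorem attrToX_attrMap {X : Over S} (a : Magnet.MonAct (Magnet.AMonS S M) X) {N L : AddSubmonoid M}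
    (h : N ≤ L) (T : Over S) (φ : (Magnet.attr a N).obj (op T)) :
    (Magnet.attrToX a L).app (op T) ((Magnet.attrMap a h).app (op T) φ) = (Magnet.attrToX a N).app (op T) φ := by
  show lift (toUnit T ≫ η[Magnet.AMonS S L]) (𝟙 T) ≫ (Magnet.AMonS.map S (AddSubmonoid.inclusion h) ▷ T) ≫ φ.1 =
    lift (toUnit T ≫ η[Magnet.AMonS S N]) (𝟙 T) ≫ φ.1
  rw [lift_whiskerRight_assoc, Category.assoc, IsMonHom.one_hom]

theorem unitGrp_eq (N : AddSubmonoid M) : (unitGrp N).toAddSubmonoid = Magnet.unitFace N := rfl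

variable [AddGroup.FG M] {X : Over S} [IsSeparated X.hom] [LocallyOfFinitePresentation X.hom]
  (a : Magnet.MonAct (Magnet.AMonS S M) X) (U : Over S) [IsAffineHom U.hom]
  (aU : Magnet.MonAct (Magnet.AMonS S M) U) (g : U ⟶ X) (hg : Magnet.MonAct.IsEquivariant aU a g)
  [Etale g.left] [Surjective g.left]

include hg in
theorem inAttr_of_atlas₁ (N L : AddSubmonoid M) (Z : AddSubgroup M) (hZ : Z.toAddSubmonoid = Magnet.unitFace N)
    (hgZ : Magnet.MonAct.IsEquivariant (aU.restrict (Magnet.AMonS.map S (QuotientAddGroup.mk' Z)))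
      (a.restrict (Magnet.AMonS.map S (QuotientAddGroup.mk' Z))) g)
    (hfpr : IsPullback (Magnet.MonAct.fixedPsh.map g hgZ)
      (Magnet.MonAct.fixedPshι (aU.restrict (Magnet.AMonS.map S (QuotientAddGroup.mk' Z))))
      (Magnet.MonAct.fixedPshι (a.restrict (Magnet.AMonS.map S (QuotientAddGroup.mk' Z)))) (yoneda.map g))
    (hU : ∀ (T : Over S) (x : T ⟶ U), InAttr aU N x → InAttr aU L x) {T : Over S} (x : T ⟶ X)
    (hx : InAttr a N x) : InAttr a L x := by
  obtain ⟨φ, rfl⟩ := exists_of_inAttr a N hx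
  let F := Magnet.unitFace N
  let hNF : Magnet.IsFace N F := Magnet.isFace_unitFace N
  let φF := (Magnet.attrFace a hNF).app (op T) φ
  let x0 : T ⟶ X := (Magnet.attrToX a F).app (op T) φF
  let W0 := pullback x0.left g.left
  let pr : W0 ⟶ T.left := pullback.fst x0.left g.left
  haveI : Etale pr := MorphismProperty.pullback_fst _ _ ‹Etale g.left›
  haveI : Surjective pr := MorphismProperty.pullback_fst _ _ ‹Surjective g.left›
  let W : Over S := Over.mk (pr ≫ T.hom)
  let f : W ⟶ T := Over.homMk pr rfl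
  have hcov : Sieve.generate (Presieve.singleton f) ∈ QuotSh.J Scheme.fppfPrecoverage.{u} S T := by
    rw [GrothendieckTopology.mem_over_iff]
    refine GrothendieckTopology.superset_covering _ ?_
      (Precoverage.generate_mem_toGrothendieck (pr.singleton_mem_fppfPrecoverage))
    rw [Sieve.generate_le_iff]
    rintro Z q ⟨⟩
    rw [Sieve.overEquiv_iff]
    exact ⟨W, Over.homMk (𝟙 _) (by simp [W, pr]), f, Presieve.singleton.mk, Over.OverMorphism.ext (Category.id_comp _)⟩
  refine inAttr_of_cover a L hcov _ ?_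
  rintro W' f' ⟨Y, t, q, hq, rfl⟩
  cases hq
  rw [Category.assoc]
  apply inAttr_comp
  -- the point of the atlas over the fixed point
  let u0 : W ⟶ U := Over.homMk (pullback.snd x0.left g.left) (by
    show pullback.snd x0.left g.left ≫ U.hom = pr ≫ T.hom
    rw [← Over.w g, ← Category.assoc, ← pullback.condition, Category.assoc, Over.w x0])
  have hu0 : u0 ≫ g = f ≫ x0 := Over.OverMorphism.ext pullback.condition.symm
  have hfix : IsFix Z aU u0 := by
    have h1 : IsFix Z a (u0 ≫ g) :=
      hu0 ▸ isFix_of_inAttr Z F hZ a (inAttr_comp a F f (eval_inAttr a F φF))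
    obtain ⟨z, -, hz⟩ := Limits.Types.exists_of_isPullback
      (hfpr.map ((evaluation (Over S)ᵒᵖ (Type u)).obj (op W)))
      (⟨u0 ≫ g, h1⟩ : (Magnet.MonAct.fixedPsh (resQ Z a)).obj (op W)) u0 rfl
    have h2 : z.1 = u0 := hz
    rw [← h2]
    exact z.2
  obtain ⟨v, hv⟩ := exists_of_inAttr' aU F (det_subgroup Z F hZ U)
    (inAttr_of_isFix Z F hZ aU hfix)
  have hev : ∀ (Q : AddSubmonoid M) {T' : Over S} (p : (Magnet.attr aU Q).obj (op T')),
      (Magnet.attrToX a Q).app (op T') ((Magnet.MonAct.eqvHom.postcomp (Magnet.subAct S M Q) g hg).app (op T') p) =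
        (Magnet.attrToX aU Q).app (op T') p ≫ g :=
    fun Q T' p => (Category.assoc (lift (toUnit T' ≫ η[Magnet.AMonS S Q]) (𝟙 T')) p.1 g).symm
  have hsq := S18302.result S M X U (Magnet.MonAct.toAction (G := Red.DS S M) a)
    (Magnet.MonAct.toAction (G := Red.DS S M) aU) g hg N F hNF (Or.inr ⟨inferInstance, inferInstance⟩)
  have hy : (Magnet.attrFace a hNF).app (op W) ((Magnet.attr a N).map f.op φ) =
      (Magnet.MonAct.eqvHom.postcomp (Magnet.subAct S M F) g hg).app (op W) v := by
    refine attrToX_injective a F W ?_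
    rw [hev, hv, hu0, NatTrans.naturality_apply, NatTrans.naturality_apply]
    rfl
  obtain ⟨φ', hφ', -⟩ := Limits.Types.exists_of_isPullback
    (hsq.map ((evaluation (Over S)ᵒᵖ (Type u)).obj (op W))) ((Magnet.attr a N).map f.op φ) v hy
  have e : f ≫ (Magnet.attrToX a N).app (op T) φ = (Magnet.attrToX aU N).app (op W) φ' ≫ g :=
    ((NatTrans.naturality_apply (Magnet.attrToX a N) f.op φ).symm.trans
      (congrArg ((Magnet.attrToX a N).app (op W)) hφ'.symm)).trans (hev N φ')
  obtain ⟨ψ, hψ⟩ := exists_of_inAttr aU L (hU W _ (eval_inAttr aU N φ'))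
  rw [e, ← hψ, ← hev L ψ]
  exact eval_inAttr a L _

variable (hgZ : ∀ Z : AddSubgroup M, Magnet.MonAct.IsEquivariant
    (aU.restrict (Magnet.AMonS.map S (QuotientAddGroup.mk' Z)))
    (a.restrict (Magnet.AMonS.map S (QuotientAddGroup.mk' Z))) g)
  (hfpr : ∀ Z : AddSubgroup M, IsPullback (Magnet.MonAct.fixedPsh.map g (hgZ Z))
    (Magnet.MonAct.fixedPshι (aU.restrict (Magnet.AMonS.map S (QuotientAddGroup.mk' Z))))
    (Magnet.MonAct.fixedPshι (a.restrict (Magnet.AMonS.map S (QuotientAddGroup.mk' Z)))) (yoneda.map g))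

include hgZ hfpr hg in
theorem inAttr_of_atlas (N L : AddSubmonoid M)
    (hU : ∀ (T : Over S) (x : T ⟶ U), InAttr aU N x → InAttr aU L x) {T : Over S} (x : T ⟶ X)
    (hx : InAttr a N x) : InAttr a L x :=
  inAttr_of_atlas₁ a U aU g hg N L (unitGrp N) (unitGrp_eq N) (hgZ _) (hfpr _) hU x hx

include hgZ hfpr hg in
theorem range_eq_of_atlas (N L : AddSubmonoid M)
    (hU : ∀ T : Over S, Set.range (fun φ => (Magnet.attrToX aU N).app (op T) φ) =
      Set.range (fun φ => (Magnet.attrToX aU L).app (op T) φ)) (T : Over S) :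
    Set.range (fun φ => (Magnet.attrToX a N).app (op T) φ) =
      Set.range (fun φ => (Magnet.attrToX a L).app (op T) φ) := by
  have h1 : ∀ (T : Over S) (x : T ⟶ U), InAttr aU N x → InAttr aU L x := fun T x hx => by
    rw [inAttr_iff] at hx ⊢
    exact (hU T).le hx
  have h2 : ∀ (T : Over S) (x : T ⟶ U), InAttr aU L x → InAttr aU N x := fun T x hx => by
    rw [inAttr_iff] at hx ⊢
    exact (hU T).ge hx
  ext x
  constructor
  · rintro ⟨φ, rfl⟩
    exact exists_of_inAttr a L (inAttr_of_atlas a U aU g hg hgZ hfpr N L h1 _ (eval_inAttr a N φ))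
  · rintro ⟨φ, rfl⟩
    exact exists_of_inAttr a N (inAttr_of_atlas a U aU g hg hgZ hfpr L N h2 _ (eval_inAttr a L φ))

end Groth.Agent.MagFace16
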