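import Groth.Agent.Lib.MagFace16.Agree
import Groth.Agent.Lib.MagFace16.Sub
import Groth.Agent.Lib.MagFace16.Stage
import Groth.Agent.Lib.MagFace16.Range
import Groth.Agent.Lib.MagFace16.Local

/-! Families on a magnet landing in a stable open as soon as their unit face does. -/

set_option autoImplicit false
set_option linter.style.haveILetI false
set_option backward.isDefEq.respectTransparency.types false
universe u

open CategoryTheory CategoryTheory.Limits MonoidalCategory CartesianMonoidalCategory MonObj AlgebraicGeometry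
  Opposite

noncomputable section

namespace Groth.Agent.MagFace16

variable {S : Scheme.{u}} {M : Type} [AddCommGroup M] {N Q : AddSubmonoid M} {X : Over S}
  (a : Magnet.MonAct (Magnet.AMonS S M) X) (U : X.left.Opens)
  (hU : (snd (Magnet.AMonS S M) X).left ⁻¹ᵁ U ≤ a.act.left ⁻¹ᵁ U)

include hU in
/-- Acting on a point of a stable open stays inside. -/
theorem act_mem {T : Over S} (g : T ⟶ Magnet.AMonS S M) (x : T ⟶ X) (w : T.left) (hw : x.left w ∈ U) :
    (lift g x ≫ a.act).left w ∈ U := by
  show a.act.left ((lift g x).left w) ∈ U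
  refine hU ?_
  show (snd (Magnet.AMonS S M) X).left ((lift g x).left w) ∈ U
  rw [← Scheme.Hom.comp_apply, ← Over.comp_left, lift_snd]
  exact hw

variable {R : Type u} [CommRing R] (str : Spec (CommRingCat.of R) ⟶ S)

include hU in
theorem forall_mem_of_face [AddGroup.FG M] (hQ : Magnet.IsFace N Q) (y : spT str (RN R N) ⟶ X)
    (h₁ : spHom str (theta (R := R) N) ≫ y = lift (bpt str (RN R N) M) (proj str (RN R N) M ≫ y) ≫ a.act)
    (h : ∀ p : PrimeSpectrum (RN R N), jI R hQ ≤ p.asIdeal → y.left p ∈ U) (q : PrimeSpectrum (RN R N)) :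
    y.left q ∈ U := by
  classical
  have hpr : proj str (RN R N) M ≫ y =
      lift (Magnet16.invPt (bpt str (RN R N) M)) (spHom str (theta (R := R) N) ≫ y) ≫ a.act := by
    rw [h₁, ← a.lift_mul_act, Magnet16.invPt_mul, a.lift_one_act]
  let κ := q.asIdeal.ResidueField
  let red := MonoidAlgebra.mapRingHom (Multiplicative M) (algebraMap (RN R N) κ)
  let θκ : RN R N →ₐ[R] MonoidAlgebra κ (Multiplicative M) :=
    { red.comp (theta (R := R) N).toRingHom with
      commutes' := fun r => by
        show red (theta (R := R) N (algebraMap R (RN R N) r)) = _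
        rw [(theta (R := R) N).commutes, MonoidAlgebra.coe_algebraMap, MonoidAlgebra.coe_algebraMap]
        simp only [Function.comp_apply, red, MonoidAlgebra.mapRingHom_single]
        rw [IsScalarTower.algebraMap_apply R κ (MonoidAlgebra κ (Multiplicative M)),
          IsScalarTower.algebraMap_apply R (RN R N) κ]
        rfl }
  have hθκ : ∀ n : Multiplicative N, ∃ c : κ, θκ (MonoidAlgebra.of R _ n) =
      MonoidAlgebra.single (Multiplicative.ofAdd ((n.toAdd : N) : M)) c := fun n => ⟨_, by
    show red (theta (R := R) N (MonoidAlgebra.of R _ n)) = _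
    rw [theta_of, MonoidAlgebra.mapRingHom_single]⟩
  obtain ⟨I, hI⟩ : ∃ I : Ideal (RN R N), ∀ P : PrimeSpectrum (RN R N), y.left P ∉ U ↔ I ≤ P.asIdeal := by
    obtain ⟨I, hI⟩ := (PrimeSpectrum.isClosed_iff_zeroLocus_ideal _).1 (y.left ⁻¹ᵁ U).isOpen.isClosed_compl
    exact ⟨I, fun P => (Set.ext_iff.1 hI P).trans (PrimeSpectrum.mem_zeroLocus _ _)⟩
  have hIJ : I ⊔ jI R hQ = ⊤ := by
    by_contra hne
    obtain ⟨P, hP, hle⟩ := Ideal.exists_le_maximal _ hne
    exact (hI ⟨P, hP.isPrime⟩).2 (le_sup_left.trans hle) (h ⟨P, hP.isPrime⟩ (le_sup_right.trans hle))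
  obtain ⟨i, hi, j, hj, hij⟩ := Submodule.mem_sup.1 (hIJ.symm ▸ Submodule.mem_top (x := (1 : RN R N)))
  have hnn := not_isNilpotent_twist hQ θκ hθκ hj hij
  obtain ⟨P, hP, hiP⟩ : ∃ P : Ideal (MonoidAlgebra κ (Multiplicative M)), P.IsPrime ∧ θκ i ∉ P := by
    by_contra! hall
    exact hnn (nilpotent_iff_mem_prime.2 hall)
  let w : PrimeSpectrum (MonoidAlgebra (RN R N) (Multiplicative M)) := PrimeSpectrum.comap red ⟨P, hP⟩
  have hw : (spHom str (theta (R := R) N) ≫ y).left w ∈ U := by
    show y.left (PrimeSpectrum.comap (theta (R := R) N).toRingHom w) ∈ U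
    by_contra hc
    exact hiP ((hI _).1 hc hi)
  have hwq : (proj str (RN R N) M).left w = q := by
    show PrimeSpectrum.comap (algebraMap (RN R N) (MonoidAlgebra (RN R N) (Multiplicative M))) w = q
    refine PrimeSpectrum.ext ?_
    have e : red.comp (algebraMap (RN R N) (MonoidAlgebra (RN R N) (Multiplicative M))) =
        (algebraMap κ (MonoidAlgebra κ (Multiplicative M))).comp (algebraMap (RN R N) κ) :=
      RingHom.ext fun x => by simp [red, MonoidAlgebra.coe_algebraMap]
    show Ideal.comap (algebraMap (RN R N) (MonoidAlgebra (RN R N) (Multiplicative M))) (Ideal.comap red P) = q.asIdeal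
    rw [Ideal.comap_comap, e, ← Ideal.comap_comap]
    rw [((Ideal.eq_bot_or_top (Ideal.comap (algebraMap κ (MonoidAlgebra κ (Multiplicative M))) P)).resolve_right
      (Ideal.comap_ne_top _ hP.ne_top)), ← RingHom.ker_eq_comap_bot, Ideal.ker_algebraMap_residueField]
  rw [← hwq, ← Scheme.Hom.comp_apply, ← Over.comp_left, hpr]
  exact act_mem a U hU (T := spT str (MonoidAlgebra (RN R N) (Multiplicative M))) (Magnet16.invPt (bpt str (RN R N) M)) (spHom str (theta (R := R) N) ≫ y) w hw

include hU in
theorem forall_mem_of_unitFace_spT [AddGroup.FG M] (φ : (Magnet.attr a N).obj (op (spT str R)))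
    (hx : ∀ r, ((Magnet.attrToX a (Magnet.unitFace N)).app (op (spT str R))
      ((Magnet.attrFace a (Magnet.isFace_unitFace N)).app (op (spT str R)) φ)).left r ∈ U)
    (p : (Magnet.AMonS S N ⊗ spT str R).left) : φ.1.left p ∈ U := by
  let F := Magnet.unitFace N
  let hQ : Magnet.IsFace N F := Magnet.isFace_unitFace N
  let φF := (Magnet.attrFace a hQ).app (op (spT str R)) φ
  let x0 : spT str R ⟶ X := (Magnet.attrToX a F).app (op (spT str R)) φF
  let y := chart str R N ≫ φ.1
  have hface : ∀ z : PrimeSpectrum (RN R N), jI R hQ ≤ z.asIdeal → y.left z ∈ U := by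
    intro z hz
    have hsurj : Function.Surjective (Magnet.faceAlgHom R hQ) := fun f =>
      ⟨_, DFunLike.congr_fun (Magnet.faceAlgHom_comp_mapDomain R hQ) f⟩
    obtain ⟨z', rfl⟩ : z ∈ Set.range (PrimeSpectrum.comap (Magnet.faceAlgHom R hQ).toRingHom) := by
      rw [range_comap_of_surjective _ _ hsurj]
      exact (PrimeSpectrum.mem_zeroLocus _ _).2 hz
    obtain ⟨-, hs⟩ := flat_surjective_jC (unitGrp N) F (unitGrp_eq N) str
    obtain ⟨w, rfl⟩ := hs.surj z'
    have e : spHom str (jC (R := R) F R) ≫ spHom str (Magnet.faceAlgHom R hQ) ≫ y =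
        chart str R M ≫ orb a x0 := by
      rw [show spHom str (Magnet.faceAlgHom R hQ) ≫ y = chart str R F ≫ φF.1 from by
        show _ = chart str R F ≫ (Magnet.AMonS.faceMap S hQ ▷ spT str R) ≫ φ.1
        rw [← Category.assoc, ← chart_faceMap, Category.assoc]]
      rw [← reassoc_of% (chart_inc str F R)]
      congr 1
      refine (Magnet16.map_whiskerRight_eqvHom _ a φF.1 φF.2).trans ?_
      rw [orb]
      congr 1
    have h1 := congrArg (fun f => f.left w) e
    refine (show (spHom str (jC (R := R) F R) ≫ spHom str (Magnet.faceAlgHom R hQ) ≫ y).left w ∈ U from ?_)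
    rw [e]
    have horb : chart str R M ≫ orb a x0 = lift (bpt str R M) (proj str R M ≫ x0) ≫ a.act := by
      rw [chart, lift_orb]
    rw [horb]
    refine act_mem a U hU _ _ w ?_
    exact hx ((proj str R M).left w)
  obtain ⟨z, rfl⟩ : p ∈ Set.range (chart str R N).left :=
    ⟨(inv (chart str R N)).left p, by
      rw [← Scheme.Hom.comp_apply, ← Over.comp_left, IsIso.inv_hom_id]; rfl⟩
  exact forall_mem_of_face a U hU str hQ y (equivariant_chart str N a φ.2) hface z

include hU in
/-- A family lands in a stable open when its unit face does. -/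
theorem forall_mem_of_unitFace [AddGroup.FG M] {T : Over S} (φ : (Magnet.attr a N).obj (op T))
    (hx : ∀ t, ((Magnet.attrToX a (Magnet.unitFace N)).app (op T)
      ((Magnet.attrFace a (Magnet.isFace_unitFace N)).app (op T) φ)).left t ∈ U)
    (p : (Magnet.AMonS S N ⊗ T).left) : φ.1.left p ∈ U := by
  let A := Magnet.AMonS S N
  obtain ⟨i, v, hv⟩ := T.left.affineCover.exists_eq ((snd A T).left p)
  let f : Over.mk (T.left.affineCover.f i ≫ T.hom) ⟶ T := Over.homMk (T.left.affineCover.f i) rfl
  obtain ⟨R, str, r, t, ht⟩ := affSieve_factor (T := T) (f := f) ⟨i, 𝟙 _, Category.id_comp _⟩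
  have hrange : (snd A T).left p ∈ Set.range r.left := ⟨t.left v, by
    rw [← Scheme.Hom.comp_apply, ← Over.comp_left, ht]; exact hv⟩
  have sq : IsPullback (A ◁ r).left (snd A (spT str R)).left (snd A T).left r.left :=
    (AlgSt.isPullback_whiskerLeft (G := A) r).map (Over.forget S)
  obtain ⟨z, rfl⟩ : p ∈ Set.range (A ◁ r).left := by
    obtain ⟨v', hv'⟩ := hrange
    obtain ⟨z, hz, -⟩ := Scheme.exists_preimage_of_isPullback sq p v' hv'.symm
    exact ⟨z, hz⟩
  let ψ := (Magnet.attr a N).map r.op φ
  have key := forall_mem_of_unitFace_spT a U hU str ψ (fun w => by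
    have hn : (Magnet.attrToX a (Magnet.unitFace N)).app _ ((Magnet.attrFace a (Magnet.isFace_unitFace N)).app _ ψ) =
        r ≫ (Magnet.attrToX a (Magnet.unitFace N)).app (op T)
          ((Magnet.attrFace a (Magnet.isFace_unitFace N)).app (op T) φ) := by
      rw [NatTrans.naturality_apply, NatTrans.naturality_apply]
      rfl
    rw [hn]
    exact hx (r.left w)) z
  exact key

end Groth.Agent.MagFace16
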