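import Groth.Agent.Lib.MagFace16.Rep
import Mathlib.AlgebraicGeometry.Morphisms.FiniteType

/-! Finiteness of pure magnets for affine schemes. -/

set_option autoImplicit false
set_option linter.style.haveILetI false
set_option backward.isDefEq.respectTransparency.types false
universe u

open CategoryTheory CategoryTheory.Limits MonoidalCategory CartesianMonoidalCategory MonObj AlgebraicGeometry
  Opposite

noncomputable section

namespace Groth.Agent.MagFace16

variable {S : Scheme.{u}} {R : Type u} [CommRing R] (str : Spec (CommRingCat.of R) ⟶ S) {M : Type} [AddCommMonoid M]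
  {X : Over S} (D : Model str X) (a : Magnet.MonAct (Magnet.AMonS S M) X)

theorem attrI_le_of_gens (N L : AddSubmonoid M) (s : Finset D.B) (hs : Algebra.adjoin R (s : Set D.B) = ⊤)
    (h : ∀ b ∈ s, ∀ m ∈ (rho str D a b).coeff.support, Multiplicative.toAdd m ∈ N → Multiplicative.toAdd m ∈ L) :
    attrI str L D a ≤ attrI str N D a := by
  classical
  let c : D.B →ₐ[R] D.B ⧸ attrI str N D a := Ideal.Quotient.mkₐ R _
  let f := (MonoidAlgebra.mapAlgHom (Multiplicative M) c).comp (rho str D a)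
  have hsub : Algebra.adjoin R (s : Set D.B) ≤ (jC (R := R) L (D.B ⧸ attrI str N D a)).range.comap f := by
    refine Algebra.adjoin_le fun b hb => ?_
    refine (mem_range_jC L _ _).2 fun m hm => ?_
    show (MonoidAlgebra.mapAlgHom (Multiplicative M) c (rho str D a b)).coeff _ = 0
    rw [MonoidAlgebra.coeff_mapAlgHom]
    show c ((rho str D a b).coeff (Multiplicative.ofAdd m)) = 0
    by_cases h0 : (rho str D a b).coeff (Multiplicative.ofAdd m) = 0
    · rw [h0, map_zero]
    by_cases hN : m ∈ N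
    · exact absurd (h b hb _ (Finsupp.mem_support_iff.2 h0) hN) hm
    · exact Ideal.Quotient.eq_zero_iff_mem.2 (Ideal.subset_span ⟨b, m, hN, rfl⟩)
  rw [attrI, Ideal.span_le]
  rintro _ ⟨b, m, hm, rfl⟩
  have h1 := (mem_range_jC L _ _).1 (hsub (hs.symm ▸ Algebra.mem_top : b ∈ Algebra.adjoin R (s : Set D.B))) m hm
  change (MonoidAlgebra.mapAlgHom (Multiplicative M) c (rho str D a b)).coeff _ = 0 at h1
  rw [MonoidAlgebra.coeff_mapAlgHom] at h1
  exact Ideal.Quotient.eq_zero_iff_mem.1 h1

theorem finiteType_model [LocallyOfFiniteType X.hom] : Algebra.FiniteType R D.B := by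
  have h : LocallyOfFiniteType (Spec.map (CommRingCat.ofHom (algebraMap R D.B))) :=
    MorphismProperty.of_isPullback (P := @LocallyOfFiniteType) D.cart inferInstance
  rw [HasRingHomProperty.Spec_iff (P := @LocallyOfFiniteType)] at h
  exact RingHom.finiteType_algebraMap.1 h

theorem inAttr_of_charts [IsSeparated X.hom] {N L : AddSubmonoid M} {Ix : Type u} (R' : Ix → CommRingCat.{u})
    (st : ∀ i, Spec (CommRingCat.of (R' i)) ⟶ S) [∀ i, IsOpenImmersion (st i)]
    (hcov : ∀ s : S, ∃ i, s ∈ Set.range (st i))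
    (D : ∀ i, Model (st i) X) (h : ∀ i, attrI (st i) L (D i) a ≤ attrI (st i) N (D i) a)
    {T : Over S} (x : T ⟶ X) (hx : InAttr a N x) : InAttr a L x := by
  let Y := fun i => pullback (x.left ≫ X.hom) (st i)
  let pr : ∀ i, Y i ⟶ T.left := fun i => pullback.fst _ (st i)
  have hprc : ∀ t : T.left, ∃ i, t ∈ Set.range (pr i) := by
    intro t
    obtain ⟨i, hi⟩ := hcov ((x.left ≫ X.hom) t)
    exact ⟨i, by
      rw [show Set.range (pr i) = (x.left ≫ X.hom) ⁻¹' Set.range (st i) from Scheme.Pullback.range_fst _ _]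
      exact hi⟩
  have hpr : Presieve.ofArrows Y pr ∈ Scheme.zariskiPrecoverage T.left :=
    (Scheme.ofArrows_mem_precoverage_iff _).2 ⟨hprc, fun i => MorphismProperty.pullback_fst _ _ inferInstance⟩
  refine inAttr_of_cover a L (covSieve_mem pr hpr) x ?_
  rintro W f ⟨i, l, hl⟩
  have hw : (f.left ≫ x.left) ≫ X.hom = (l ≫ pullback.snd _ (st i)) ≫ st i := by
    rw [← hl, Category.assoc, Category.assoc, Category.assoc, pullback.condition]
  let y : W ⟶ spT (st i) (D i).B := Over.homMk ((D i).cart.lift (f.left ≫ x.left) (l ≫ pullback.snd _ (st i)) hw) (by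
    show _ ≫ Spec.map (CommRingCat.ofHom (algebraMap (R' i) (D i).B)) ≫ st i = W.hom
    rw [← Category.assoc, IsPullback.lift_snd, ← hw, Category.assoc, Over.w x]
    exact Over.w f)
  have hy : y ≫ (D i).e = f ≫ x := Over.OverMorphism.ext ((D i).cart.lift_fst _ _ _)
  have h1 := inAttr_comp a N f hx
  rw [← hy] at h1 ⊢
  rw [inAttr_chart_iff] at h1 ⊢
  refine le_trans ?_ h1
  let q : (D i).B ⧸ attrI (st i) L (D i) a →ₐ[R' i] (D i).B ⧸ attrI (st i) N (D i) a :=
    Ideal.Quotient.factorₐ _ (h i)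
  have hq : zI (st i) N (D i) a = spHom (st i) q ≫ zI (st i) L (D i) a := by
    rw [zI, zI, spHom_comp]
    exact congrArg (spHom (st i)) (AlgHom.ext fun _ => rfl)
  rw [hq, Over.comp_left]
  exact Scheme.Hom.le_ker_comp _ _

theorem exists_supports (S : Scheme.{u}) [CompactSpace S] (M : Type) [AddCommMonoid M]
    {X : Over S} [IsAffineHom X.hom] [LocallyOfFinitePresentation X.hom]
    (a : Magnet.MonAct (Magnet.AMonS S M) X) :
    ∃ E : Finset M, ∀ (N L : AddSubmonoid M), (∀ m ∈ E, m ∈ N → m ∈ L) →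
      ∀ {T : Over S} (x : T ⟶ X), InAttr a N x → InAttr a L x := by
  classical
  let 𝒰 := S.affineCover.finiteSubcover
  have hR : ∀ i, ∃ R : CommRingCat.{u}, Nonempty (Spec R ≅ 𝒰.X i) := fun i =>
    ⟨_, ⟨(S.affineCover.X _).isoSpec.symm⟩⟩
  choose R hRi using hR
  let st : ∀ i, Spec (CommRingCat.of (R i)) ⟶ S := fun i => (hRi i).some.hom ≫ 𝒰.f i
  haveI hst : ∀ i, IsOpenImmersion (st i) := fun i => inferInstance
  have hcov : ∀ s : S, ∃ i, s ∈ Set.range (st i) := fun s => by
    obtain ⟨i, y, hy⟩ := 𝒰.exists_eq s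
    exact ⟨i, (hRi i).some.inv y, by
      show ((hRi i).some.inv ≫ (hRi i).some.hom ≫ 𝒰.f i) y = _
      rw [Iso.inv_hom_id_assoc]; exact hy⟩
  let D := fun i => model (st i) X
  have hft : ∀ i, ∃ s : Finset (D i).B, Algebra.adjoin (R i) (s : Set (D i).B) = ⊤ := fun i =>
    (finiteType_model (st i) (D i)).out
  choose s hs using hft
  haveI : Fintype 𝒰.I₀ := Fintype.ofFinite _
  refine ⟨Finset.univ.biUnion fun i => (s i).biUnion fun b =>
    (rho (st i) (D i) a b).coeff.support.image Multiplicative.toAdd, fun N L h T x hx => ?_⟩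
  exact inAttr_of_charts a R st hcov D (fun i => attrI_le_of_gens (st i) (D i) a N L (s i) (hs i)
    fun b hb m hm hmN => h _ (Finset.mem_biUnion.2 ⟨i, Finset.mem_univ _, Finset.mem_biUnion.2
      ⟨b, hb, Finset.mem_image.2 ⟨m, hm, rfl⟩⟩⟩) hmN) x hx

theorem finite_pureMagnet (S : Scheme.{u}) [CompactSpace S] (M : Type) [AddCommMonoid M]
    {X : Over S} [IsAffineHom X.hom] [LocallyOfFinitePresentation X.hom]
    (a : Magnet.MonAct (Magnet.AMonS S M) X) :
    Set.Finite {N : AddSubmonoid M | ∀ L : AddSubmonoid M,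
      (∀ T : Over S, Set.range (fun φ => (Magnet.attrToX a N).app (op T) φ) =
        Set.range (fun φ => (Magnet.attrToX a L).app (op T) φ)) → N ≤ L} := by
  classical
  obtain ⟨E, hE⟩ := exists_supports S M a
  refine ((Finset.finite_toSet E.powerset).image fun A : Finset M => AddSubmonoid.closure (A : Set M)).subset ?_
  intro N hN
  refine ⟨E.filter (· ∈ N), Finset.mem_powerset.2 (Finset.filter_subset _ _), ?_⟩
  show AddSubmonoid.closure ((E.filter (· ∈ N) : Finset M) : Set M) = N
  have hle : AddSubmonoid.closure ((E.filter (· ∈ N) : Finset M) : Set M) ≤ N :=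
    AddSubmonoid.closure_le.2 fun m hm => (Finset.mem_filter.1 hm).2
  refine le_antisymm hle (hN _ fun T => ?_)
  generalize hL : AddSubmonoid.closure ((E.filter (· ∈ N) : Finset M) : Set M) = L at hle
  ext x
  constructor
  · rintro ⟨φ, rfl⟩
    exact exists_of_inAttr a L (hE N L (fun m hm hmN => hL ▸ AddSubmonoid.subset_closure
      (Finset.mem_filter.2 ⟨hm, hmN⟩)) _ (eval_inAttr a N φ))
  · rintro ⟨φ, rfl⟩
    exact exists_of_inAttr a N (hE L N (fun _ _ h => hle h) _ (eval_inAttr a L φ))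

end Groth.Agent.MagFace16
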