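import Groth.Agent.Lib.MagFace16.Push
import Groth.Agent.Lib.MagFace16.Aff

/-! Actions on push-outs along faces. -/

set_option autoImplicit false
set_option linter.style.haveILetI false
set_option backward.isDefEq.respectTransparency.types false
universe u v w

open CategoryTheory CategoryTheory.Limits MonoidalCategory CartesianMonoidalCategory MonObj AlgebraicGeometry
  Opposite

noncomputable section

namespace Groth.Agent.MagFace16

section Act

variable {C : Type w} [Category.{v} C] [CartesianMonoidalCategory C] {A : C} [MonObj A]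
  {P₀ P₁ P₂ P : C} {f : P₀ ⟶ P₁} {g : P₀ ⟶ P₂} {v₁ : P₁ ⟶ P} {v₂ : P₂ ⟶ P}

/-- An action descends to a push-out which stays one after multiplying with the monoid. -/
theorem exists_act_of_isPushout (a₀ : Magnet.MonAct A P₀) (a₁ : Magnet.MonAct A P₁) (a₂ : Magnet.MonAct A P₂)
    (hf : Magnet.MonAct.IsEquivariant a₀ a₁ f) (hg : Magnet.MonAct.IsEquivariant a₀ a₂ g)
    (hP : IsPushout f g v₁ v₂) (hA : IsPushout (A ◁ f) (A ◁ g) (A ◁ v₁) (A ◁ v₂))
    (hAA : IsPushout (A ◁ A ◁ f) (A ◁ A ◁ g) (A ◁ A ◁ v₁) (A ◁ A ◁ v₂)) :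
    ∃ aP : Magnet.MonAct A P, Magnet.MonAct.IsEquivariant a₁ aP v₁ ∧ Magnet.MonAct.IsEquivariant a₂ aP v₂ ∧
      ∀ (X : C) (aX : Magnet.MonAct A X) (f₁ : P₁ ⟶ X) (f₂ : P₂ ⟶ X) (w : f ≫ f₁ = g ≫ f₂),
        Magnet.MonAct.IsEquivariant a₁ aX f₁ → Magnet.MonAct.IsEquivariant a₂ aX f₂ →
          Magnet.MonAct.IsEquivariant aP aX (hP.desc f₁ f₂ w) := by
  unfold Magnet.MonAct.IsEquivariant at hf hg ⊢
  have w0 : (A ◁ f) ≫ a₁.act ≫ v₁ = (A ◁ g) ≫ a₂.act ≫ v₂ := by
    rw [← reassoc_of% hf, ← reassoc_of% hg, hP.w]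
  obtain ⟨act, h₁, h₂⟩ : ∃ act, (A ◁ v₁) ≫ act = a₁.act ≫ v₁ ∧ (A ◁ v₂) ≫ act = a₂.act ≫ v₂ :=
    ⟨hA.desc _ _ w0, hA.inl_desc _ _ _, hA.inr_desc _ _ _⟩
  have hone : (η[A] ▷ P) ≫ act = (λ_ P).hom := by
    refine (cancel_epi (λ_ P).inv).1 (hP.hom_ext ?_ ?_)
    · rw [leftUnitor_inv_naturality_assoc, whisker_exchange_assoc, h₁, reassoc_of% a₁.one_act, Iso.inv_hom_id,
        Iso.inv_hom_id_assoc, Category.comp_id]
    · rw [leftUnitor_inv_naturality_assoc, whisker_exchange_assoc, h₂, reassoc_of% a₂.one_act, Iso.inv_hom_id,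
        Iso.inv_hom_id_assoc, Category.comp_id]
  have hmul : (μ[A] ▷ P) ≫ act = (α_ A A P).hom ≫ (A ◁ act) ≫ act := by
    refine (cancel_epi (α_ A A P).inv).1 (hAA.hom_ext ?_ ?_)
    · rw [associator_inv_naturality_right_assoc, whisker_exchange_assoc, h₁, reassoc_of% a₁.mul_act,
        Iso.inv_hom_id_assoc, Iso.inv_hom_id_assoc, ← MonoidalCategory.whiskerLeft_comp_assoc A (A ◁ v₁), h₁,
        MonoidalCategory.whiskerLeft_comp_assoc, h₁]
    · rw [associator_inv_naturality_right_assoc, whisker_exchange_assoc, h₂, reassoc_of% a₂.mul_act,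
        Iso.inv_hom_id_assoc, Iso.inv_hom_id_assoc, ← MonoidalCategory.whiskerLeft_comp_assoc A (A ◁ v₂), h₂,
        MonoidalCategory.whiskerLeft_comp_assoc, h₂]
  refine ⟨⟨act, hone, hmul⟩, h₁.symm, h₂.symm, fun X aX f₁ f₂ w hf₁ hf₂ => hA.hom_ext ?_ ?_⟩
  · show (A ◁ v₁) ≫ act ≫ _ = _
    rw [reassoc_of% h₁, hP.inl_desc, hf₁, ← MonoidalCategory.whiskerLeft_comp_assoc, hP.inl_desc]
  · show (A ◁ v₂) ≫ act ≫ _ = _
    rw [reassoc_of% h₂, hP.inr_desc, hf₂, ← MonoidalCategory.whiskerLeft_comp_assoc, hP.inr_desc]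

end Act

variable {R : Type u} [CommRing R]

section MapAlg

variable {A A' B B' : Type u} [CommRing A] [CommRing A'] [CommRing B] [CommRing B'] [Algebra R A] [Algebra R A']
  [Algebra R B] [Algebra R B'] {p : A' →ₐ[R] A} {q : B →ₐ[R] A} {i : B' →ₐ[R] B} {j : B' →ₐ[R] A'}

/-- Monoid algebras of a Ferrand square. -/
theorem isFerrand_mapAlgHom (G : Type) [CommMonoid G] (H : FerrandPush.IsFerrand p.toRingHom q.toRingHom
    i.toRingHom j.toRingHom) :
    FerrandPush.IsFerrand (MonoidAlgebra.mapAlgHom G p).toRingHom (MonoidAlgebra.mapAlgHom G q).toRingHom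
      (MonoidAlgebra.mapAlgHom G i).toRingHom (MonoidAlgebra.mapAlgHom G j).toRingHom := by
  classical
  refine ⟨?_, fun x => ?_, fun b a' hba => ?_, fun x y h1 h2 => ?_⟩
  · intro x
    induction x using MonoidAlgebra.induction_linear with
    | zero => exact ⟨0, map_zero _⟩
    | add a b ha hb =>
      obtain ⟨a', rfl⟩ := ha
      obtain ⟨b', rfl⟩ := hb
      exact ⟨a' + b', map_add _ _ _⟩
    | single m c =>
      obtain ⟨c', rfl⟩ := H.surj c
      exact ⟨MonoidAlgebra.single m c', MonoidAlgebra.mapAlgHom_single _ _ _⟩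
  · refine MonoidAlgebra.coeff_inj.1 (Finsupp.ext fun m => ?_)
    simp only [AlgHom.toRingHom_eq_coe, RingHom.coe_coe, MonoidAlgebra.coeff_mapAlgHom]
    exact H.comm _
  · have hm : ∀ m, ∃ x, i x = b.coeff m ∧ j x = a'.coeff m := fun m => H.exist _ _ (by
      have := congrArg (fun z => z.coeff m) hba
      simpa [MonoidAlgebra.coeff_mapAlgHom] using this)
    choose x hxi hxj using hm
    refine ⟨MonoidAlgebra.ofCoeff (Finsupp.onFinset (b.coeff.support ∪ a'.coeff.support)
      (fun m => if m ∈ b.coeff.support ∪ a'.coeff.support then x m else 0) fun m hm => by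
        by_contra hc; rw [if_neg hc] at hm; exact hm rfl), ?_, ?_⟩
    · refine MonoidAlgebra.coeff_inj.1 (Finsupp.ext fun m => ?_)
      simp only [AlgHom.toRingHom_eq_coe, RingHom.coe_coe, MonoidAlgebra.coeff_mapAlgHom, Finsupp.onFinset_apply]
      split_ifs with h
      · exact hxi m
      · rw [map_zero, Finsupp.notMem_support_iff.1 fun hh => h (Finset.mem_union_left _ hh)]
    · refine MonoidAlgebra.coeff_inj.1 (Finsupp.ext fun m => ?_)
      simp only [AlgHom.toRingHom_eq_coe, RingHom.coe_coe, MonoidAlgebra.coeff_mapAlgHom, Finsupp.onFinset_apply]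
      split_ifs with h
      · exact hxj m
      · rw [map_zero, Finsupp.notMem_support_iff.1 fun hh => h (Finset.mem_union_right _ hh)]
  · refine MonoidAlgebra.coeff_inj.1 (Finsupp.ext fun m => H.ext _ _ ?_ ?_)
    · have := congrArg (fun z => z.coeff m) h1
      simpa [MonoidAlgebra.coeff_mapAlgHom] using this
    · have := congrArg (fun z => z.coeff m) h2
      simpa [MonoidAlgebra.coeff_mapAlgHom] using this

variable {S : Scheme.{u}} (str : Spec (CommRingCat.of R) ⟶ S)

theorem isPushout_spHom (H : FerrandPush.IsFerrand p.toRingHom q.toRingHom i.toRingHom j.toRingHom) :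
    IsPushout (spHom str p) (spHom str q) (spHom str j) (spHom str i) :=
  IsPushout.of_map_of_faithful (Over.forget S) (FerrandPush.isPushout_of_isFerrand H)

theorem chart_whiskerLeft {C C' : Type u} [CommRing C] [Algebra R C] [CommRing C'] [Algebra R C'] (N : Type)
    [AddCommMonoid N] (φ : C →ₐ[R] C') :
    spHom str (MonoidAlgebra.mapAlgHom (Multiplicative N) φ) ≫ chart str C N =
      chart str C' N ≫ (Magnet.AMonS S N ◁ spHom str φ) := by
  rw [chart, chart, lift_whiskerLeft, comp_lift, spHom_mapAlgHom_bpt, spHom_mapAlgHom_proj]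

variable (N : Type) [AddCommMonoid N]

theorem isPushout_whiskerLeft_spHom (H : FerrandPush.IsFerrand p.toRingHom q.toRingHom i.toRingHom j.toRingHom) :
    IsPushout (Magnet.AMonS S N ◁ spHom str p) (Magnet.AMonS S N ◁ spHom str q) (Magnet.AMonS S N ◁ spHom str j)
      (Magnet.AMonS S N ◁ spHom str i) :=
  (isPushout_spHom str (isFerrand_mapAlgHom (Multiplicative N) H)).of_iso (asIso (chart str A N))
    (asIso (chart str A' N)) (asIso (chart str B N)) (asIso (chart str B' N))
    (chart_whiskerLeft str N p) (chart_whiskerLeft str N q) (chart_whiskerLeft str N j) (chart_whiskerLeft str N i)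

theorem isPushout_whiskerLeft₂_spHom (H : FerrandPush.IsFerrand p.toRingHom q.toRingHom i.toRingHom j.toRingHom) :
    IsPushout (Magnet.AMonS S N ◁ Magnet.AMonS S N ◁ spHom str p) (Magnet.AMonS S N ◁ Magnet.AMonS S N ◁ spHom str q)
      (Magnet.AMonS S N ◁ Magnet.AMonS S N ◁ spHom str j) (Magnet.AMonS S N ◁ Magnet.AMonS S N ◁ spHom str i) :=
  (isPushout_whiskerLeft_spHom str N (isFerrand_mapAlgHom (Multiplicative N) H)).of_iso
    (whiskerLeftIso _ (asIso (chart str A N))) (whiskerLeftIso _ (asIso (chart str A' N)))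
    (whiskerLeftIso _ (asIso (chart str B N))) (whiskerLeftIso _ (asIso (chart str B' N)))
    (by simp [← MonoidalCategory.whiskerLeft_comp, chart_whiskerLeft])
    (by simp [← MonoidalCategory.whiskerLeft_comp, chart_whiskerLeft])
    (by simp [← MonoidalCategory.whiskerLeft_comp, chart_whiskerLeft])
    (by simp [← MonoidalCategory.whiskerLeft_comp, chart_whiskerLeft])

end MapAlg

section Main

variable {S : Scheme.{u}} (str : Spec (CommRingCat.of R) ⟶ S) {M : Type} [AddCommMonoid M] {N F : AddSubmonoid M}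
  (C : Type u) [CommRing C] [Algebra R C]

theorem bpt_faceMap' (hF : Magnet.IsFace N F) :
    bpt str C F ≫ Magnet.AMonS.faceMap S hF =
      spHom str ((Magnet.faceAlgHom C hF).restrictScalars R) ≫ bpt str C N := by
  classical
  refine Groth.Agent.Magnet16.chS_inj fun n => ?_
  obtain ⟨n, rfl⟩ : ∃ m, Multiplicative.ofAdd m = n := ⟨n.toAdd, rfl⟩
  rw [chS_faceMap, Groth.Agent.Magnet16.chS_nat, chS_bpt, appTop_gl, MonoidAlgebra.of_apply,
    AlgHom.restrictScalars_apply]
  split_ifs with h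
  · rw [chS_bpt, Magnet.faceAlgHom_single_of_mem C hF n h, MonoidAlgebra.of_apply]
  · rw [Magnet.faceAlgHom_single_of_not_mem C hF n h]
    exact (map_zero _).symm

theorem chart_faceMap' (hF : Magnet.IsFace N F) :
    chart str C F ≫ (Magnet.AMonS.faceMap S hF ▷ spT str C) =
      spHom str ((Magnet.faceAlgHom C hF).restrictScalars R) ≫ chart str C N := by
  rw [chart, chart, lift_whiskerRight, bpt_faceMap', comp_lift, spHom_comp]
  congr 2
  exact congrArg (spHom str) (AlgHom.ext fun r => ((Magnet.faceAlgHom C hF).commutes r).symm)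

instance isIso_bpt [IsIso str] : IsIso (bpt str R N) := by
  haveI : IsIso (spT str R).hom := by
    show IsIso (Spec.map (CommRingCat.ofHom (RingHom.id R)) ≫ str)
    rw [CommRingCat.ofHom_id, Spec.map_id]
    infer_instance
  haveI : IsIso (toUnit (spT str R)) := by
    haveI : IsIso ((Over.forget S).map (toUnit (spT str R))) := by
      show IsIso (toUnit (spT str R)).left
      have e := Over.w (toUnit (spT str R))
      have e' : (toUnit (spT str R)).left = (spT str R).hom := by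
        rw [← e]; exact (Category.comp_id _).symm
      rw [e']; infer_instance
    exact isIso_of_reflects_iso _ (Over.forget S)
  rw [← chart_fst str R (N := N), show fst (Magnet.AMonS S N) (spT str R) =
    (Magnet.AMonS S N ◁ toUnit (spT str R)) ≫ (ρ_ _).hom from (whiskerLeft_toUnit_comp_rightUnitor_hom _ _).symm]
  infer_instance

include str in
/-- The push-out of `A(F) ← A(F) × Y → A(N) × Y`, with its action. -/
theorem exists_isPushout_act [IsIso str] (hF : Magnet.IsFace N F) (Y : Over S) [IsAffineHom Y.hom] :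
    ∃ (P : Over S) (v₁ : Magnet.AMonS S F ⟶ P) (v₂ : Magnet.AMonS S N ⊗ Y ⟶ P)
      (hP : IsPushout (fst (Magnet.AMonS S F) Y) (Magnet.AMonS.faceMap S hF ▷ Y) v₁ v₂)
      (aP : Magnet.MonAct (Magnet.AMonS S M) P),
      IsAffine P.left ∧ Magnet.MonAct.IsEquivariant (Magnet.subAct S M F) aP v₁ ∧
      Magnet.MonAct.IsEquivariant ((Magnet.subAct S M N).prod (Magnet.MonAct.trivial (Magnet.AMonS S M) Y)) aP v₂ ∧
      ∀ (X : Over S) (aX : Magnet.MonAct (Magnet.AMonS S M) X) (f₁ : Magnet.AMonS S F ⟶ X)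
        (f₂ : Magnet.AMonS S N ⊗ Y ⟶ X) (w : fst (Magnet.AMonS S F) Y ≫ f₁ = (Magnet.AMonS.faceMap S hF ▷ Y) ≫ f₂),
        Magnet.MonAct.IsEquivariant (Magnet.subAct S M F) aX f₁ →
        Magnet.MonAct.IsEquivariant ((Magnet.subAct S M N).prod (Magnet.MonAct.trivial (Magnet.AMonS S M) Y)) aX f₂ →
        Magnet.MonAct.IsEquivariant aP aX (hP.desc f₁ f₂ w) := by
  let D := model str Y
  haveI : IsIso D.e := by
    haveI : IsIso ((Over.forget S).map D.e) := D.cart.isIso_fst_of_isIso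
    exact isIso_of_reflects_iso _ (Over.forget S)
  let p : MonoidAlgebra D.B (Multiplicative N) →ₐ[R] MonoidAlgebra D.B (Multiplicative F) :=
    (Magnet.faceAlgHom D.B hF).restrictScalars R
  let q : MonoidAlgebra R (Multiplicative F) →ₐ[R] MonoidAlgebra D.B (Multiplicative F) :=
    MonoidAlgebra.mapAlgHom _ (Algebra.ofId R D.B)
  let E := AlgHom.equalizer (q.comp (AlgHom.fst R (MonoidAlgebra R (Multiplicative F))
    (MonoidAlgebra D.B (Multiplicative N)))) (p.comp (AlgHom.snd R _ _))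
  let i : E →ₐ[R] MonoidAlgebra R (Multiplicative F) := (AlgHom.fst R _ _).comp E.val
  let j : E →ₐ[R] MonoidAlgebra D.B (Multiplicative N) := (AlgHom.snd R _ _).comp E.val
  have H : FerrandPush.IsFerrand p.toRingHom q.toRingHom i.toRingHom j.toRingHom :=
    ⟨fun g => ⟨MonoidAlgebra.mapDomain (AddMonoidHom.toMultiplicative (AddSubmonoid.inclusion hF.le)) g,
        AlgHom.congr_fun (Magnet.faceAlgHom_comp_mapDomain D.B hF) g⟩,
      fun x => x.2, fun b a' h => ⟨⟨(b, a'), h⟩, rfl, rfl⟩, fun x y h1 h2 => Subtype.ext (Prod.ext h1 h2)⟩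
  let e₀ : spT str (MonoidAlgebra D.B (Multiplicative F)) ≅ Magnet.AMonS S F ⊗ Y :=
    asIso (chart str D.B F ≫ (Magnet.AMonS S F ◁ D.e))
  let e₁ : spT str (MonoidAlgebra R (Multiplicative F)) ≅ Magnet.AMonS S F := asIso (bpt str R F)
  let e₂ : spT str (MonoidAlgebra D.B (Multiplicative N)) ≅ Magnet.AMonS S N ⊗ Y :=
    asIso (chart str D.B N ≫ (Magnet.AMonS S N ◁ D.e))
  have cq : spHom str q ≫ e₁.hom = e₀.hom ≫ fst (Magnet.AMonS S F) Y := by
    simp only [e₀, e₁, asIso_hom, q, spHom_mapAlgHom_bpt, Category.assoc, whiskerLeft_fst, chart_fst]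
  have cp : spHom str p ≫ e₂.hom = e₀.hom ≫ (Magnet.AMonS.faceMap S hF ▷ Y) := by
    simp only [e₀, e₂, asIso_hom, p, Category.assoc, whisker_exchange, ← reassoc_of% (chart_faceMap' str D.B hF)]
  have hP : IsPushout (fst (Magnet.AMonS S F) Y) (Magnet.AMonS.faceMap S hF ▷ Y) (e₁.inv ≫ spHom str i)
      (e₂.inv ≫ spHom str j) :=
    (isPushout_spHom str H).flip.of_iso e₀ e₁ e₂ (Iso.refl _) cq cp (by simp) (by simp)
  have hA : IsPushout (Magnet.AMonS S M ◁ fst (Magnet.AMonS S F) Y)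
      (Magnet.AMonS S M ◁ (Magnet.AMonS.faceMap S hF ▷ Y)) (Magnet.AMonS S M ◁ (e₁.inv ≫ spHom str i))
      (Magnet.AMonS S M ◁ (e₂.inv ≫ spHom str j)) :=
    (isPushout_whiskerLeft_spHom str M H).flip.of_iso (whiskerLeftIso _ e₀) (whiskerLeftIso _ e₁) (whiskerLeftIso _ e₂)
      (Iso.refl _) (by simp [← MonoidalCategory.whiskerLeft_comp, cq])
      (by simp [← MonoidalCategory.whiskerLeft_comp, cp]) (by simp [← MonoidalCategory.whiskerLeft_comp])
      (by simp [← MonoidalCategory.whiskerLeft_comp])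
  have hAA : IsPushout (Magnet.AMonS S M ◁ Magnet.AMonS S M ◁ fst (Magnet.AMonS S F) Y)
      (Magnet.AMonS S M ◁ Magnet.AMonS S M ◁ (Magnet.AMonS.faceMap S hF ▷ Y))
      (Magnet.AMonS S M ◁ Magnet.AMonS S M ◁ (e₁.inv ≫ spHom str i))
      (Magnet.AMonS S M ◁ Magnet.AMonS S M ◁ (e₂.inv ≫ spHom str j)) :=
    (isPushout_whiskerLeft₂_spHom str M H).flip.of_iso (whiskerLeftIso _ (whiskerLeftIso _ e₀))
      (whiskerLeftIso _ (whiskerLeftIso _ e₁)) (whiskerLeftIso _ (whiskerLeftIso _ e₂)) (Iso.refl _)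
      (by simp [← MonoidalCategory.whiskerLeft_comp, cq]) (by simp [← MonoidalCategory.whiskerLeft_comp, cp])
      (by simp [← MonoidalCategory.whiskerLeft_comp]) (by simp [← MonoidalCategory.whiskerLeft_comp])
  have hf : Magnet.MonAct.IsEquivariant ((Magnet.subAct S M F).prod (Magnet.MonAct.trivial _ Y))
      (Magnet.subAct S M F) (fst (Magnet.AMonS S F) Y) := by
    rw [Magnet.MonAct.isEquivariant_iff]
    intro T g x
    rw [← lift_comp_fst_snd x, Magnet.MonAct.lift_prod_act_assoc, lift_fst, lift_fst]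
  have hg : Magnet.MonAct.IsEquivariant ((Magnet.subAct S M F).prod (Magnet.MonAct.trivial _ Y))
      ((Magnet.subAct S M N).prod (Magnet.MonAct.trivial _ Y)) (Magnet.AMonS.faceMap S hF ▷ Y) := by
    rw [Magnet.MonAct.isEquivariant_iff]
    intro T g x
    rw [← lift_comp_fst_snd x, Magnet.MonAct.lift_prod_act_assoc, lift_whiskerRight, lift_whiskerRight,
      Magnet.MonAct.lift_prod_act, Category.assoc,
      (Magnet.MonAct.isEquivariant_iff _ _ _).1 (Magnet.isEquivariant_faceMapS S hF) T g _]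
  obtain ⟨aP, h₁, h₂, h₃⟩ := exists_act_of_isPushout _ _ _ hf hg hP hA hAA
  exact ⟨_, _, _, hP, aP, inferInstance, h₁, h₂, h₃⟩

end Main

end Groth.Agent.MagFace16
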