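import Groth.Agent.Lib.MagFace16.Engine

/-! Formal smoothness of attractors of smooth morphisms. -/

set_option autoImplicit false
set_option linter.style.haveILetI false
set_option backward.isDefEq.respectTransparency.types false
universe u

open CategoryTheory CategoryTheory.Limits MonoidalCategory CartesianMonoidalCategory MonObj AlgebraicGeometry
  Opposite

noncomputable section

namespace Groth.Agent.MagFace16

open Groth.Agent.Magnet16 (chS_nat chS_mul chS_inj chS_map)

variable {S : Scheme.{u}} {A : Type u} [CommRing A] (str : Spec (CommRingCat.of A) ⟶ S) {M : Type} [AddCommGroup M]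
  (N : AddSubmonoid M) (C : Type u) [CommRing C] [Algebra A C]

/-- The coaction with coefficients in an algebra. -/
def thetaC : MonoidAlgebra C (Multiplicative N) →ₐ[A] MonoidAlgebra (MonoidAlgebra C (Multiplicative N)) (Multiplicative M) :=
  (theta (R := C) N).restrictScalars A

theorem thetaC_single (n : Multiplicative N) (c : C) :
    thetaC (A := A) N C (MonoidAlgebra.single n c) =
      MonoidAlgebra.single (Multiplicative.ofAdd ((n.toAdd : N) : M)) (MonoidAlgebra.single n c) := by
  show theta (R := C) N (MonoidAlgebra.single n c) = _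
  rw [show MonoidAlgebra.single n c = c • MonoidAlgebra.of C _ n from by simp [MonoidAlgebra.smul_single],
    map_smul, theta_of, MonoidAlgebra.smul_single]

theorem counit_thetaC (r : MonoidAlgebra C (Multiplicative N)) :
    (thetaC (A := A) N C r).coeff.sum (fun _ c => c) = r := by
  classical
  induction r using MonoidAlgebra.induction_linear with
  | zero => simp
  | add x y hx hy =>
    rw [map_add, MonoidAlgebra.coeff_add, Finsupp.sum_add_index' (fun _ => rfl) (fun _ _ _ => rfl), hx, hy]
  | single n c =>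
    rw [thetaC_single, MonoidAlgebra.coeff_single, Finsupp.sum_single_index rfl]

theorem coassoc_thetaC (r : MonoidAlgebra C (Multiplicative N)) (m : Multiplicative M) :
    thetaC (A := A) N C ((thetaC (A := A) N C r).coeff m) = MonoidAlgebra.single m ((thetaC (A := A) N C r).coeff m) := by
  classical
  induction r using MonoidAlgebra.induction_linear with
  | zero => simp
  | add x y hx hy => simp [map_add, hx, hy]
  | single n c =>
    rw [thetaC_single, MonoidAlgebra.coeff_single]
    by_cases h : m = Multiplicative.ofAdd ((n.toAdd : N) : M)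
    · subst h
      rw [Finsupp.single_eq_same, thetaC_single]
    · rw [Finsupp.single_eq_of_ne h, map_zero, MonoidAlgebra.single_zero]

theorem thetaC_natural {C' : Type u} [CommRing C'] [Algebra A C'] (φ : C →ₐ[A] C') :
    (thetaC N C').comp (MonoidAlgebra.mapAlgHom (Multiplicative N) φ) =
      (MonoidAlgebra.mapAlgHom (Multiplicative M) (MonoidAlgebra.mapAlgHom (Multiplicative N) φ)).comp (thetaC N C) := by
  refine AlgHom.ext fun F => ?_
  induction F using MonoidAlgebra.induction_linear with
  | zero => simp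
  | add x y hx hy => simp only [map_add, hx, hy]
  | single n c => simp [thetaC_single]

theorem spHom_mapAlgHom_chart {C' : Type u} [CommRing C'] [Algebra A C'] (φ : C →ₐ[A] C') :
    spHom str (MonoidAlgebra.mapAlgHom (Multiplicative N) φ) ≫ chart str C N =
      chart str C' N ≫ (Magnet.AMonS S N ◁ spHom str φ) := by
  rw [chart, chart, comp_lift, lift_whiskerLeft, spHom_mapAlgHom_bpt, spHom_mapAlgHom_proj]

/-- The translated point, with coefficients. -/
theorem spHom_thetaC_chart :
    spHom str (thetaC (A := A) N C) ≫ chart str C N =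
      lift (lift (bpt str (MonoidAlgebra C (Multiplicative N)) M)
          (proj str (MonoidAlgebra C (Multiplicative N)) M ≫ bpt str C N) ≫ (Magnet.subAct S M N).act)
        (proj str (MonoidAlgebra C (Multiplicative N)) M ≫ proj str C N) := by
  apply CartesianMonoidalCategory.hom_ext
  · rw [Category.assoc, chart_fst, lift_fst, Magnet.subAct, Magnet.MonAct.lift_restrict_act,
      Magnet.MonAct.lift_regular_act]
    refine chS_inj fun n => ?_
    obtain ⟨n, rfl⟩ : ∃ m, Multiplicative.ofAdd m = n := ⟨n.toAdd, rfl⟩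
    rw [chS_nat, chS_bpt, chS_mul, chS_map, chS_bpt, chS_nat, chS_bpt, appTop_gl, appTop_gl,
      MonoidAlgebra.of_apply (R := C), thetaC_single]
    refine Eq.trans ?_ (map_mul (Scheme.ΓSpecIso _).inv.hom _ _)
    refine congrArg gl ?_
    simp [MonoidAlgebra.single_mul_single, MonoidAlgebra.coe_algebraMap, MonoidAlgebra.of_apply]
  · rw [Category.assoc, chart_snd, lift_snd, spHom_comp, spHom_comp]
    congr 1
    refine AlgHom.ext fun c => ?_
    simp [MonoidAlgebra.coe_algebraMap, thetaC_single]

theorem equivariant_chartC {X : Over S} (a : Magnet.MonAct (Magnet.AMonS S M) X)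
    {φ : Magnet.AMonS S N ⊗ spT str C ⟶ X}
    (hφ : Magnet.MonAct.IsEquivariant ((Magnet.subAct S M N).prod (Magnet.MonAct.trivial _ (spT str C))) a φ) :
    spHom str (thetaC (A := A) N C) ≫ chart str C N ≫ φ = trPt str a (chart str C N ≫ φ) := by
  rw [← Category.assoc, spHom_thetaC_chart]
  have h := (Magnet.MonAct.mem_eqvHom_iff φ).1 hφ _ (bpt str (MonoidAlgebra C (Multiplicative N)) M)
    (proj str (MonoidAlgebra C (Multiplicative N)) M ≫ bpt str C N)
    (proj str (MonoidAlgebra C (Multiplicative N)) M ≫ proj str C N)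
  rw [h, trPt, chart, ← comp_lift, Category.assoc]

variable {N} {X Y : Over S} (aX : Magnet.MonAct (Magnet.AMonS S M) X) (aY : Magnet.MonAct (Magnet.AMonS S M) Y)
  (f : X ⟶ Y) (hf : Magnet.MonAct.IsEquivariant aX aY f)

theorem spHom_theta_eq : spHom str (theta (R := A) N) = spHom str (thetaC (A := A) N A) := by
  congr 1

include hf in
theorem hasLift_postcomp_spT [Smooth f.left] (I : Ideal A) (hI : I ^ 2 = ⊥)
    (x : (Magnet.attr aX N).obj (op (spT str (A ⧸ I)))) (y : (Magnet.attr aY N).obj (op (spT str A)))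
    (h : x.1 ≫ f = (Magnet.AMonS S N ◁ spHom str (Ideal.Quotient.mkₐ A I)) ≫ y.1) :
    ∃ l : (Magnet.attr aX N).obj (op (spT str A)),
      (Magnet.AMonS S N ◁ spHom str (Ideal.Quotient.mkₐ A I)) ≫ l.1 = x.1 ∧ l.1 ≫ f = y.1 := by
  let π := Ideal.Quotient.mkₐ A I
  have hπ2 : RingHom.ker π ^ 2 = ⊥ := by
    rw [show RingHom.ker π = I from Ideal.Quotient.mkₐ_ker A I, hI]
  let q := MonoidAlgebra.mapAlgHom (Multiplicative N) π
  have hy : spHom str (thetaC (A := A) N A) ≫ chart str A N ≫ y.1 = trPt str aY (chart str A N ≫ y.1) :=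
    equivariant_chartC str N A aY y.2
  obtain ⟨u, hu₁, hu₂, hu₃⟩ := exists_eqv_lift str aX aY f hf (thetaC (A := A) N A) (thetaC (A := A) N (A ⧸ I)) q
    (mapAlgHom_surjective π (Ideal.Quotient.mkₐ_surjective A I)) (mapAlgHom_ker_sq π hπ2)
    (counit_thetaC N A) (coassoc_thetaC N A) (thetaC_natural N A π) (chart str A N ≫ y.1) hy
    (chart str (A ⧸ I) N ≫ x.1) (equivariant_chartC str N (A ⧸ I) aX x.2) (by
      rw [Category.assoc, h, ← Category.assoc, ← spHom_mapAlgHom_chart, Category.assoc])
  let l := inv (chart str A N) ≫ u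
  have hl : chart str A N ≫ l = u := by simp [l]
  have hle : Magnet.MonAct.IsEquivariant ((Magnet.subAct S M N).prod (Magnet.MonAct.trivial _ (spT str A))) aX l := by
    refine isEquivariant_of_chart str N aX ?_
    rw [hl, spHom_theta_eq str]
    exact hu₃
  refine ⟨⟨l, hle⟩, ?_, ?_⟩
  · refine (cancel_epi (chart str (A ⧸ I) N)).1 ?_
    rw [← Category.assoc, ← spHom_mapAlgHom_chart, Category.assoc, hl, hu₁]
  · refine (cancel_epi (chart str A N)).1 ?_
    rw [← Category.assoc, hl, hu₂]

include hf in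
theorem hasLift_postcomp [Smooth f.left] (I : Ideal A) (hI : I ^ 2 = ⊥)
    (x : (Magnet.attr aX N).obj (op (Over.mk (Spec.map (CommRingCat.ofHom (Ideal.Quotient.mk I)) ≫ str))))
    (y : (Magnet.attr aY N).obj (op (Over.mk str)))
    (h : (Magnet.MonAct.eqvHom.postcomp (Magnet.subAct S M N) f hf).app _ x =
      (Magnet.attr aY N).map (Over.homMk (Spec.map (CommRingCat.ofHom (Ideal.Quotient.mk I))) rfl :
        Over.mk (Spec.map (CommRingCat.ofHom (Ideal.Quotient.mk I)) ≫ str) ⟶ Over.mk str).op y) :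
    ∃ l : (Magnet.attr aX N).obj (op (Over.mk str)),
      (Magnet.attr aX N).map (Over.homMk (Spec.map (CommRingCat.ofHom (Ideal.Quotient.mk I))) rfl :
        Over.mk (Spec.map (CommRingCat.ofHom (Ideal.Quotient.mk I)) ≫ str) ⟶ Over.mk str).op l = x ∧
      (Magnet.MonAct.eqvHom.postcomp (Magnet.subAct S M N) f hf).app _ l = y := by
  have hid : Spec.map (CommRingCat.ofHom (algebraMap A A)) = 𝟙 (Spec (CommRingCat.of A)) := Spec.map_id _
  let t₁ : spT str A ⟶ Over.mk str := Over.homMk (𝟙 _) (by
    show 𝟙 _ ≫ str = Spec.map _ ≫ str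
    rw [hid])
  let t₂ : Over.mk str ⟶ spT str A := Over.homMk (𝟙 _) (by
    show 𝟙 _ ≫ Spec.map _ ≫ str = str
    rw [hid, Category.id_comp, Category.id_comp])
  have h21 : t₂ ≫ t₁ = 𝟙 _ := Over.OverMorphism.ext (Category.id_comp _)
  let π' : spT str (A ⧸ I) ⟶ Over.mk str := Over.homMk (Spec.map (CommRingCat.ofHom (Ideal.Quotient.mk I))) rfl
  have hπ : spHom str (Ideal.Quotient.mkₐ A I) ≫ t₁ = π' := Over.OverMorphism.ext (Category.comp_id _)
  have hπ2 : π' ≫ t₂ = spHom str (Ideal.Quotient.mkₐ A I) := Over.OverMorphism.ext (Category.comp_id _)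
  obtain ⟨l, hl₁, hl₂⟩ := hasLift_postcomp_spT str aX aY f hf I hI x ((Magnet.attr aY N).map t₁.op y) (by
    show x.1 ≫ f = (Magnet.AMonS S N ◁ spHom str (Ideal.Quotient.mkₐ A I)) ≫ (Magnet.AMonS S N ◁ t₁) ≫ y.1
    rw [← MonoidalCategory.whiskerLeft_comp_assoc, hπ]
    exact congrArg Subtype.val h)
  refine ⟨(Magnet.attr aX N).map t₂.op l, Subtype.ext ?_, Subtype.ext ?_⟩
  · show (Magnet.AMonS S N ◁ π') ≫ (Magnet.AMonS S N ◁ t₂) ≫ l.1 = x.1
    rw [← MonoidalCategory.whiskerLeft_comp_assoc, hπ2, hl₁]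
  · show ((Magnet.AMonS S N ◁ t₂) ≫ l.1) ≫ f = y.1
    rw [Category.assoc, hl₂]
    show (Magnet.AMonS S N ◁ t₂) ≫ (Magnet.AMonS S N ◁ t₁) ≫ y.1 = y.1
    rw [← MonoidalCategory.whiskerLeft_comp_assoc, h21, MonoidalCategory.whiskerLeft_id, Category.id_comp]

end Groth.Agent.MagFace16
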