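import Groth.Agent.Lib.MagFace16.Smooth
import Groth.Agent.Lib.MagFace16.PushAct

/-! Formal smoothness of face projections of attractors. -/

set_option autoImplicit false
set_option linter.style.haveILetI false
set_option backward.isDefEq.respectTransparency.types false
universe u

open CategoryTheory CategoryTheory.Limits MonoidalCategory CartesianMonoidalCategory MonObj AlgebraicGeometry
  Opposite

noncomputable section

namespace Groth.Agent.MagFace16

open Groth.Agent.Magnet16 (chS_nat chS_inj)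

variable {S : Scheme.{u}} {A : Type u} [CommRing A] (str : Spec (CommRingCat.of A) ⟶ S) {M : Type} [AddCommGroup M]
  {N F : AddSubmonoid M} (hF : Magnet.IsFace N F) (C : Type u) [CommRing C] [Algebra A C]

/-- The face projection with coefficients in an algebra. -/
def faceC : MonoidAlgebra C (Multiplicative N) →ₐ[A] MonoidAlgebra C (Multiplicative F) :=
  (Magnet.faceAlgHom C hF).restrictScalars A

theorem faceC_of_mem (n : N) (h : (n : M) ∈ F) (c : C) :
    faceC (A := A) hF C (MonoidAlgebra.single (Multiplicative.ofAdd n) c) =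
      MonoidAlgebra.single (Multiplicative.ofAdd ⟨_, h⟩) c :=
  Magnet.faceAlgHom_single_of_mem C hF n h c

theorem faceC_of_not_mem (n : N) (h : (n : M) ∉ F) (c : C) :
    faceC (A := A) hF C (MonoidAlgebra.single (Multiplicative.ofAdd n) c) = 0 :=
  Magnet.faceAlgHom_single_of_not_mem C hF n h c

theorem faceC_natural {C' : Type u} [CommRing C'] [Algebra A C'] (φ : C →ₐ[A] C') :
    (faceC hF C').comp (MonoidAlgebra.mapAlgHom (Multiplicative N) φ) =
      (MonoidAlgebra.mapAlgHom (Multiplicative F) φ).comp (faceC hF C) := by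
  refine AlgHom.ext fun x => ?_
  induction x using MonoidAlgebra.induction_linear with
  | zero => simp
  | add x y hx hy => simp only [map_add, hx, hy]
  | single n c =>
    obtain ⟨n, rfl⟩ : ∃ m, Multiplicative.ofAdd m = n := ⟨n.toAdd, rfl⟩
    rw [AlgHom.comp_apply, AlgHom.comp_apply, MonoidAlgebra.mapAlgHom_single]
    by_cases h : (n : M) ∈ F
    · rw [faceC_of_mem hF C' n h, faceC_of_mem hF C n h, MonoidAlgebra.mapAlgHom_single]
    · rw [faceC_of_not_mem hF C' n h, faceC_of_not_mem hF C n h, map_zero]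

theorem thetaC_faceC :
    (thetaC F C).comp (faceC hF C) =
      (MonoidAlgebra.mapAlgHom (Multiplicative M) (faceC (A := A) hF C)).comp (thetaC N C) := by
  refine AlgHom.ext fun x => ?_
  induction x using MonoidAlgebra.induction_linear with
  | zero => simp
  | add x y hx hy => simp only [map_add, hx, hy]
  | single n c =>
    obtain ⟨n, rfl⟩ : ∃ m, Multiplicative.ofAdd m = n := ⟨n.toAdd, rfl⟩
    rw [AlgHom.comp_apply, AlgHom.comp_apply, thetaC_single, MonoidAlgebra.mapAlgHom_single]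
    by_cases h : (n : M) ∈ F
    · rw [faceC_of_mem hF C n h, thetaC_single]
      rfl
    · rw [faceC_of_not_mem hF C n h, map_zero, MonoidAlgebra.single_zero]

theorem bpt_faceMapC :
    bpt str C F ≫ Magnet.AMonS.faceMap S hF = spHom str (faceC hF C) ≫ bpt str C N := by
  classical
  refine chS_inj fun n => ?_
  obtain ⟨n, rfl⟩ : ∃ m, Multiplicative.ofAdd m = n := ⟨n.toAdd, rfl⟩
  rw [chS_faceMap, chS_nat, chS_bpt, appTop_gl, MonoidAlgebra.of_apply]
  split_ifs with h
  · rw [chS_bpt, faceC_of_mem hF C n h, MonoidAlgebra.of_apply]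
  · rw [faceC_of_not_mem hF C n h]
    exact (map_zero _).symm

theorem chart_faceMapC :
    chart str C F ≫ (Magnet.AMonS.faceMap S hF ▷ spT str C) = spHom str (faceC hF C) ≫ chart str C N := by
  rw [chart, chart, lift_whiskerRight, bpt_faceMapC, comp_lift, spHom_comp]
  congr 2
  exact congrArg (spHom str) (AlgHom.ext fun r => ((Magnet.faceAlgHom C hF).commutes r).symm)

variable {X : Over S} (a : Magnet.MonAct (Magnet.AMonS S M) X)

set_option maxHeartbeats 800000 in
theorem hasLift_face_spT [Smooth X.hom] (I : Ideal A) (hI : I ^ 2 = ⊥)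
    (x : (Magnet.attr a N).obj (op (spT str (A ⧸ I)))) (y : (Magnet.attr a F).obj (op (spT str A)))
    (h : (Magnet.AMonS.faceMap S hF ▷ spT str (A ⧸ I)) ≫ x.1 =
      (Magnet.AMonS S F ◁ spHom str (Ideal.Quotient.mkₐ A I)) ≫ y.1) :
    ∃ l : (Magnet.attr a N).obj (op (spT str A)),
      (Magnet.AMonS S N ◁ spHom str (Ideal.Quotient.mkₐ A I)) ≫ l.1 = x.1 ∧
        (Magnet.AMonS.faceMap S hF ▷ spT str A) ≫ l.1 = y.1 := by
  let π := Ideal.Quotient.mkₐ A I
  have hπ2 : RingHom.ker π ^ 2 = ⊥ := by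
    rw [show RingHom.ker π = I from Ideal.Quotient.mkₐ_ker A I, hI]
  let q₁ := MonoidAlgebra.mapAlgHom (Multiplicative N) π
  let pF := MonoidAlgebra.mapAlgHom (Multiplicative F) π
  let fA := faceC (A := A) hF A
  let fC := faceC (A := A) hF (A ⧸ I)
  let θ := thetaC (A := A) N A
  let K : Ideal (MonoidAlgebra A (Multiplicative N)) := RingHom.ker q₁ ⊓ RingHom.ker fA
  let R₀ := MonoidAlgebra A (Multiplicative N) ⧸ K
  let q : MonoidAlgebra A (Multiplicative N) →ₐ[A] R₀ := Ideal.Quotient.mkₐ A K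
  have hqker : RingHom.ker q = K := Ideal.Quotient.mkₐ_ker A K
  let i : R₀ →ₐ[A] MonoidAlgebra (A ⧸ I) (Multiplicative N) := Ideal.Quotient.liftₐ K q₁ fun r hr => hr.1
  let j : R₀ →ₐ[A] MonoidAlgebra A (Multiplicative F) := Ideal.Quotient.liftₐ K fA fun r hr => hr.2
  have hi : i.comp q = q₁ := AlgHom.ext fun r => rfl
  have hj : j.comp q = fA := AlgHom.ext fun r => rfl
  have hFer : FerrandPush.IsFerrand pF.toRingHom fC.toRingHom i.toRingHom j.toRingHom := by
    refine ⟨mapAlgHom_surjective π (Ideal.Quotient.mkₐ_surjective A I), fun z => ?_, fun b a' hba => ?_,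
      fun z z' h₁ h₂ => ?_⟩
    · obtain ⟨r, rfl⟩ := Ideal.Quotient.mkₐ_surjective A K z
      exact AlgHom.congr_fun (faceC_natural hF A π) r
    · obtain ⟨r₀, hr₀⟩ := mapAlgHom_surjective (G := Multiplicative N) π (Ideal.Quotient.mkₐ_surjective A I) b
      let d := fA r₀ - a'
      let d' : MonoidAlgebra A (Multiplicative N) :=
        MonoidAlgebra.mapDomain (AddMonoidHom.toMultiplicative (AddSubmonoid.inclusion hF.le)) d
      have hd : pF d = 0 := by
        rw [map_sub, sub_eq_zero]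
        refine ((AlgHom.congr_fun (faceC_natural hF A π) r₀).symm.trans ?_).trans hba
        exact congrArg fC hr₀
      have hd₁ : q₁ d' = 0 := by
        have e : ∀ z : MonoidAlgebra A (Multiplicative F),
            q₁ (MonoidAlgebra.mapDomain (AddMonoidHom.toMultiplicative (AddSubmonoid.inclusion hF.le)) z) =
              MonoidAlgebra.mapDomain (AddMonoidHom.toMultiplicative (AddSubmonoid.inclusion hF.le)) (pF z) := by
          intro z
          induction z using MonoidAlgebra.induction_linear with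
          | zero => simp
          | add x y hx hy => simp only [MonoidAlgebra.mapDomain_add, map_add, hx, hy]
          | single n c => simp [q₁, pF]
        rw [e, hd, MonoidAlgebra.mapDomain_zero]
      have hd₂ : fA d' = d := AlgHom.congr_fun (Magnet.faceAlgHom_comp_mapDomain A hF) d
      refine ⟨q (r₀ - d'), ?_, ?_⟩
      · show q₁ (r₀ - d') = b
        rw [map_sub, hd₁, sub_zero, hr₀]
      · show fA (r₀ - d') = a'
        rw [map_sub, hd₂]
        exact sub_sub_cancel _ _
    · obtain ⟨r, rfl⟩ := Ideal.Quotient.mkₐ_surjective A K z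
      obtain ⟨r', rfl⟩ := Ideal.Quotient.mkₐ_surjective A K z'
      refine Ideal.Quotient.eq.2 ⟨?_, ?_⟩
      · show q₁ (r - r') = 0
        rw [map_sub, sub_eq_zero]
        exact h₁
      · show fA (r - r') = 0
        rw [map_sub, sub_eq_zero]
        exact h₂
  have hθK : ∀ r ∈ K, ((MonoidAlgebra.mapAlgHom (Multiplicative M) q).comp θ) r = 0 := by
    intro r hr
    refine MonoidAlgebra.coeff_inj.1 (Finsupp.ext fun m => ?_)
    rw [AlgHom.comp_apply, MonoidAlgebra.coeff_mapAlgHom]
    simp only [MonoidAlgebra.coeff_zero, Finsupp.zero_apply]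
    refine Ideal.Quotient.eq_zero_iff_mem.2 ⟨?_, ?_⟩
    · show q₁ ((θ r).coeff m) = 0
      rw [← MonoidAlgebra.coeff_mapAlgHom, ← AlgHom.comp_apply, ← thetaC_natural N A π, AlgHom.comp_apply,
        show q₁ r = 0 from hr.1]
      simp
    · show fA ((θ r).coeff m) = 0
      rw [← MonoidAlgebra.coeff_mapAlgHom, ← AlgHom.comp_apply, ← thetaC_faceC hF A, AlgHom.comp_apply,
        show fA r = 0 from hr.2]
      simp
  let θ₀ : R₀ →ₐ[A] MonoidAlgebra R₀ (Multiplicative M) :=
    Ideal.Quotient.liftₐ K ((MonoidAlgebra.mapAlgHom (Multiplicative M) q).comp θ) hθK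
  have hq : θ₀.comp q = (MonoidAlgebra.mapAlgHom _ q).comp θ := AlgHom.ext fun r => rfl
  have hθi : (MonoidAlgebra.mapAlgHom (Multiplicative M) i).comp θ₀ = (thetaC N (A ⧸ I)).comp i := by
    refine AlgHom.ext fun z => ?_
    obtain ⟨r, rfl⟩ := Ideal.Quotient.mkₐ_surjective A K z
    show ((MonoidAlgebra.mapAlgHom (Multiplicative M) i).comp (MonoidAlgebra.mapAlgHom _ q)) (θ r) = _
    rw [mapAlgHom_comp', hi]
    exact (AlgHom.congr_fun (thetaC_natural N A π) r).symm
  have hθj : (MonoidAlgebra.mapAlgHom (Multiplicative M) j).comp θ₀ = (thetaC F A).comp j := by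
    refine AlgHom.ext fun z => ?_
    obtain ⟨r, rfl⟩ := Ideal.Quotient.mkₐ_surjective A K z
    show ((MonoidAlgebra.mapAlgHom (Multiplicative M) j).comp (MonoidAlgebra.mapAlgHom _ q)) (θ r) = _
    rw [mapAlgHom_comp', hj]
    exact (AlgHom.congr_fun (thetaC_faceC hF A) r).symm
  have H := isPushout_spHom str hFer
  have hcompat : spHom str pF ≫ chart str A F ≫ y.1 = spHom str fC ≫ chart str (A ⧸ I) N ≫ x.1 := by
    rw [← Category.assoc, spHom_mapAlgHom_chart, Category.assoc, ← h, ← Category.assoc, chart_faceMapC,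
      Category.assoc]
  let u₀ : spT str R₀ ⟶ X := H.desc _ _ hcompat
  have hu₀F : spHom str j ≫ u₀ = chart str A F ≫ y.1 := H.inl_desc _ _ _
  have hu₀N : spHom str i ≫ u₀ = chart str (A ⧸ I) N ≫ x.1 := H.inr_desc _ _ _
  have hu₀ : spHom str θ₀ ≫ u₀ = trPt str a u₀ := by
    refine (isPushout_spHom str (isFerrand_mapAlgHom (Multiplicative M) hFer)).hom_ext ?_ ?_
    · rw [← Category.assoc, spHom_comp, hθj, ← spHom_comp, Category.assoc, spHom_trPt, hu₀F]
      exact equivariant_chartC str F A a y.2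
    · rw [← Category.assoc, spHom_comp, hθi, ← spHom_comp, Category.assoc, spHom_trPt, hu₀N]
      exact equivariant_chartC str N (A ⧸ I) a x.2
  haveI : Smooth (toUnit X).left := ‹Smooth X.hom›
  have hq2 : RingHom.ker q ^ 2 = ⊥ := by
    rw [hqker, ← le_bot_iff, ← mapAlgHom_ker_sq (G := Multiplicative N) π hπ2]
    exact Ideal.pow_right_mono inf_le_left 2
  obtain ⟨u, hu₁, -, hu₃⟩ := exists_eqv_lift str a (Magnet.MonAct.trivial (Magnet.AMonS S M) (𝟙_ (Over S))) (toUnit X)
    (toUnit_unique _ _) θ θ₀ q (Ideal.Quotient.mkₐ_surjective A K) hq2 (counit_thetaC N A) (coassoc_thetaC N A) hq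
    (toUnit _) (toUnit_unique _ _) u₀ hu₀ (toUnit_unique _ _)
  let l := inv (chart str A N) ≫ u
  have hl : chart str A N ≫ l = u := by simp [l]
  have hle : Magnet.MonAct.IsEquivariant ((Magnet.subAct S M N).prod (Magnet.MonAct.trivial _ (spT str A))) a l := by
    refine isEquivariant_of_chart str N a ?_
    rw [hl, spHom_theta_eq str]
    exact hu₃
  refine ⟨⟨l, hle⟩, ?_, ?_⟩
  · refine (cancel_epi (chart str (A ⧸ I) N)).1 ?_
    rw [← Category.assoc, ← spHom_mapAlgHom_chart, Category.assoc, hl,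
      show spHom str q₁ = spHom str i ≫ spHom str q by rw [spHom_comp, hi], Category.assoc, hu₁, hu₀N]
  · refine (cancel_epi (chart str A F)).1 ?_
    rw [← Category.assoc, chart_faceMapC, Category.assoc, hl,
      show spHom str fA = spHom str j ≫ spHom str q by rw [spHom_comp, hj], Category.assoc, hu₁, hu₀F]

theorem hasLift_face [Smooth X.hom] (I : Ideal A) (hI : I ^ 2 = ⊥)
    (x : (Magnet.attr a N).obj (op (Over.mk (Spec.map (CommRingCat.ofHom (Ideal.Quotient.mk I)) ≫ str))))
    (y : (Magnet.attr a F).obj (op (Over.mk str)))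
    (h : (Magnet.attrFace a hF).app _ x = (Magnet.attr a F).map (Over.homMk (Spec.map (CommRingCat.ofHom (Ideal.Quotient.mk I))) rfl :
        Over.mk (Spec.map (CommRingCat.ofHom (Ideal.Quotient.mk I)) ≫ str) ⟶ Over.mk str).op y) :
    ∃ l : (Magnet.attr a N).obj (op (Over.mk str)),
      (Magnet.attr a N).map (Over.homMk (Spec.map (CommRingCat.ofHom (Ideal.Quotient.mk I))) rfl :
        Over.mk (Spec.map (CommRingCat.ofHom (Ideal.Quotient.mk I)) ≫ str) ⟶ Over.mk str).op l = x ∧
      (Magnet.attrFace a hF).app _ l = y := by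
  have hid : Spec.map (CommRingCat.ofHom (algebraMap A A)) = 𝟙 (Spec (CommRingCat.of A)) := Spec.map_id _
  let t₁ : spT str A ⟶ Over.mk str := Over.homMk (𝟙 _) (by
    show 𝟙 _ ≫ str = Spec.map _ ≫ str
    rw [hid])
  let t₂ : Over.mk str ⟶ spT str A := Over.homMk (𝟙 _) (by
    show 𝟙 _ ≫ Spec.map _ ≫ str = str
    rw [hid, Category.id_comp, Category.id_comp])
  have h21 : t₂ ≫ t₁ = 𝟙 _ := Over.OverMorphism.ext (Category.id_comp _)
  let π' : spT str (A ⧸ I) ⟶ Over.mk str := Over.homMk (Spec.map (CommRingCat.ofHom (Ideal.Quotient.mk I))) rfl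
  have hπ : spHom str (Ideal.Quotient.mkₐ A I) ≫ t₁ = π' := Over.OverMorphism.ext (Category.comp_id _)
  have hπ2 : π' ≫ t₂ = spHom str (Ideal.Quotient.mkₐ A I) := Over.OverMorphism.ext (Category.comp_id _)
  obtain ⟨l, hl₁, hl₂⟩ := hasLift_face_spT str hF a I hI x ((Magnet.attr a F).map t₁.op y) (by
    show (Magnet.AMonS.faceMap S hF ▷ spT str (A ⧸ I)) ≫ x.1 =
      (Magnet.AMonS S F ◁ spHom str (Ideal.Quotient.mkₐ A I)) ≫ (Magnet.AMonS S F ◁ t₁) ≫ y.1
    rw [← MonoidalCategory.whiskerLeft_comp_assoc, hπ]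
    exact congrArg Subtype.val h)
  refine ⟨(Magnet.attr a N).map t₂.op l, Subtype.ext ?_, Subtype.ext ?_⟩
  · show (Magnet.AMonS S N ◁ π') ≫ (Magnet.AMonS S N ◁ t₂) ≫ l.1 = x.1
    rw [← MonoidalCategory.whiskerLeft_comp_assoc, hπ2, hl₁]
  · show (Magnet.AMonS.faceMap S hF ▷ Over.mk str) ≫ (Magnet.AMonS S N ◁ t₂) ≫ l.1 = y.1
    rw [← whisker_exchange_assoc, hl₂]
    show (Magnet.AMonS S F ◁ t₂) ≫ (Magnet.AMonS S F ◁ t₁) ≫ y.1 = y.1
    rw [← MonoidalCategory.whiskerLeft_comp_assoc, h21, MonoidalCategory.whiskerLeft_id, Category.id_comp]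

end Groth.Agent.MagFace16
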