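import Groth.Agent.Lib.SmoothLift15.Main
import Groth.Prelude.Def_Magnet3

/-! Smoothness of a morphism of representing objects from infinitesimal lifting. -/

set_option autoImplicit false
set_option backward.isDefEq.respectTransparency.types false
universe u

open CategoryTheory AlgebraicGeometry Opposite

namespace Groth.Agent.MagFace16

variable {S : Scheme.{u}} {ZX ZY : Over S} {F G : (Over S)ᵒᵖ ⥤ Type u}

theorem smooth_of_hasLift (ν : F ⟶ G) (eX : F.RepresentableBy ZX) (eY : G.RepresentableBy ZY) (j : ZX ⟶ ZY)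
    (hj : ∀ (T : Over S) (z : T ⟶ ZX), eY.homEquiv (z ≫ j) = ν.app (op T) (eX.homEquiv z))
    (hp : LocallyOfFinitePresentation j.left)
    (H : ∀ (A : Type u) [CommRing A] (I : Ideal A), I ^ 2 = ⊥ → ∀ (str : Spec (CommRingCat.of A) ⟶ S)
      (x : F.obj (op (Over.mk (Spec.map (CommRingCat.ofHom (Ideal.Quotient.mk I)) ≫ str))))
      (y : G.obj (op (Over.mk str))),
      ν.app _ x = G.map (Over.homMk (Spec.map (CommRingCat.ofHom (Ideal.Quotient.mk I))) rfl :
        Over.mk (Spec.map (CommRingCat.ofHom (Ideal.Quotient.mk I)) ≫ str) ⟶ Over.mk str).op y →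
      ∃ l : F.obj (op (Over.mk str)),
        F.map (Over.homMk (Spec.map (CommRingCat.ofHom (Ideal.Quotient.mk I))) rfl :
          Over.mk (Spec.map (CommRingCat.ofHom (Ideal.Quotient.mk I)) ≫ str) ⟶ Over.mk str).op l = x ∧
        ν.app _ l = y) :
    Smooth j.left := by
  rw [Groth.Agent.SmoothLift15.smooth_iff]
  refine ⟨hp, fun A _ I hI a b hab => ?_⟩
  let q := Spec.map (CommRingCat.ofHom (Ideal.Quotient.mk I))
  let za : Over.mk (q ≫ b ≫ ZY.hom) ⟶ ZX := Over.homMk a (by
    show a ≫ ZX.hom = q ≫ b ≫ ZY.hom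
    rw [← Category.assoc, hab, Category.assoc, Over.w j])
  let zb : Over.mk (b ≫ ZY.hom) ⟶ ZY := Over.homMk b rfl
  let π : Over.mk (q ≫ b ≫ ZY.hom) ⟶ Over.mk (b ≫ ZY.hom) := Over.homMk q rfl
  obtain ⟨l, hl₁, hl₂⟩ := H A I hI (b ≫ ZY.hom) (eX.homEquiv za) (eY.homEquiv zb) (by
    show _ = G.map π.op _
    rw [← hj, ← eY.homEquiv_comp]
    exact congrArg _ (Over.OverMorphism.ext hab.symm))
  refine ⟨(eX.homEquiv.symm l).left, ?_, ?_⟩
  · have h : π ≫ eX.homEquiv.symm l = za := eX.homEquiv.injective (by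
      rw [eX.homEquiv_comp, Equiv.apply_symm_apply]
      exact hl₁)
    exact congrArg (fun z => z.left) h
  · have h : eX.homEquiv.symm l ≫ j = zb := eY.homEquiv.injective (by
      rw [hj, Equiv.apply_symm_apply]
      exact hl₂)
    exact congrArg (fun z => z.left) h

end Groth.Agent.MagFace16
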