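import Groth.Agent.Lib.ThickAff3.Affine
import Mathlib.AlgebraicGeometry.Morphisms.Immersion
import Mathlib.AlgebraicGeometry.IdealSheaf.Functorial

/-! The first infinitesimal neighbourhood of an affine locally closed subscheme is affine and universal. -/

set_option autoImplicit false
set_option linter.style.haveILetI false
universe u

open CategoryTheory AlgebraicGeometry

noncomputable section

namespace Groth.Agent.MagFace16

theorem isClosedImmersion_surjective_sqZero {C C₀ : CommRingCat.{u}} (q : C ⟶ C₀) (hq : Function.Surjective q.hom)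
    (h2 : RingHom.ker q.hom ^ 2 = ⊥) : IsClosedImmersion (Spec.map q) ∧ Surjective (Spec.map q) := by
  refine ⟨IsClosedImmersion.spec_of_surjective _ hq, ⟨fun (x : PrimeSpectrum C) => ?_⟩⟩
  have : x ∈ Set.range (PrimeSpectrum.comap q.hom) := by
    rw [range_comap_of_surjective _ _ hq]
    intro y hy
    refine x.isPrime.mem_of_pow_mem 2 ?_
    have h := Ideal.pow_mem_pow hy 2
    rw [h2, Ideal.mem_bot] at h
    exact h ▸ x.asIdeal.zero_mem
  exact this

theorem mul_eq_zero_sqZero {C C₀ : CommRingCat.{u}} (q : C ⟶ C₀) (hq : Function.Surjective q.hom)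
    (h2 : RingHom.ker q.hom ^ 2 = ⊥) (U : (Spec C).Opens) (x y : Γ(Spec C, U)) (hx : (Spec.map q).app U x = 0)
    (hy : (Spec.map q).app U y = 0) : x * y = 0 := by
  haveI := (isClosedImmersion_surjective_sqZero q hq h2).1
  refine ThickAff3.mul_eq_zero_of_cover (Spec.map q) (fun _ : Unit => (⊤ : (Spec C).Opens))
    (fun _ => isAffineOpen_top _) (by simp) (fun _ a b ha hb => ?_) U x y hx hy
  have key : ∀ c : Γ(Spec C, ⊤), (Spec.map q).app ⊤ c = 0 →
      (Scheme.ΓSpecIso C).hom c ∈ RingHom.ker q.hom := fun c hc => by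
    rw [RingHom.mem_ker]
    show ((Scheme.ΓSpecIso C).hom ≫ q) c = 0
    rw [← Scheme.ΓSpecIso_naturality]
    show (Scheme.ΓSpecIso C₀).hom ((Spec.map q).appTop c) = 0
    rw [show (Spec.map q).appTop c = 0 from hc, map_zero]
  apply (Scheme.ΓSpecIso C).commRingCatIsoToRingEquiv.injective
  rw [map_zero, map_mul, ← Ideal.mem_bot, ← h2, pow_two]
  exact Ideal.mul_mem_mul (key a ha) (key b hb)

/-- The first infinitesimal neighbourhood. -/
theorem exists_thick {R₀ : CommRingCat.{u}} {P : Scheme.{u}} (γ : Spec R₀ ⟶ P) [IsImmersion γ] :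
    ∃ (B : CommRingCat.{u}) (i : Spec B ⟶ P) (π : B ⟶ R₀), Mono i ∧ Function.Surjective π.hom ∧
      RingHom.ker π.hom ^ 2 = ⊥ ∧ Spec.map π ≫ i = γ ∧
      ∀ (C C₀ : CommRingCat.{u}) (q : C ⟶ C₀), Function.Surjective q.hom → RingHom.ker q.hom ^ 2 = ⊥ →
        ∀ (Φ : Spec C ⟶ P) (w : Spec C₀ ⟶ Spec R₀), Spec.map q ≫ Φ = w ≫ γ → ∃ l, l ≫ i = Φ := by
  let h := γ.liftCoborder
  let W := γ.coborderRange
  have hγ : h ≫ W.ι = γ := γ.liftCoborder_ι
  let J := h.ker ^ 2
  let ι₁ := J.subschemeι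
  have hJ : ∀ V, J.ideal V = RingHom.ker (h.app V).hom ^ 2 := fun V => by
    rw [Scheme.IdealSheafData.ideal_pow, Pi.pow_apply, h.ker_apply]
  obtain ⟨s, hs⟩ : ∃ s, s ≫ ι₁ = h := by
    refine ⟨_, IsClosedImmersion.lift_fac ι₁ h ?_⟩
    rw [Scheme.IdealSheafData.ker_subschemeι]
    exact fun V => by
      rw [Scheme.IdealSheafData.ideal_pow, Pi.pow_apply]
      exact Ideal.pow_le_self two_ne_zero
  haveI : IsClosedImmersion (s ≫ ι₁) := by rw [hs]; infer_instance
  haveI : IsClosedImmersion s := IsClosedImmersion.of_comp_isClosedImmersion s ι₁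
  haveI : Surjective s := ⟨fun z => by
    have hz : ι₁ z ∈ (J.support : Set _) := J.range_subschemeι ▸ Set.mem_range_self z
    rw [Scheme.IdealSheafData.support_pow _ 2 two_ne_zero, Scheme.Hom.support_ker] at hz
    obtain ⟨p, hp⟩ := (h.isClosedEmbedding.isClosed_range.closure_eq ▸ hz : ι₁ z ∈ Set.range h)
    exact ⟨p, ι₁.isClosedEmbedding.injective (by rw [← Scheme.Hom.comp_apply, hs, hp])⟩⟩
  have hsq : ∀ (U : J.subscheme.Opens) (x y : Γ(J.subscheme, U)), s.app U x = 0 → s.app U y = 0 → x * y = 0 := by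
    refine ThickAff3.mul_eq_zero_of_cover s
      (fun U : W.toScheme.affineOpens => ι₁ ⁻¹ᵁ (U.1 : W.toScheme.Opens)) (fun U => U.2.preimage _) ?_ ?_
    · rw [← Scheme.Hom.preimage_iSup, iSup_affineOpens_eq_top]
      rfl
    intro U x y hx hy
    obtain ⟨x, rfl⟩ := J.subschemeι_app_surjective U x
    obtain ⟨y, rfl⟩ := J.subschemeι_app_surjective U y
    have key : ∀ z, s.app _ (J.subschemeι.app U z) = 0 → z ∈ RingHom.ker (h.app U).hom := fun z hz =>
      ThickAff3.ker_app_of_eq h (s ≫ J.subschemeι) hs U z (by rw [Scheme.Hom.comp_app]; exact hz)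
    have hxy : x * y ∈ RingHom.ker (J.subschemeι.app U).hom := by
      rw [J.ker_subschemeι_app U, hJ, pow_two]
      exact Ideal.mul_mem_mul (key x hx) (key y hy)
    rw [← map_mul]
    exact hxy
  haveI : IsAffine J.subscheme := ThickAff3.isAffine_of_sq_zero s hsq
  let e := J.subscheme.isoSpec
  let π : Γ(J.subscheme, ⊤) ⟶ R₀ := s.appTop ≫ (Scheme.ΓSpecIso R₀).hom
  have hes : Spec.map π = s ≫ e.hom := by
    rw [← Scheme.isoSpec_hom_naturality, Scheme.isoSpec_Spec_hom, ← Spec.map_comp]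
  refine ⟨Γ(J.subscheme, ⊤), e.inv ≫ ι₁ ≫ W.ι, π, inferInstance, ?_, ?_, ?_, ?_⟩
  · intro r
    obtain ⟨b, hb⟩ := ThickAff3.app_top_surjective s hsq ((Scheme.ΓSpecIso R₀).inv r)
    refine ⟨b, ?_⟩
    show (Scheme.ΓSpecIso R₀).hom (s.appTop b) = r
    rw [hb]
    exact (Scheme.ΓSpecIso R₀).inv_hom_id_apply r
  · rw [pow_two, eq_bot_iff]
    refine Ideal.mul_le.2 fun x hx y hy => (Ideal.mem_bot).2 (hsq ⊤ x y ?_ ?_)
    · exact (Scheme.ΓSpecIso R₀).commRingCatIsoToRingEquiv.injective (hx.trans (map_zero _).symm)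
    · exact (Scheme.ΓSpecIso R₀).commRingCatIsoToRingEquiv.injective (hy.trans (map_zero _).symm)
  · rw [hes, Category.assoc, Iso.hom_inv_id_assoc, ← Category.assoc, hs, hγ]
  intro C C₀ q hq h2 Φ w hw
  obtain ⟨_, hsurj⟩ := isClosedImmersion_surjective_sqZero q hq h2
  have hrange : Set.range Φ ⊆ Set.range W.ι := by
    rintro _ ⟨z, rfl⟩
    obtain ⟨z₀, rfl⟩ := hsurj.surj z
    refine ⟨h (w z₀), ?_⟩
    rw [← Scheme.Hom.comp_apply, ← Scheme.Hom.comp_apply, ← Scheme.Hom.comp_apply, hγ, hw]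
  let ΦW := IsOpenImmersion.lift W.ι Φ hrange
  have hΦW : ΦW ≫ W.ι = Φ := IsOpenImmersion.lift_fac _ _ _
  have hqW : Spec.map q ≫ ΦW = w ≫ h := by
    rw [← cancel_mono W.ι, Category.assoc, Category.assoc, hΦW, hγ, hw]
  have hle : ι₁.ker ≤ ΦW.ker := by
    rw [Scheme.IdealSheafData.ker_subschemeι]
    refine Scheme.IdealSheafData.le_ofIdeals_iff.2 fun U => ?_
    rw [hJ, pow_two]
    refine Ideal.mul_le.2 fun x hx y hy => ?_
    rw [RingHom.mem_ker, map_mul]
    have key : ∀ z, z ∈ RingHom.ker (h.app U).hom → (Spec.map q).app _ (ΦW.app U z) = 0 := fun z hz => by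
      have h' : h.app U z = 0 := hz
      have : (w ≫ h).app U z = 0 := by
        rw [Scheme.Hom.comp_app]
        show w.app _ (h.app U z) = 0
        rw [h', map_zero]
      have e : ∀ (f g : Spec C₀ ⟶ W.toScheme), f = g → f.app U.1 z = 0 → g.app U.1 z = 0 := by
        rintro f g rfl hf
        exact hf
      have := e _ _ hqW.symm this
      rwa [Scheme.Hom.comp_app] at this
    exact mul_eq_zero_sqZero q hq h2 _ _ _ (key x hx) (key y hy)
  refine ⟨IsClosedImmersion.lift ι₁ ΦW hle ≫ e.hom, ?_⟩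
  rw [Category.assoc, Iso.hom_inv_id_assoc, ← Category.assoc, IsClosedImmersion.lift_fac, hΦW]

end Groth.Agent.MagFace16
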