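import Groth.Agent.Lib.MagFace16.Cls
import Groth.Agent.Lib.RootCh.Convex
import Mathlib.Data.Rat.Lemmas

/-! A weight cutting out a face of a finitely generated magnet. -/

set_option autoImplicit false

namespace Groth.Agent.MagFace16

variable {M : Type} [AddCommGroup M] {N Q : AddSubmonoid M}

theorem exists_natScale {ι : Type*} [Fintype ι] (c : ι → ℚ) :
    ∃ (D : ℕ) (z : ι → ℤ), 0 < D ∧ ∀ i, (z i : ℚ) = D * c i := by
  classical
  refine ⟨∏ i, (c i).den, fun i => (c i).num * ∏ j ∈ Finset.univ.erase i, ((c j).den : ℤ),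
    Finset.prod_pos fun i _ => (c i).pos, fun i => ?_⟩
  rw [← Finset.mul_prod_erase Finset.univ (fun j => (c j).den) (Finset.mem_univ i)]
  push_cast
  rw [← Rat.mul_den_eq_num (c i)]
  ring

/-- A functional vanishing exactly on the face. -/
theorem exists_weight [AddGroup.FG M] (hQ : Magnet.IsFace N Q) (hN : N.FG) :
    ∃ χ : M →+ ℤ, ∀ n ∈ N, 0 ≤ χ n ∧ (χ n = 0 ↔ n ∈ Q) := by
  classical
  obtain ⟨r, ψ, hψ⟩ := exists_coord hQ
  obtain ⟨T, hT⟩ := hN
  let T' := T.filter (· ∉ Q)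
  let k := T'.card
  let g : Fin k → M := fun i => (T'.equivFin.symm i).1
  have hgN : ∀ i, g i ∈ N := fun i => hT ▸ AddSubmonoid.subset_closure
    (Finset.mem_filter.1 (T'.equivFin.symm i).2).1
  have hgQ : ∀ i, g i ∉ Q := fun i => (Finset.mem_filter.1 (T'.equivFin.symm i).2).2
  obtain ⟨y, hy⟩ : ∃ y : Fin r → ℚ, ∀ i, 0 < ∑ j, y j * (ψ (g i) j : ℚ) := by
    by_contra hno
    push Not at hno
    rcases Nat.eq_zero_or_pos k with hk | hk
    · obtain ⟨i, -⟩ := hno 0
      exact (Fin.cast hk i).elim0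
    let a : Fin k → Module.Dual ℚ ((Fin r → ℚ) × ℚ) := fun i =>
      LinearMap.snd ℚ _ ℚ - (∑ j, (ψ (g i) j : ℚ) • (LinearMap.proj j ∘ₗ LinearMap.fst ℚ (Fin r → ℚ) ℚ))
    have ha : ∀ i v, a i v = v.2 - ∑ j, (ψ (g i) j : ℚ) * v.1 j := fun i v => by
      simp [a]
    obtain ⟨c, hc0, hce⟩ := RootChLib.farkas k a (LinearMap.snd ℚ _ ℚ) fun v hv => by
      obtain ⟨i, hi⟩ := hno v.1
      have h1 := hv i
      rw [ha] at h1
      have : ∑ j, (ψ (g i) j : ℚ) * v.1 j = ∑ j, v.1 j * (ψ (g i) j : ℚ) :=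
        Finset.sum_congr rfl fun j _ => mul_comm _ _
      show v.2 ≤ 0
      linarith
    have hsum : ∑ i, c i = 1 := by
      have h1 := LinearMap.congr_fun hce (0, 1)
      simp only [LinearMap.sum_apply, LinearMap.smul_apply, ha, smul_eq_mul] at h1
      simpa using h1.symm
    have hzero : ∀ j, ∑ i, c i * (ψ (g i) j : ℚ) = 0 := fun j => by
      have h1 := LinearMap.congr_fun hce (Pi.single j 1, 0)
      simp only [LinearMap.sum_apply, LinearMap.smul_apply, ha, smul_eq_mul] at h1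
      simpa [Pi.single_apply] using h1
    obtain ⟨D, z, hD, hz⟩ := exists_natScale c
    have hz0 : ∀ i, 0 ≤ z i := fun i => by
      have : (0 : ℚ) ≤ (z i : ℚ) := by rw [hz]; exact mul_nonneg (Nat.cast_nonneg _) (hc0 i)
      exact_mod_cast this
    let n : M := ∑ i, (z i).toNat • g i
    have hn : n ∈ N := sum_mem fun i _ => nsmul_mem (hgN i) _
    have hnQ : n ∈ Q := (hψ n hn).1 (by
      ext j
      have : (ψ n j : ℚ) = 0 := by
        simp only [n, map_sum, map_nsmul, Finsupp.finsetSum_apply, Finsupp.smul_apply, nsmul_eq_mul,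
          Int.toNat_of_nonneg (hz0 _), Int.cast_sum, Int.cast_mul]
        rw [show (∑ i, (z i : ℚ) * (ψ (g i) j : ℚ)) = (D : ℚ) * ∑ i, c i * (ψ (g i) j : ℚ) from by
          rw [Finset.mul_sum]; exact Finset.sum_congr rfl fun i _ => by rw [hz]; ring]
        rw [hzero, mul_zero]
      exact_mod_cast this)
    obtain ⟨i, hi⟩ : ∃ i, c i ≠ 0 := by
      by_contra h
      push Not at h
      simp [h] at hsum
    have hzi : (z i).toNat ≠ 0 := fun h => by
      have h1 : z i = 0 := le_antisymm (Int.toNat_eq_zero.1 h) (hz0 i)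
      have h2 := hz i
      rw [h1, Int.cast_zero] at h2
      rcases mul_eq_zero.1 h2.symm with h3 | h3
      · exact absurd (Nat.cast_eq_zero.1 h3) hD.ne'
      · exact hi h3
    obtain ⟨m, hm⟩ := Nat.exists_eq_succ_of_ne_zero hzi
    have hsplit : n = g i + (m • g i + ∑ l ∈ Finset.univ.erase i, (z l).toNat • g l) := by
      show ∑ i, (z i).toNat • g i = _
      rw [← Finset.add_sum_erase _ _ (Finset.mem_univ i), hm, succ_nsmul]
      abel
    exact hgQ i (hQ.mem_of_add_mem _ (hgN i) _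
      (add_mem (nsmul_mem (hgN i) _) (sum_mem fun l _ => nsmul_mem (hgN l) _)) (hsplit ▸ hnQ)).1
  obtain ⟨D, z, hD, hz⟩ := exists_natScale y
  let χ : M →+ ℤ :=
    { toFun := fun m => ∑ j, z j * ψ m j
      map_zero' := by simp
      map_add' := fun a b => by simp [mul_add, Finset.sum_add_distrib] }
  have hχ : ∀ i, 0 < χ (g i) := fun i => by
    have h1 : (χ (g i) : ℚ) = D * ∑ j, y j * (ψ (g i) j : ℚ) := by
      show ((∑ j, z j * ψ (g i) j : ℤ) : ℚ) = _
      push_cast
      rw [Finset.mul_sum]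
      exact Finset.sum_congr rfl fun j _ => by rw [hz]; ring
    have h2 : (0 : ℚ) < (χ (g i) : ℚ) := by rw [h1]; exact mul_pos (by exact_mod_cast hD) (hy i)
    exact_mod_cast h2
  refine ⟨χ, fun n hn => ?_⟩
  rw [← hT] at hn
  induction hn using AddSubmonoid.closure_induction with
  | mem x hx =>
    by_cases h : x ∈ Q
    · have : χ x = 0 := by
        show ∑ j, z j * ψ x j = 0
        simp [(hψ x (hQ.le h)).2 h]
      exact ⟨this.ge, iff_of_true this h⟩
    · obtain ⟨i, hi⟩ : ∃ i, g i = x := ⟨T'.equivFin ⟨x, Finset.mem_filter.2 ⟨hx, h⟩⟩, by simp [g]⟩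
      have := hχ i
      rw [hi] at this
      exact ⟨this.le, iff_of_false this.ne' h⟩
  | zero => simp [zero_mem]
  | add x y hx hy ihx ihy =>
    have hxN : x ∈ N := hT ▸ hx
    have hyN : y ∈ N := hT ▸ hy
    rw [map_add]
    refine ⟨add_nonneg ihx.1 ihy.1, (add_eq_zero_iff_of_nonneg ihx.1 ihy.1).trans ?_⟩
    rw [ihx.2, ihy.2]
    exact ⟨fun h => add_mem h.1 h.2, fun h => hQ.mem_of_add_mem x hxN y hyN h⟩

end Groth.Agent.MagFace16
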